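import Groth.Agent.ArtinBoot49.WeilScheme

/-!
# The classifying stack of a flat affine group scheme of finite presentation is algebraic
-/

set_option autoImplicit false
set_option backward.isDefEq.respectTransparency false
set_option backward.isDefEq.respectTransparency.types false
set_option linter.unusedVariables false

universe u

open CategoryTheory CategoryTheory.Functor CategoryTheory.Limits MonoidalCategory CartesianMonoidalCategory MonObj
open AlgebraicGeometry AlgSp Groth.Agent.AlgSpLib Groth.Agent.AlgSpDec Groth.Agent.GrpSchLib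
open scoped TensorProduct

namespace Groth.Agent.ArtinBoot49

variable {S : Scheme.{u}} {G : Over S} [GrpObj G]

section Sigma

variable {κ : Type u} (W : κ → Over S)

theorem hom_ext_whisker (X : Over S) {Y : Over S} {a b : X ⊗ sigmaOver W ⟶ Y}
    (h : ∀ i, (X ◁ sigmaι W i) ≫ a = (X ◁ sigmaι W i) ≫ b) : a = b := by
  have hop : ∀ i, IsOpenImmersion (X ◁ sigmaι W i).left := fun i =>
    MorphismProperty.of_isPullback ((AlgSt.isPullback_whiskerLeft (sigmaι W i)).map (Over.forget S)).flip
      (inferInstanceAs (IsOpenImmersion (sigmaι W i).left))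
  have hcov : ∀ z : ↥(X ⊗ sigmaOver W).left, ∃ i, z ∈ Set.range (X ◁ sigmaι W i).left := by
    intro z
    obtain ⟨i, v, hv⟩ := exists_sigmaι W ((snd X (sigmaOver W)).left z)
    obtain ⟨w, hw, -⟩ := Scheme.exists_preimage_of_isPullback
      ((AlgSt.isPullback_whiskerLeft (sigmaι W i)).map (Over.forget S)) z v hv.symm
    exact ⟨i, w, hw⟩
  refine Over.OverMorphism.ext (Scheme.Cover.hom_ext (Scheme.openCoverOfIsOpenCover (X ⊗ sigmaOver W).left
    (fun i => (haveI := hop i; (X ◁ sigmaι W i).left.opensRange)) ?_) _ _ fun i => ?_)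
  · refine TopologicalSpace.Opens.ext (Set.eq_univ_of_forall fun z => ?_)
    obtain ⟨i, hi⟩ := hcov z
    simp only [TopologicalSpace.Opens.coe_iSup, Set.mem_iUnion]
    exact ⟨i, hi⟩
  · have := hop i
    rw [← cancel_epi ((X ◁ sigmaι W i).left.isoOpensRange.hom)]
    simp only [Scheme.openCoverOfIsOpenCover_f, ← Category.assoc, Scheme.Hom.isoOpensRange_hom_ι]
    exact congrArg Over.Hom.left (h i)

/-- A family of free actions gives a free action on the disjoint union. -/
theorem exists_action_sigma (b : ∀ i, AlgGrp.Action G (W i)) (hb : ∀ i, IsFree (b i)) :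
    ∃ a : AlgGrp.Action G (sigmaOver W), IsFree a := by
  let φ : (∐ fun i => (G ⊗ W i).left) ⟶ (G ⊗ sigmaOver W).left := Sigma.desc fun i => (G ◁ sigmaι W i).left
  have hop : ∀ i, IsOpenImmersion (G ◁ sigmaι W i).left := fun i =>
    MorphismProperty.of_isPullback ((AlgSt.isPullback_whiskerLeft (sigmaι W i)).map (Over.forget S)).flip
      (inferInstanceAs (IsOpenImmersion (sigmaι W i).left))
  have hdisj : Pairwise (Function.onFun Disjoint fun i => Set.range (G ◁ sigmaι W i).left) := by
    intro i i' hii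
    refine Set.disjoint_iff_forall_ne.2 ?_
    rintro _ ⟨x, rfl⟩ _ ⟨y, rfl⟩ e
    refine hii (sigmaι_injective W (v := (snd G (W i)).left x) (w := (snd G (W i')).left y) ?_)
    rw [← Scheme.Hom.comp_apply, ← Scheme.Hom.comp_apply, ← Over.comp_left, ← Over.comp_left,
      ← whiskerLeft_snd, ← whiskerLeft_snd, Over.comp_left, Over.comp_left, Scheme.Hom.comp_apply,
      Scheme.Hom.comp_apply, e]
  have : IsOpenImmersion φ :=
    haveI := hop
    isOpenImmersion_sigmaDesc (fun i => (G ⊗ W i).left) (fun i => (G ◁ sigmaι W i).left) hdisj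
  have : Surjective φ := ⟨fun z => by
    obtain ⟨i, v, hv⟩ := exists_sigmaι W ((snd G (sigmaOver W)).left z)
    obtain ⟨w, hw, -⟩ := Scheme.exists_preimage_of_isPullback
      ((AlgSt.isPullback_whiskerLeft (sigmaι W i)).map (Over.forget S)) z v hv.symm
    refine ⟨Sigma.ι (fun i => (G ⊗ W i).left) i w, ?_⟩
    rw [← Scheme.Hom.comp_apply, Sigma.ι_desc]
    exact hw⟩
  have : IsIso φ := isIso_of_isOpenImmersion_of_opensRange_eq_top φ
    (TopologicalSpace.Opens.ext φ.surjective.range_eq)
  let m₀ : (∐ fun i => (G ⊗ W i).left) ⟶ (sigmaOver W).left := Sigma.desc fun i => ((b i).act ≫ sigmaι W i).left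
  let m : G ⊗ sigmaOver W ⟶ sigmaOver W := Over.homMk (inv φ ≫ m₀) (by
    rw [Category.assoc, IsIso.inv_comp_eq]
    refine Sigma.hom_ext _ _ fun i => ?_
    rw [Sigma.ι_desc_assoc, Sigma.ι_desc_assoc]
    exact (Over.w ((b i).act ≫ sigmaι W i)).trans (Over.w (G ◁ sigmaι W i)).symm)
  have hm : ∀ i, (G ◁ sigmaι W i) ≫ m = (b i).act ≫ sigmaι W i := fun i => by
    refine Over.OverMorphism.ext ?_
    show (G ◁ sigmaι W i).left ≫ inv φ ≫ m₀ = _
    rw [show (G ◁ sigmaι W i).left = Sigma.ι (fun i => (G ⊗ W i).left) i ≫ φ from (Sigma.ι_desc (fun i => (G ◁ sigmaι W i).left) i).symm,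
      Category.assoc, IsIso.hom_inv_id_assoc, Sigma.ι_desc]
  refine ⟨⟨m, hom_ext_whisker W _ fun i => ?_, hom_ext_whisker W _ fun i => ?_⟩, fun T g x hx => ?_⟩
  · rw [whisker_exchange_assoc, hm, ← Category.assoc, (b i).one_act, leftUnitor_naturality]
  · rw [whisker_exchange_assoc, hm, ← Category.assoc, (b i).mul_act]
    simp only [Category.assoc, associator_naturality_right_assoc, ← MonoidalCategory.whiskerLeft_comp_assoc, hm]
    simp only [MonoidalCategory.whiskerLeft_comp, Category.assoc, hm]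
  · let c := (sigmaOpenCover fun i => (W i).left).pullback₁ x.left
    refine Over.OverMorphism.ext (Scheme.Cover.hom_ext c _ _ fun i => ?_)
    let T₁ : Over S := Over.mk (c.f i ≫ T.hom)
    let k : T₁ ⟶ T := Over.homMk (c.f i) rfl
    let x' : T₁ ⟶ W i := Over.homMk (pullback.snd x.left (Sigma.ι (fun i => (W i).left) i)) (by
      show _ ≫ (W i).hom = pullback.fst _ _ ≫ T.hom
      rw [← Over.w x, ← Category.assoc, pullback.condition, Category.assoc]
      congr 1
      exact (Sigma.ι_desc (fun i => (W i).hom) i).symm)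
    have hx' : x' ≫ sigmaι W i = k ≫ x := Over.OverMorphism.ext pullback.condition.symm
    have h1 : lift (k ≫ g) x' ≫ (b i).act = x' := by
      have : Mono (sigmaι W i) := by
        have : Mono (sigmaι W i).left := inferInstance
        exact Over.mono_of_mono_left _
      rw [← cancel_mono (sigmaι W i), Category.assoc, ← hm, lift_whiskerLeft_assoc, hx', ← comp_lift_assoc, hx]
    have h2 := hb i T₁ (k ≫ g) x' h1
    show (k ≫ g).left = (k ≫ toUnit T ≫ η[G]).left
    rw [h2, ← Category.assoc, toUnit_unique (k ≫ toUnit T) (toUnit T₁)]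

end Sigma

variable [Flat G.hom] [LocallyOfFinitePresentation G.hom] [IsAffineHom G.hom]

/-- Over an affine open there is a family of free actions with smooth points over every point. -/
theorem exists_piece (U : S.affineOpens) (s : S) (hs : s ∈ U.1) :
    ∃ (W : Over S) (a : AlgGrp.Action G W), IsFree a ∧ LocallyOfFinitePresentation W.hom ∧
      ∃ w : W.left, W.hom w = s ∧ MorLib.SmoothLoc.SM W.hom w := by
  let A : Type u := Γ(S, U.1)
  let j : Spec (CommRingCat.of A) ⟶ S := U.2.fromSpec
  have hop : IsOpenImmersion j := inferInstanceAs (IsOpenImmersion U.2.fromSpec)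
  let Gj := pullback G.hom j
  have : IsAffine Gj := isAffine_of_isAffineHom (pullback.snd G.hom j)
  let P : Type u := Γ(Gj, ⊤)
  obtain ⟨σ₀, hσ₀⟩ := Spec.map_surjective (Gj.isoSpec.inv ≫ pullback.snd G.hom j :
    Spec (CommRingCat.of P) ⟶ Spec (CommRingCat.of A))
  letI : Algebra A P := σ₀.hom.toAlgebra
  let ιG : Spec (CommRingCat.of P) ⟶ G.left := Gj.isoSpec.inv ≫ pullback.fst G.hom j
  have sqG : IsPullback ιG (Spec.map (CommRingCat.ofHom (algebraMap A P))) G.hom j :=
    (IsPullback.of_hasPullback G.hom j).of_iso Gj.isoSpec (Iso.refl _) (Iso.refl _) (Iso.refl _)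
      (by simp [ιG]) (by
        rw [show CommRingCat.ofHom (algebraMap A P) = σ₀ from rfl, hσ₀]
        simp [Gj]) (by simp) (by simp)
  have h1 : Flat (Spec.map (CommRingCat.ofHom (algebraMap A P))) := MorphismProperty.of_isPullback sqG ‹Flat G.hom›
  have h2 : LocallyOfFinitePresentation (Spec.map (CommRingCat.ofHom (algebraMap A P))) :=
    MorphismProperty.of_isPullback sqG ‹LocallyOfFinitePresentation G.hom›
  have : Module.Flat A P := RingHom.flat_algebraMap_iff.1 ((HasRingHomProperty.Spec_iff (P := @Flat)).1 h1)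
  have : Algebra.FinitePresentation A P :=
    RingHom.finitePresentation_algebraMap.1 ((HasRingHomProperty.Spec_iff (P := @LocallyOfFinitePresentation)).1 h2)
  obtain ⟨n, π, hπ, F, hF⟩ := Algebra.FinitePresentation.out (R := A) (A := P)
  let p : Spec (CommRingCat.of A) := U.2.primeIdealOf ⟨s, hs⟩
  have hp : j p = s := U.2.fromSpec_primeIdealOf ⟨s, hs⟩
  have : p.asIdeal.IsPrime := p.2
  obtain ⟨ε, -⟩ := exists_alg_of_hom j ιG sqG (toUnit (ov j A) ≫ η[G])
  have : Nontrivial (p.asIdeal.ResidueField ⊗[A] P) :=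
    (Algebra.TensorProduct.lift (AlgHom.id p.asIdeal.ResidueField p.asIdeal.ResidueField)
      ((Algebra.ofId A p.asIdeal.ResidueField).comp ε) fun _ _ => Commute.all _ _).toRingHom.domain_nontrivial
  obtain ⟨d, q, hq, hd, hqp, hsm⟩ := exists_smooth_point π hπ hF.symm p.asIdeal
  obtain ⟨w, ⟨e⟩⟩ := exists_wr j d π hπ hF.symm ιG sqG hd
  have : IsIso e.hom.left := ((Over.forget S).mapIso e).isIso_hom
  have he : w.W.hom = e.hom.left ≫ Spec.map (CommRingCat.ofHom (algebraMap A (W d F))) ≫ j := (Over.w e.hom).symm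
  have hl : LocallyOfFinitePresentation (Spec.map (CommRingCat.ofHom (algebraMap A (W d F)))) :=
    (HasRingHomProperty.Spec_iff (P := @LocallyOfFinitePresentation)).2
      (RingHom.finitePresentation_algebraMap.2 inferInstance)
  refine ⟨w.W, w.act, w.isFree, by rw [he]; infer_instance, ?_⟩
  obtain ⟨v, hv⟩ := e.hom.left.surjective (⟨q, hq⟩ : PrimeSpectrum (W d F))
  refine ⟨v, ?_, ?_⟩
  · rw [he, Scheme.Hom.comp_apply, Scheme.Hom.comp_apply, hv, ← hp]
    exact congrArg j (PrimeSpectrum.ext hqp)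
  · rw [he, MorLib.SmoothLoc.sm_comp_left, MorLib.SmoothLoc.sm_comp_right, hv]
    exact (MorLib.SmoothLoc.sm_Spec_iff _).2 hsm

/-- The classifying stack of a flat affine group scheme locally of finite presentation is an algebraic stack. -/
theorem isAlgStack_BG : AlgSt.IsAlgStack Scheme.fppfPrecoverage (AlgSt.BG Scheme.fppfPrecoverage G) := by
  have h : ∀ s : S, ∃ (W : Over S) (a : AlgGrp.Action G W), IsFree a ∧ LocallyOfFinitePresentation W.hom ∧
      ∃ w : W.left, W.hom w = s ∧ MorLib.SmoothLoc.SM W.hom w := fun s => by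
    obtain ⟨U, hU, hsU, -⟩ := exists_isAffineOpen_mem_and_subset (x := s) (U := ⊤) trivial
    exact exists_piece ⟨U, hU⟩ s hsU
  choose W a hfree hl w hw hsm using h
  obtain ⟨b, hb⟩ := exists_action_sigma W a hfree
  have : LocallyOfFinitePresentation (sigmaOver W).hom := IsZariskiLocalAtSource.sigmaDesc hl
  refine isAlgStack_BG_of_free b hb fun s => ⟨(sigmaι W s).left (w s), ?_, ?_⟩
  · rw [← Scheme.Hom.comp_apply, Over.w (sigmaι W s)]
    exact hw s
  · rw [← MorLib.SmoothLoc.sm_comp_left, Over.w (sigmaι W s)]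
    exact hsm s

end Groth.Agent.ArtinBoot49
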