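import Mathlib.RingTheory.FinitePresentation
import Mathlib.LinearAlgebra.Basis.Basic
import Mathlib.RingTheory.TensorProduct.Free
import Mathlib.RingTheory.Ideal.Quotient.Operations

/-!
# Algebras with a basis, and the universal one receiving an algebra

`AlgStr B d`: structure constants of a commutative `B`-algebra structure on `Fin d → B`.
For a finitely presented `A`-algebra `P` the pairs (structure, map from `P`) are the points of a finitely
presented `A`-algebra.
-/

set_option autoImplicit false
set_option linter.unusedSectionVars false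

universe u v w

open Module

namespace Groth.Agent.ArtinBoot49

/-- Structure constants of a commutative algebra with basis. -/
@[ext]
structure AlgStr (B : Type u) [CommRing B] (d : ℕ) where
  /-- products of basis vectors -/
  c : Fin d → Fin d → Fin d → B
  /-- the unit -/
  u : Fin d → B
  comm : ∀ i j k, c i j k = c j i k
  assoc : ∀ i j k m, ∑ l, c i j l * c l k m = ∑ l, c j k l * c i l m
  one_mul : ∀ j m, ∑ i, u i * c i j m = if j = m then 1 else 0

namespace AlgStr

variable {B : Type u} [CommRing B] {d : ℕ}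

/-- The algebra. -/
def Carrier (_s : AlgStr B d) : Type u := Fin d → B

variable (s : AlgStr B d)

instance : AddCommGroup s.Carrier := inferInstanceAs (AddCommGroup (Fin d → B))

instance {A : Type v} [CommRing A] [Algebra A B] : Module A s.Carrier := inferInstanceAs (Module A (Fin d → B))

/-- Coordinates. -/
def coord : s.Carrier ≃ₗ[B] (Fin d → B) := LinearEquiv.refl B _

/-- The standard basis. -/
noncomputable def basis : Basis (Fin d) B s.Carrier := Basis.ofEquivFun s.coord

theorem ext' {x y : s.Carrier} (h : ∀ m, s.coord x m = s.coord y m) : x = y := funext h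

theorem coord_basis (i m : Fin d) : s.coord (s.basis i) m = if i = m then 1 else 0 := by
  show Basis.ofEquivFun (LinearEquiv.refl B (Fin d → B)) i m = _
  rw [Basis.coe_ofEquivFun]
  simp [Pi.single_apply, eq_comm]

/-- Multiplication. -/
noncomputable def mulB : s.Carrier →ₗ[B] s.Carrier →ₗ[B] s.Carrier :=
  s.basis.constr B fun i => s.basis.constr B fun j => s.coord.symm (s.c i j)

theorem mulB_basis (i j : Fin d) : s.mulB (s.basis i) (s.basis j) = s.coord.symm (s.c i j) := by
  simp [mulB]

theorem sum_basis (x : s.Carrier) : ∑ i, s.coord x i • s.basis i = x := by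
  conv_rhs => rw [← s.basis.sum_repr x]
  rfl

theorem mulB_apply (x y : s.Carrier) (m : Fin d) :
    s.coord (s.mulB x y) m = ∑ i, ∑ j, s.coord x i * s.coord y j * s.c i j m := by
  conv_lhs => rw [← s.sum_basis x, ← s.sum_basis y]
  simp only [map_sum, map_smul, LinearMap.sum_apply, LinearMap.smul_apply, mulB_basis, Finset.sum_apply,
    LinearEquiv.apply_symm_apply, Pi.smul_apply, smul_eq_mul, Finset.mul_sum]
  rw [Finset.sum_comm]
  exact Finset.sum_congr rfl fun i _ => Finset.sum_congr rfl fun j _ => by ring

noncomputable instance : Mul s.Carrier := ⟨fun x y => s.mulB x y⟩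

instance : One s.Carrier := ⟨s.u⟩

theorem mul_def (x y : s.Carrier) : x * y = s.mulB x y := rfl

theorem coord_one (m : Fin d) : s.coord 1 m = s.u m := rfl

theorem mul_comm' (x y : s.Carrier) : x * y = y * x := by
  have : s.mulB = s.mulB.flip := s.basis.ext fun i => s.basis.ext fun j => by
    rw [LinearMap.flip_apply, mulB_basis, mulB_basis]
    exact congrArg _ (funext (s.comm i j))
  exact congr($this x y)

theorem mul_assoc' (x y z : s.Carrier) : x * y * z = x * (y * z) := by
  have h3 : ∀ i j k, s.mulB (s.mulB (s.basis i) (s.basis j)) (s.basis k) =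
      s.mulB (s.basis i) (s.mulB (s.basis j) (s.basis k)) := fun i j k => s.ext' fun m => by
    rw [mulB_apply, mulB_apply, mulB_basis, mulB_basis, LinearEquiv.apply_symm_apply,
      LinearEquiv.apply_symm_apply]
    simp only [coord_basis]
    simp [Finset.sum_ite_eq, s.assoc i j k m]
  have h2 : ∀ i j z, s.mulB (s.mulB (s.basis i) (s.basis j)) z = s.mulB (s.basis i) (s.mulB (s.basis j) z) :=
    fun i j z => congr($(s.basis.ext (f₁ := s.mulB (s.mulB (s.basis i) (s.basis j)))
      (f₂ := s.mulB (s.basis i) ∘ₗ s.mulB (s.basis j)) (h3 i j)) z)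
  have h1 : ∀ i y z, s.mulB (s.mulB (s.basis i) y) z = s.mulB (s.basis i) (s.mulB y z) :=
    fun i y z => congr($(s.basis.ext (f₁ := s.mulB.flip z ∘ₗ s.mulB (s.basis i))
      (f₂ := s.mulB (s.basis i) ∘ₗ s.mulB.flip z) fun j => h2 i j z) y)
  exact congr($(s.basis.ext (f₁ := s.mulB.flip z ∘ₗ s.mulB.flip y) (f₂ := s.mulB.flip (y * z))
    fun i => h1 i y z) x)

theorem one_mul' (x : s.Carrier) : 1 * x = x := by
  have : s.mulB 1 = LinearMap.id := s.basis.ext fun j => s.ext' fun m => by
    rw [mulB_apply, LinearMap.id_apply]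
    simp [coord_basis, coord_one, s.one_mul j m]
  exact congr($this x)

noncomputable instance : CommRing s.Carrier :=
  { (inferInstance : AddCommGroup s.Carrier) with
    mul := (· * ·)
    one := 1
    mul_assoc := s.mul_assoc'
    one_mul := s.one_mul'
    mul_one := fun x => (s.mul_comm' x 1).trans (s.one_mul' x)
    mul_comm := s.mul_comm'
    left_distrib := fun x y z => (s.mulB x).map_add y z
    right_distrib := fun x y z => LinearMap.map_add₂ s.mulB x y z
    zero_mul := fun x => LinearMap.map_zero₂ s.mulB x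
    mul_zero := fun x => (s.mulB x).map_zero }

section Algebra

variable {A : Type v} [CommRing A] [Algebra A B]

instance : IsScalarTower A B s.Carrier := inferInstanceAs (IsScalarTower A B (Fin d → B))

theorem smul_mul (a : A) (x y : s.Carrier) : a • x * y = a • (x * y) := by
  rw [← algebraMap_smul B a x, ← algebraMap_smul B a (x * y)]
  exact LinearMap.map_smul₂ s.mulB _ x y

noncomputable instance : Algebra A s.Carrier :=
  Algebra.ofModule (fun a x y => s.smul_mul a x y)
    (fun a x y => by rw [mul_comm, s.smul_mul, mul_comm])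

end Algebra

theorem basis_mul (i j : Fin d) : s.basis i * s.basis j = ∑ k, s.c i j k • s.basis k := by
  rw [mul_def, mulB_basis]
  conv_lhs => rw [← s.sum_basis (s.coord.symm (s.c i j))]
  simp

theorem one_eq_sum : (1 : s.Carrier) = ∑ k, s.u k • s.basis k := by
  conv_lhs => rw [← s.sum_basis 1]
  rfl

section Map

variable {B' : Type w} [CommRing B']

/-- Push structure constants along a ring map. -/
@[simps]
def map (φ : B →+* B') : AlgStr B' d where
  c i j k := φ (s.c i j k)
  u i := φ (s.u i)
  comm i j k := by rw [s.comm]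
  assoc i j k m := by simpa [map_sum, map_mul] using congrArg φ (s.assoc i j k m)
  one_mul j m := by simpa [map_sum, map_mul, apply_ite φ] using congrArg φ (s.one_mul j m)

/-- The comparison ring map. -/
noncomputable def push (φ : B →+* B') : s.Carrier →+* (s.map φ).Carrier where
  toFun x := (s.map φ).coord.symm fun m => φ (s.coord x m)
  map_zero' := AlgStr.ext' _ fun m => by simp
  map_one' := AlgStr.ext' _ fun m => by simp [coord_one]
  map_add' x y := AlgStr.ext' _ fun m => by simp
  map_mul' x y := AlgStr.ext' _ fun m => by simp [mul_def, mulB_apply, map_sum, map_mul]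

theorem coord_push (φ : B →+* B') (x : s.Carrier) (m : Fin d) :
    (s.map φ).coord (s.push φ x) m = φ (s.coord x m) := by
  simp [push]

theorem push_smul (φ : B →+* B') (b : B) (x : s.Carrier) : s.push φ (b • x) = φ b • s.push φ x :=
  AlgStr.ext' _ fun m => by simp [coord_push]

theorem push_basis (φ : B →+* B') (i : Fin d) : s.push φ (s.basis i) = (s.map φ).basis i :=
  AlgStr.ext' _ fun m => by simp [coord_push, coord_basis, apply_ite φ]

variable {A : Type v} [CommRing A] [Algebra A B] [Algebra A B']

/-- The comparison map over a base. -/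
noncomputable def pushₐ (φ : B →ₐ[A] B') : s.Carrier →ₐ[A] (s.map φ.toRingHom).Carrier :=
  { s.push φ.toRingHom with
    commutes' := fun a => by
      show s.push φ.toRingHom (algebraMap A s.Carrier a) = algebraMap A (s.map φ.toRingHom).Carrier a
      rw [Algebra.algebraMap_eq_smul_one, Algebra.algebraMap_eq_smul_one, ← algebraMap_smul B a (1 : s.Carrier),
        push_smul, map_one, AlgHom.toRingHom_eq_coe, RingHom.coe_coe, AlgHom.commutes, algebraMap_smul] }

theorem pushₐ_apply (φ : B →ₐ[A] B') (x : s.Carrier) : s.pushₐ φ x = s.push φ.toRingHom x := rfl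

end Map

/-- A commutative algebra with basis gives structure constants. -/
@[simps]
noncomputable def ofBasis {Z : Type w} [CommRing Z] [Algebra B Z] (b : Basis (Fin d) B Z) : AlgStr B d where
  c i j k := b.repr (b i * b j) k
  u i := b.repr 1 i
  comm i j k := by rw [mul_comm]
  assoc i j k m := by
    have h : ∀ x y, b.repr (x * y) m = ∑ l, b.repr x l * b.repr (b l * y) m := fun x y => by
      conv_lhs => rw [← b.sum_repr x]
      simp only [Finset.sum_mul, smul_mul_assoc, map_sum, map_smul, Finsupp.finsetSum_apply, Finsupp.smul_apply,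
        smul_eq_mul]
    rw [← h, ← Finset.sum_congr rfl fun l _ => congrArg (b.repr (b j * b k) l * ·)
      (congrArg (fun z => b.repr z m) (mul_comm (b l) (b i))), ← h, mul_comm (b j * b k), mul_assoc]
  one_mul j m := by
    have h : b.repr ((1 : Z) * b j) m = ∑ l, b.repr 1 l * b.repr (b l * b j) m := by
      conv_lhs => rw [← b.sum_repr (1 : Z)]
      simp only [Finset.sum_mul, smul_mul_assoc, map_sum, map_smul, Finsupp.finsetSum_apply, Finsupp.smul_apply,
        smul_eq_mul]
    rw [← h, _root_.one_mul, b.repr_self, Finsupp.single_apply]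

/-- The algebra of the structure constants of a basis is the algebra. -/
noncomputable def ofBasisEquiv {Z : Type w} [CommRing Z] [Algebra B Z] (b : Basis (Fin d) B Z) :
    (ofBasis b).Carrier ≃ₐ[B] Z :=
  AlgEquiv.ofLinearEquiv ((ofBasis b).basis.equiv b (Equiv.refl _))
    (by
      rw [one_eq_sum]
      simp [b.sum_repr])
    (by
      intro x y
      let L := (ofBasis b).basis.equiv b (Equiv.refl _)
      have h : LinearMap.llcomp B _ _ _ L.toLinearMap ∘ₗ (ofBasis b).mulB =
          ((LinearMap.mul B Z).compl₂ L.toLinearMap) ∘ₗ L.toLinearMap :=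
        (ofBasis b).basis.ext fun i => (ofBasis b).basis.ext fun j => by
          simp only [LinearMap.comp_apply, LinearMap.llcomp_apply, LinearMap.compl₂_apply, LinearEquiv.coe_coe,
            LinearMap.mul_apply', ← mul_def, basis_mul]
          simp [L, b.sum_repr]
      exact congr($h x y))

theorem ofBasisEquiv_basis {Z : Type w} [CommRing Z] [Algebra B Z] (b : Basis (Fin d) B Z) (i : Fin d) :
    ofBasisEquiv b ((ofBasis b).basis i) = b i := by
  simp [ofBasisEquiv]

theorem ofBasisEquiv_apply {Z : Type w} [CommRing Z] [Algebra B Z] (b : Basis (Fin d) B Z)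
    (x : (ofBasis b).Carrier) : ofBasisEquiv b x = ∑ i, (ofBasis b).coord x i • b i := by
  conv_lhs => rw [← (ofBasis b).sum_basis x]
  simp [ofBasisEquiv_basis]

end AlgStr

section Universal

variable (A : Type u) [CommRing A] (d : ℕ) (ι : Type) [Fintype ι]

/-- Coordinates of a based algebra with a map from a polynomial ring. -/
abbrev Var : Type := (Fin d × Fin d × Fin d) ⊕ Fin d ⊕ (ι × Fin d)

/-- The axioms of a based algebra on the coordinates. -/
noncomputable def axSet : Finset (MvPolynomial (Var d ι) A) := by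
  classical
  let C : Fin d → Fin d → Fin d → MvPolynomial (Var d ι) A := fun i j k => MvPolynomial.X (.inl (i, j, k))
  let U : Fin d → MvPolynomial (Var d ι) A := fun i => MvPolynomial.X (.inr (.inl i))
  exact (Finset.univ.image fun t : Fin d × Fin d × Fin d => C t.1 t.2.1 t.2.2 - C t.2.1 t.1 t.2.2) ∪
    (Finset.univ.image fun t : Fin d × Fin d × Fin d × Fin d =>
      ∑ l, C t.1 t.2.1 l * C l t.2.2.1 t.2.2.2 - ∑ l, C t.2.1 t.2.2.1 l * C t.1 l t.2.2.2) ∪
    (Finset.univ.image fun t : Fin d × Fin d => ∑ i, U i * C i t.1 t.2 - if t.1 = t.2 then 1 else 0)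

/-- The coordinate ring of based algebras with `ι` marked elements. -/
abbrev W₁ : Type u := MvPolynomial (Var d ι) A ⧸ Ideal.span (axSet A d ι : Set (MvPolynomial (Var d ι) A))

/-- A coordinate. -/
noncomputable def coordW (v : Var d ι) : W₁ A d ι := Ideal.Quotient.mk _ (MvPolynomial.X v)

/-- The universal structure constants with marked elements. -/
noncomputable def str₁ : AlgStr (W₁ A d ι) d where
  c i j k := coordW A d ι (.inl (i, j, k))
  u i := coordW A d ι (.inr (.inl i))
  comm i j k := by
    refine (Ideal.Quotient.eq.2 (Ideal.subset_span ?_))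
    simp only [axSet, Finset.coe_union, Finset.coe_image, Set.mem_union]
    exact Or.inl (Or.inl ⟨(i, j, k), by simp, rfl⟩)
  assoc i j k m := by
    simp only [coordW, ← map_mul, ← map_sum]
    refine (Ideal.Quotient.eq.2 (Ideal.subset_span ?_))
    simp only [axSet, Finset.coe_union, Finset.coe_image, Set.mem_union]
    exact Or.inl (Or.inr ⟨(i, j, k, m), by simp, rfl⟩)
  one_mul j m := by
    simp only [coordW, ← map_mul, ← map_sum]
    rw [← map_one (Ideal.Quotient.mk (Ideal.span (axSet A d ι : Set (MvPolynomial (Var d ι) A)))),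
      ← map_zero (Ideal.Quotient.mk (Ideal.span (axSet A d ι : Set (MvPolynomial (Var d ι) A)))),
      ← apply_ite (Ideal.Quotient.mk _)]
    refine (Ideal.Quotient.eq.2 (Ideal.subset_span ?_))
    simp only [axSet, Finset.coe_union, Finset.coe_image, Set.mem_union]
    exact Or.inr ⟨(j, m), by simp, rfl⟩

variable {A d ι}

/-- The marked elements. -/
noncomputable def ev₁ : MvPolynomial ι A →ₐ[A] (str₁ A d ι).Carrier :=
  MvPolynomial.aeval fun g => (str₁ A d ι).coord.symm fun m => coordW A d ι (.inr (.inr (g, m)))

variable (d) (F : Finset (MvPolynomial ι A))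

/-- The vanishing of the relations on the marked elements. -/
noncomputable def relIdeal : Ideal (W₁ A d ι) :=
  Ideal.span (Set.range fun r : F × Fin d => (str₁ A d ι).coord (ev₁ r.1.1) r.2)

/-- The coordinate ring of based algebras with a map from `A[ι]/(F)`. -/
def W : Type u := W₁ A d ι ⧸ relIdeal d F

noncomputable instance : CommRing (W d F) := inferInstanceAs (CommRing (W₁ A d ι ⧸ relIdeal d F))

noncomputable instance : Algebra A (W d F) := inferInstanceAs (Algebra A (W₁ A d ι ⧸ relIdeal d F))

instance finitePresentation_W : Algebra.FinitePresentation A (W d F) := by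
  have : Algebra.FinitePresentation A (W₁ A d ι) := Algebra.FinitePresentation.quotient ⟨axSet A d ι, rfl⟩
  exact (Algebra.FinitePresentation.quotient (Submodule.fg_span (Set.finite_range _)) :
    Algebra.FinitePresentation A (W₁ A d ι ⧸ relIdeal d F))

/-- The quotient map. -/
noncomputable def qW : W₁ A d ι →ₐ[A] W d F := Ideal.Quotient.mkₐ A (relIdeal d F)

theorem qW_surjective : Function.Surjective (qW d F) := Ideal.Quotient.mkₐ_surjective A _

/-- The universal based algebra. -/
noncomputable abbrev str : AlgStr (W d F) d := (str₁ A d ι).map (qW d F).toRingHom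

/-- The universal marked elements. -/
noncomputable def ev : MvPolynomial ι A →ₐ[A] (str d F).Carrier :=
  MvPolynomial.aeval fun g => (str d F).coord.symm fun m => qW d F (coordW A d ι (.inr (.inr (g, m))))

theorem ev_X (g : ι) (m : Fin d) :
    (str d F).coord (ev d F (MvPolynomial.X g)) m = qW d F (coordW A d ι (.inr (.inr (g, m)))) := by
  simp [ev]

theorem push_ev₁_C (a : A) :
    (str₁ A d ι).push (qW d F).toRingHom (ev₁ (MvPolynomial.C a)) = ev d F (MvPolynomial.C a) := by
  refine AlgStr.ext' _ fun m => ?_
  rw [AlgStr.coord_push, ev₁, ev, MvPolynomial.aeval_C, MvPolynomial.aeval_C, Algebra.algebraMap_eq_smul_one,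
    Algebra.algebraMap_eq_smul_one]
  show qW d F (a • (str₁ A d ι).coord 1 m) = a • qW d F ((str₁ A d ι).coord 1 m)
  exact map_smul (qW d F) a _

theorem push_ev₁ (p : MvPolynomial ι A) :
    (str₁ A d ι).push (qW d F).toRingHom (ev₁ p) = ev d F p := by
  induction p using MvPolynomial.induction_on with
  | C a => exact push_ev₁_C d F a
  | add p q hp hq => rw [map_add, map_add, map_add, hp, hq]
  | mul_X p g hp =>
    rw [map_mul, map_mul, map_mul, hp]
    congr 1
    refine AlgStr.ext' _ fun m => ?_
    rw [AlgStr.coord_push, ev_X]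
    simp [ev₁]

theorem coord_ev (p : MvPolynomial ι A) (m : Fin d) :
    (str d F).coord (ev d F p) m = qW d F ((str₁ A d ι).coord (ev₁ p) m) := by
  rw [← push_ev₁, AlgStr.coord_push]
  rfl

theorem ev_eq_zero {p : MvPolynomial ι A} (hp : p ∈ Ideal.span (F : Set (MvPolynomial ι A))) : ev d F p = 0 := by
  have : Ideal.span (F : Set (MvPolynomial ι A)) ≤ RingHom.ker (ev d F).toRingHom := by
    rw [Ideal.span_le]
    intro r hr
    refine AlgStr.ext' _ fun m => ?_
    show (str d F).coord (ev d F r) m = (str d F).coord 0 m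
    rw [coord_ev, map_zero]
    exact Ideal.Quotient.eq_zero_iff_mem.2 (Ideal.subset_span ⟨(⟨r, hr⟩, m), rfl⟩)
  exact this hp

variable {d F} {P : Type u} [CommRing P] [Algebra A P] (π : MvPolynomial ι A →ₐ[A] P)
  (hπ : Function.Surjective π) (hker : RingHom.ker π.toRingHom = Ideal.span (F : Set (MvPolynomial ι A)))

/-- The universal map, as a ring map. -/
noncomputable def univ₀ : P →+* (str d F).Carrier :=
  RingHom.liftOfSurjective π.toRingHom hπ
    ⟨(ev d F).toRingHom, fun _ hp => RingHom.mem_ker.2 (ev_eq_zero d F (hker ▸ hp))⟩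

theorem univ₀_apply (p : MvPolynomial ι A) : univ₀ π hπ hker (π p) = ev d F p :=
  RingHom.liftOfRightInverse_comp_apply π.toRingHom _ (Function.rightInverse_surjInv hπ)
    ⟨(ev d F).toRingHom, fun _ hp => RingHom.mem_ker.2 (ev_eq_zero d F (hker ▸ hp))⟩ p

/-- The universal map. -/
noncomputable def univ : P →ₐ[A] (str d F).Carrier :=
  { univ₀ π hπ hker with
    commutes' := fun a => by
      show univ₀ π hπ hker (algebraMap A P a) = algebraMap A (str d F).Carrier a
      rw [← AlgHom.commutes π a, univ₀_apply, AlgHom.commutes] }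

theorem univ_apply (p : MvPolynomial ι A) : univ π hπ hker (π p) = ev d F p :=
  univ₀_apply π hπ hker p

/-- Every based algebra with a map from `P` comes from the universal one. -/
theorem exists_hom {B : Type u} [CommRing B] [Algebra A B] {Z : Type u} [CommRing Z] [Algebra B Z] [Algebra A Z]
    [IsScalarTower A B Z] (b : Basis (Fin d) B Z) (ψ : P →ₐ[A] Z) :
    ∃ φ : W d F →ₐ[A] B, (∀ i j k, φ ((str d F).c i j k) = b.repr (b i * b j) k) ∧
      (∀ i, φ ((str d F).u i) = b.repr 1 i) ∧
      ∀ p m, φ ((str d F).coord (univ π hπ hker p) m) = b.repr (ψ p) m := by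
  classical
  let val : Var d ι → B := Sum.elim (fun t => b.repr (b t.1 * b t.2.1) t.2.2)
    (Sum.elim (fun i => b.repr 1 i) fun t => b.repr (ψ (π (MvPolynomial.X t.1))) t.2)
  let s := AlgStr.ofBasis b
  have h₁ : Ideal.span (axSet A d ι : Set (MvPolynomial (Var d ι) A)) ≤
      RingHom.ker (MvPolynomial.aeval (R := A) val).toRingHom := by
    rw [Ideal.span_le]
    intro r hr
    simp only [axSet, Finset.coe_union, Finset.coe_image, Set.mem_union, Set.mem_image] at hr
    show MvPolynomial.aeval val r = 0
    obtain ((⟨⟨i, j, k⟩, -, rfl⟩ | ⟨⟨i, j, k, m⟩, -, rfl⟩) | ⟨⟨j, m⟩, -, rfl⟩) := hr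
    · simpa [val, s, sub_eq_zero] using s.comm i j k
    · simpa [val, s, sub_eq_zero] using s.assoc i j k m
    · simpa [val, s, sub_eq_zero, apply_ite (MvPolynomial.aeval val)] using s.one_mul j m
  let φ₁ : W₁ A d ι →ₐ[A] B := Ideal.Quotient.liftₐ _ (MvPolynomial.aeval val) fun _ hp => h₁ hp
  have hφ₁ : ∀ v, φ₁ (coordW A d ι v) = val v := fun v => MvPolynomial.aeval_X val v
  have e1 : ∀ m, φ₁ ((str₁ A d ι).coord 1 m) = b.repr 1 m := fun m => hφ₁ _
  have ec : ∀ i j k, φ₁ ((str₁ A d ι).c i j k) = b.repr (b i * b j) k := fun i j k => hφ₁ _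
  let θ : (str₁ A d ι).Carrier →ₐ[A] Z :=
    { toFun := fun z => ∑ m, φ₁ ((str₁ A d ι).coord z m) • b m
      map_zero' := by simp
      map_add' := fun x y => by simp [add_smul, Finset.sum_add_distrib]
      map_one' := by simp [e1, b.sum_repr]
      map_mul' := fun x y => by
        simp only [AlgStr.mul_def, AlgStr.mulB_apply, map_sum, map_mul, Finset.sum_smul]
        rw [Finset.sum_mul_sum, Finset.sum_comm]
        refine Finset.sum_congr rfl fun i _ => ?_
        rw [Finset.sum_comm]
        refine Finset.sum_congr rfl fun j _ => ?_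
        rw [smul_mul_smul_comm]
        conv_rhs => rw [← b.sum_repr (b i * b j), Finset.smul_sum]
        exact Finset.sum_congr rfl fun k _ => by simp [ec, smul_smul]
      commutes' := fun a => by
        have : ∀ m, φ₁ ((str₁ A d ι).coord (a • (1 : (str₁ A d ι).Carrier)) m) = a • b.repr 1 m := fun m => by
          rw [← e1 m, ← map_smul φ₁]
          rfl
        simp [Algebra.algebraMap_eq_smul_one, this, ← Finset.smul_sum, b.sum_repr, smul_assoc] }
  have hθ : θ.comp ev₁ = ψ.comp π := MvPolynomial.algHom_ext fun g => by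
    simp [θ, ev₁, hφ₁, val, b.sum_repr]
  have hθ' : ∀ p m, φ₁ ((str₁ A d ι).coord (ev₁ p) m) = b.repr (ψ (π p)) m := fun p m => by
    rw [← AlgHom.comp_apply ψ, ← hθ]
    exact (congr_fun (b.repr_sum_self fun m => φ₁ ((str₁ A d ι).coord (ev₁ p) m)) m).symm
  have h₂ : relIdeal d F ≤ RingHom.ker φ₁.toRingHom := by
    rw [relIdeal, Ideal.span_le]
    rintro _ ⟨⟨⟨r, hr⟩, m⟩, rfl⟩
    show φ₁ ((str₁ A d ι).coord (ev₁ r) m) = 0
    rw [hθ']
    have : π r = 0 := by
      have := Ideal.subset_span (s := (F : Set (MvPolynomial ι A))) hr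
      rwa [← hker] at this
    simp [this]
  let φ' : W₁ A d ι ⧸ relIdeal d F →ₐ[A] B := Ideal.Quotient.liftₐ _ φ₁ fun _ hp => h₂ hp
  refine ⟨φ', fun i j k => hφ₁ _, fun i => hφ₁ _, fun p m => ?_⟩
  obtain ⟨p, rfl⟩ := hπ p
  rw [univ_apply]
  rw [coord_ev]
  exact hθ' p m

/-- Maps out of the universal ring are determined by the based algebra and the map. -/
theorem hom_ext {B : Type u} [CommRing B] [Algebra A B] {φ φ' : W d F →ₐ[A] B}
    (hc : ∀ i j k, φ ((str d F).c i j k) = φ' ((str d F).c i j k))
    (h1 : ∀ i, φ ((str d F).u i) = φ' ((str d F).u i))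
    (hev : ∀ p m, φ ((str d F).coord (univ π hπ hker p) m) = φ' ((str d F).coord (univ π hπ hker p) m)) :
    φ = φ' := by
  suffices φ.comp (qW d F) = φ'.comp (qW d F) from AlgHom.ext fun x => by
    obtain ⟨y, rfl⟩ := qW_surjective d F x
    exact AlgHom.congr_fun this y
  apply Ideal.Quotient.algHom_ext A
  apply MvPolynomial.algHom_ext
  rintro (⟨i, j, k⟩ | i | ⟨g, m⟩)
  · exact hc i j k
  · exact h1 i
  · have h := hev (π (MvPolynomial.X g)) m
    rwa [univ_apply, ev_X] at h

end Universal

end Groth.Agent.ArtinBoot49
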