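import Groth.Agent.ArtinBoot49.YonOver
import Groth.Agent.AlgStLib.SpTorsor
import Groth.Agent.AlgStLib.SpQuotStack
import Groth.Agent.AlgStLib.SpProps
import Groth.Agent.AlgSpLib.AffineDescProps
import Groth.Agent.AlgSpDec.AffineRep
import Groth.Agent.FibBase.Basic
import Groth.Agent.StkLib.Basic

/-!
# Scheme torsors and sheaf torsors under an affine group scheme

For `G` affine over `S` the quotient category `[X/G]` with scheme torsors is equivalent to the one with sheaf torsors,
so it is a stack for the fppf topology.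
-/

set_option autoImplicit false
set_option backward.isDefEq.respectTransparency false
set_option backward.isDefEq.respectTransparency.types false

set_option linter.unusedVariables false

universe u

open CategoryTheory CategoryTheory.Functor CategoryTheory.Limits MonoidalCategory CartesianMonoidalCategory MonObj
open AlgebraicGeometry AlgSp Groth.Agent.AlgSpLib Groth.Agent.AlgSpDec
open scoped CategoryTheory.Obj

namespace Groth.Agent.ArtinBoot49

variable {S : Scheme.{u}} {G : Over S} [GrpObj G] {X : Over S}

local notation "K₀" => Scheme.fppfPrecoverage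
local notation "Φ" => toB₀ S

/-- An action seen on sheaves. -/
noncomputable def spAct (a : AlgGrp.Action G X) : GAction ((Φ).obj G) ((Φ).obj X) where
  act := LaxMonoidal.μ Φ G X ≫ (Φ).map a.act
  one_act := by
    rw [Functor.obj.η_def, comp_whiskerRight, Category.assoc,
      LaxMonoidal.μ_natural_left_assoc, ← Functor.map_comp, a.one_act, LaxMonoidal.left_unitality]
  mul_act := by
    rw [Functor.obj.μ_def, comp_whiskerRight, Category.assoc,
      LaxMonoidal.μ_natural_left_assoc, ← Functor.map_comp, a.mul_act, MonoidalCategory.whiskerLeft_comp,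
      Category.assoc, LaxMonoidal.μ_natural_right_assoc, ← Functor.map_comp, Functor.map_comp, Functor.map_comp,
      LaxMonoidal.associativity_assoc]

theorem spAct_eqv_iff {Y : Over S} (a : AlgGrp.Action G X) (b : AlgGrp.Action G Y) (f : X ⟶ Y) :
    (spAct a).act ≫ (Φ).map f = ((Φ).obj G ◁ (Φ).map f) ≫ (spAct b).act ↔ a.act ≫ f = (G ◁ f) ≫ b.act := by
  simp only [spAct, Category.assoc, LaxMonoidal.μ_natural_right_assoc, ← Functor.map_comp, cancel_epi]
  exact (Φ).map_injective.eq_iff

theorem spAct_cart_iff (a : AlgGrp.Action G X) {T : Over S} (π : X ⟶ T) :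
    IsPullback (spAct a).act (snd _ _) ((Φ).map π) ((Φ).map π) ↔ IsPullback a.act (snd G X) π π := by
  have h : IsPullback (spAct a).act (snd _ _) ((Φ).map π) ((Φ).map π) ↔
      IsPullback ((Φ).map a.act) ((Φ).map (snd G X)) ((Φ).map π) ((Φ).map π) := by
    refine ⟨fun h' => h'.of_iso (Monoidal.μIso Φ G X) (Iso.refl _) (Iso.refl _) (Iso.refl _) ?_ ?_ ?_ ?_,
      fun h' => h'.of_iso (Monoidal.μIso Φ G X).symm (Iso.refl _) (Iso.refl _) (Iso.refl _) ?_ ?_ ?_ ?_⟩ <;>
      simp [spAct]
  exact h.trans ⟨fun h' => IsPullback.of_map Φ ((Φ).map_injective (by simpa using h'.w)) h', toB₀_map_isPullback⟩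

variable {aX : AlgGrp.Action G X}

/-- The object with sheaf torsor. -/
noncomputable def spObj (A : AlgSt.QuotObj K₀ G aX) : AlgSt.SpQuotObj K₀ ((Φ).obj G) (spAct aX) where
  base := A.base
  b := (yon S).map (toUnit A.base)
  P := (Φ).obj A.P
  act := spAct A.act
  π := (Φ).map A.π
  cart := (spAct_cart_iff A.act A.π).2 A.cart
  loc := by
    obtain ⟨R, hR, hs⟩ := A.loc
    refine ⟨R, hR, fun T' f hf => ?_⟩
    obtain ⟨s, hs'⟩ := hs f hf
    refine ⟨(yon S).map (Over.homMk (U := Over.mk (f ≫ A.base.hom)) s ?_), ?_⟩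
    · show s ≫ A.P.hom = f ≫ A.base.hom
      rw [← Over.w A.π]
      exact (Category.assoc _ _ _).symm.trans (congrArg (· ≫ A.base.hom) hs')
    · show (yon S).map _ ≫ (yon S).map A.π = _
      rw [← Functor.map_comp]
      exact congrArg (yon S).map (Over.OverMorphism.ext hs')
  φ := (Φ).map A.φ
  eqv := (spAct_eqv_iff _ _ _).2 A.eqv

theorem bHom_toB₀ {T T' : Over S} (f : T ⟶ T') (w) :
    AlgSt.bHom (b := (yon S).map (toUnit T)) (b' := (yon S).map (toUnit T')) f w = (Φ).map f :=
  rfl

/-- The comparison functor. -/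
noncomputable def spFun (aX : AlgGrp.Action G X) :
    AlgSt.QuotSt K₀ G aX ⥤ᵇ AlgSt.SpQuotSt K₀ ((Φ).obj G) (spAct aX) where
  toFunctor :=
    { obj := spObj
      map := fun {A B} m =>
        { base := m.base
          wb := (Over.w ((Φ).map m.base))
          top := (Φ).map m.top
          eqv := (spAct_eqv_iff _ _ _).2 m.eqv
          cart := toB₀_map_isPullback m.cart
          wφ := ((Φ).map_comp _ _).symm.trans (congrArg (Φ).map m.wφ) }
      map_id := fun A => AlgSt.SpQuotObj.hom_ext rfl ((Φ).map_id _)
      map_comp := fun f g => AlgSt.SpQuotObj.hom_ext rfl ((Φ).map_comp _ _) }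
  w := rfl

instance : (spFun aX).toFunctor.Faithful :=
  ⟨fun {A B} {m m'} h => AlgSt.QuotObj.hom_ext (congrArg (fun k => k.base) h)
    ((Φ).map_injective (congrArg (fun k => k.top) h))⟩

instance : (spFun aX).toFunctor.Full := by
  refine ⟨fun {A B} m => ?_⟩
  obtain ⟨t, ht⟩ := (Φ).map_surjective (X := A.P) (Y := B.P) m.top
  refine ⟨{ base := m.base, top := t, eqv := ?_, cart := ?_, wφ := ?_ }, AlgSt.SpQuotObj.hom_ext rfl ht⟩
  · exact (spAct_eqv_iff A.act B.act t).1 (by rw [ht]; exact m.eqv)
  · have h : IsPullback ((Φ).map t) ((Φ).map A.π) ((Φ).map B.π) ((Φ).map m.base) := by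
      rw [ht]; exact m.cart
    exact IsPullback.of_map Φ ((Φ).map_injective (by simpa using h.w)) h
  · exact (Φ).map_injective (by rw [Functor.map_comp, ht]; exact m.wφ)

/-- Sheaf torsors under an affine group scheme are affine over the base. -/
theorem isAffineMor_torsor [IsAffineHom G.hom] (A : AlgSt.SpQuotObj K₀ ((Φ).obj G) (spAct aX)) :
    IsAffineMor A.π.left := by
  obtain ⟨I₀, U, f, s, hs, hcov⟩ := AlgStLib.exists_sections_cover (A := A)
  have hG : IsAlgSpace ((Φ).obj G).left := IsAlgSpace.yon_obj G
  have hA : IsAffineMor ((Φ).obj G).hom := by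
    refine isAffineMor_of_repWith (P := @IsAffineHom) le_rfl ((repWith_yon_map_iff _ _).2 ?_)
    have h : (toUnit G).left = G.hom := by simpa using Over.w (toUnit G)
    rw [h]; infer_instance
  choose Q a p c h1 h2 using fun i => AlgStLib.exists_isPullback_of_section A (f i) (s i) (hs i)
  have hQ : ∀ i, IsAlgSpace (Q i) := fun i =>
    isAlgSpace_of_isPullback (h2 i) hG (IsAlgSpace.yon_obj _) (IsAlgSpace.yon_obj _)
  refine (AlgStLib.isLocalOnBase_fppf_of_fpqc isLocalOnBase_fpqc_isAffineMor (fun i => (yon S).obj (U i)) _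
    (IsAlgSpace.yon_obj A.base) (fun i => IsAlgSpace.yon_obj (U i)) hcov A.π.left
    (AlgStLib.isAlgSpace_torsor (IsAlgSpace.yon_obj _) hG A) Q p a hQ h1).2 fun i => ?_
  exact isAffineMor_of_isPullback (h2 i) hA

/-- Transporting the total sheaf of an object along an isomorphism. -/
theorem exists_iso_of_total {B : Sp S} {G' : Over B} [GrpObj G'] {X' : Over B} {aX' : GAction G' X'}
    (A : AlgSt.SpQuotObj K₀ G' aX') {P' : Over B} (e : P' ≅ A.P) :
    ∃ (act : GAction G' P') (_ : IsPullback act.act (snd G' P') (e.hom ≫ A.π) (e.hom ≫ A.π)),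
      act.act ≫ e.hom = (G' ◁ e.hom) ≫ A.act.act := by
  let act : GAction G' P' :=
    { act := (G' ◁ e.hom) ≫ A.act.act ≫ e.inv
      one_act := by
        rw [← whisker_exchange_assoc, reassoc_of% A.act.one_act, leftUnitor_naturality_assoc, e.hom_inv_id,
          Category.comp_id]
      mul_act := by
        rw [← whisker_exchange_assoc, reassoc_of% A.act.mul_act, MonoidalCategory.whiskerLeft_comp_assoc]
        rw [associator_naturality_right_assoc]
        congr 2
        rw [← Category.assoc (G' ◁ (A.act.act ≫ e.inv)) (G' ◁ e.hom),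
          ← MonoidalCategory.whiskerLeft_comp G', Category.assoc, e.inv_hom_id, Category.comp_id] }
  refine ⟨act, ?_, by simp [act]⟩
  exact A.cart.of_iso (asIso (G' ◁ e.hom)).symm e.symm e.symm (Iso.refl _) (by simp [act]) (by simp) (by simp) (by simp)

theorem spFun_isEquivOver [IsAffineHom G.hom] : FibCat.IsEquivOver (spFun aX) := by
  refine Groth.Agent.FibBase.isEquivOver_of_exists_iso _ inferInstance inferInstance fun A => ?_
  have haff := isAffineMor_torsor A
  obtain ⟨Q, fst, snd', sq⟩ : ∃ (Q : Over S) (fst : (yon S).obj Q ⟶ A.P.left) (snd' : Q ⟶ A.base),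
      IsPullback fst ((yon S).map snd') A.π.left (𝟙 ((yon S).obj A.base)) := by
    have hr := representable_of_isAffineMor haff
    exact ⟨hr.pullback (𝟙 _), hr.fst _, hr.snd _, hr.isPullback _⟩
  have : IsIso fst := sq.isIso_fst_of_isIso
  have hb : A.b = (yon S).map (toUnit A.base) := toB₀_base_unique A.b
  obtain ⟨base, b, P, actA, π, cart, loc, φ, eqv⟩ := A
  dsimp only at hb sq ⊢
  subst hb
  let e : (Φ).obj Q ≅ P := Over.isoMk (asIso fst) (by
    show fst ≫ P.hom = (yon S).map (toUnit Q)
    rw [← Over.w π]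
    exact ((Category.assoc _ _ _).symm.trans (congrArg (· ≫ (yon S).map (toUnit base))
      (sq.w.trans (Category.comp_id _)))).trans (((yon S).map_comp _ _).symm.trans
        (congrArg (yon S).map (toUnit_unique _ _))))
  let A₀ : AlgSt.SpQuotObj K₀ ((Φ).obj G) (spAct aX) := ⟨base, _, P, actA, π, cart, loc, φ, eqv⟩
  obtain ⟨act', hcart', hact'⟩ := exists_iso_of_total A₀ e
  obtain ⟨φ', hφ'⟩ := (Φ).map_surjective (X := Q) (Y := X) (e.hom ≫ φ)
  obtain ⟨a', ha'⟩ := (Φ).map_surjective ((Monoidal.μIso Φ G Q).inv ≫ act'.act)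
  have hsp : act'.act = LaxMonoidal.μ Φ G Q ≫ (Φ).map a' := by
    rw [ha']; simp
  let actQ : AlgGrp.Action G Q :=
    { act := a'
      one_act := (Φ).map_injective (by
        have h := act'.one_act
        rw [hsp, Functor.obj.η_def, comp_whiskerRight, Category.assoc, LaxMonoidal.μ_natural_left_assoc,
          ← Functor.map_comp, LaxMonoidal.left_unitality] at h
        exact (cancel_epi (LaxMonoidal.μ Φ (𝟙_ (Over S)) Q)).1 ((cancel_epi _).1 h))
      mul_act := (Φ).map_injective (by
        have h := act'.mul_act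
        rw [hsp, Functor.obj.μ_def, comp_whiskerRight, Category.assoc, LaxMonoidal.μ_natural_left_assoc,
          ← Functor.map_comp, MonoidalCategory.whiskerLeft_comp, Category.assoc,
          LaxMonoidal.μ_natural_right_assoc, ← Functor.map_comp,
          ← LaxMonoidal.associativity_assoc, ← Functor.map_comp] at h
        exact (cancel_epi (LaxMonoidal.μ Φ (G ⊗ G) Q)).1 ((cancel_epi _).1 h)) }
  have hπ : (Φ).map snd' = e.hom ≫ π := Over.OverMorphism.ext (by
    show (yon S).map snd' = fst ≫ π.left
    rw [sq.w, Category.comp_id])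
  have hactQ : spAct actQ = act' := by
    obtain ⟨_, _, _⟩ := act'
    simp only [spAct, actQ]
    congr 1
    exact hsp.symm
  let Aq : AlgSt.QuotObj K₀ G aX :=
    { base := base
      P := Q
      act := actQ
      π := snd'
      cart := (spAct_cart_iff actQ snd').1 (by rw [hactQ, hπ]; exact hcart')
      loc := by
        obtain ⟨R, hR, hs⟩ := loc
        refine ⟨R, hR, fun T' f hf => ?_⟩
        obtain ⟨s, hs'⟩ := hs f hf
        obtain ⟨s', hs''⟩ := (yon S).map_surjective (s ≫ inv fst)
        refine ⟨s'.left, ?_⟩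
        have h : s' ≫ snd' = Over.homMk f := (yon S).map_injective (by
          rw [Functor.map_comp, hs'', Category.assoc, show inv fst ≫ (yon S).map snd' = π.left by
            rw [IsIso.inv_comp_eq, sq.w, Category.comp_id]]
          exact hs')
        exact congrArg CommaMorphism.left h
      φ := φ'
      eqv := (spAct_eqv_iff actQ aX φ').1 (by
        rw [hactQ, hφ', ← Category.assoc, hact', Category.assoc, MonoidalCategory.whiskerLeft_comp, Category.assoc,
          eqv]) }
  let hom : spObj Aq ⟶ A₀ :=
    { base := 𝟙 base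
      wb := by
        show (yon S).map (𝟙 base) ≫ _ = _
        rw [CategoryTheory.Functor.map_id, Category.id_comp]
        rfl
      top := e.hom
      eqv := by
        show (spAct actQ).act ≫ e.hom = _
        rw [hactQ]; exact hact'
      cart := by
        show IsPullback e.hom ((Φ).map snd') π
          (AlgSt.bHom (b := (yon S).map (toUnit base)) (b' := (yon S).map (toUnit base)) (𝟙 base) _)
        rw [AlgSt.bHom_id]
        have : IsIso e.hom := e.isIso_hom
        have : IsIso e.inv := e.isIso_inv
        have : IsIso (𝟙 (Over.mk ((yon S).map (toUnit base)))) := IsIso.id _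
        exact IsPullback.of_horiz_isIso ⟨hπ.symm.trans (Category.comp_id _).symm⟩
      wφ := hφ'.symm }
  let inv' : A₀ ⟶ spObj Aq :=
    { base := 𝟙 base
      wb := by
        show (yon S).map (𝟙 base) ≫ _ = _
        rw [CategoryTheory.Functor.map_id, Category.id_comp]
        rfl
      top := e.inv
      eqv := by
        show _ = (_ ◁ e.inv) ≫ (spAct actQ).act
        rw [hactQ, ← cancel_mono e.hom, Category.assoc, e.inv_hom_id, Category.comp_id, Category.assoc, hact',
          ← MonoidalCategory.whiskerLeft_comp_assoc, e.inv_hom_id, MonoidalCategory.whiskerLeft_id, Category.id_comp]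
      cart := by
        show IsPullback e.inv π ((Φ).map snd')
          (AlgSt.bHom (b := (yon S).map (toUnit base)) (b' := (yon S).map (toUnit base)) (𝟙 base) _)
        rw [AlgSt.bHom_id]
        have : IsIso e.hom := e.isIso_hom
        have : IsIso e.inv := e.isIso_inv
        have : IsIso (𝟙 (Over.mk ((yon S).map (toUnit base)))) := IsIso.id _
        exact IsPullback.of_horiz_isIso ⟨((congrArg (e.inv ≫ ·) hπ).trans (e.inv_hom_id_assoc π)).trans
          (Category.comp_id _).symm⟩
      wφ := by
        show e.inv ≫ (Φ).map φ' = φ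
        rw [hφ', e.inv_hom_id_assoc] }
  refine ⟨Aq, ⟨hom, inv', AlgSt.SpQuotObj.hom_ext (Category.id_comp _) e.hom_inv_id,
    AlgSt.SpQuotObj.hom_ext (Category.id_comp _) e.inv_hom_id⟩, ?_⟩
  exact IsHomLift.map (AlgSt.SpQuotSt K₀ ((Φ).obj G) (spAct aX)).p hom

/-- Quotient stacks by affine group schemes are stacks. -/
theorem isStack_quotSt [IsAffineHom G.hom] : Stk.IsStack (J S) (AlgSt.QuotSt K₀ G aX) :=
  (StkLib.isStack_iff_of_isEquivOver (J := J S) spFun_isEquivOver).2 AlgStLib.SpQuot.isStack

end Groth.Agent.ArtinBoot49
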