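import Groth.Agent.AlgStLib.SmoothBootstrap
import Groth.Agent.AlgSpDec.FppfFamily

/-!
# Stacks with an fppf chart: the diagonal

A stack for the fppf topology with a flat, locally finitely presented, surjective map from a stack with representable
diagonal has a diagonal representable by algebraic spaces.
-/

set_option backward.isDefEq.respectTransparency false
set_option backward.isDefEq.respectTransparency.types false

universe u

open CategoryTheory CategoryTheory.Functor CategoryTheory.Limits AlgebraicGeometry Opposite AlgSp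
open Groth.Agent.FibBase Groth.Agent.AlgSpLib Groth.Agent.AlgStLib

namespace Groth.Agent.ArtinBoot49

variable {S : Scheme.{u}} {𝒳 𝒴 𝒵 𝒰 : AlgSt.Cat S}

/-- An fppf sheaf over a scheme is an algebraic space once its base change along an fppf surjection is. -/
theorem isAlgSpaceP_of_fppf_baseChange {F : PSp S} (hF : Presheaf.IsSheaf (J S) F) {U V : Over S} (v : V ⟶ U)
    [Flat v.left] [LocallyOfFinitePresentation v.left] [Surjective v.left]
    (a : F ⟶ (pyon S).obj U) (h : IsAlgSpaceP (pullback a ((pyon S).map v))) : IsAlgSpaceP F := by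
  let F' : Sp S := ⟨F, hF⟩
  let a' : F' ⟶ (yon S).obj U := ObjectProperty.homMk a
  have sq := (IsPullback.of_hasPullback a' ((yon S).map v)).map (sheafToPresheaf (J S) _)
  have hP : IsAlgSpace (pullback a' ((yon S).map v)) :=
    (isAlgSpaceP_obj_iff _).1 (h.of_iso (sq.isoIsPullback _ _ (IsPullback.of_hasPullback a ((pyon S).map v))).symm)
  refine ⟨hF, Groth.Agent.AlgSpDec.isAlgSpace_of_fppf_local (ι := PUnit.{u+1}) (IsAlgSpace.yon_obj U)
    (Xi := fun _ => (yon S).obj V) (fun _ => IsAlgSpace.yon_obj V) (fun _ => (yon S).map v) ?_ a' fun _ => hP⟩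
  refine ⟨fun _ => ⟨?_, ?_⟩, fun x => ⟨⟨⟩, surjective_map_of_repWith
    ((repWith_yon_map_iff (P := @Surjective) v).2 inferInstance) x⟩⟩
  · exact locP_of_repWith ((repWith_yon_map_iff (P := @Flat) v).2 inferInstance)
  · exact locP_of_repWith ((repWith_yon_map_iff (P := @LocallyOfFinitePresentation) v).2 inferInstance)

/-- An fppf stack in setoids over a scheme is an algebraic space once its base change along an fppf surjection is. -/
theorem repByAlgSp_of_fppf_locally (h𝒵 : Stk.IsStack (J S) 𝒵) (hs : FibCat.IsFibSetoid 𝒵.p)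
    {U V : Over S} (q : 𝒵 ⥤ᵇ FibCat.overCat U) (v : V ⟶ U) [Flat v.left] [LocallyOfFinitePresentation v.left]
    [Surjective v.left]
    (h : AlgSt.RepByAlgSp (FibCat.fp (AlgSt.overMap v) q)) : AlgSt.RepByAlgSp 𝒵 := by
  let P := clsPsh 𝒵 hs.1
  obtain ⟨e, he, -⟩ := isEquivOver_inv (toCls_isEquivOver 𝒵 hs.1 hs)
  have hP : Presheaf.IsSheaf (J S) P := (isSheaf_iff_isSheaf_of_type _ _).2
      ((StkLib.isStack_ofPsh_iff P (J S)).1 ((StkLib.isStack_iff_of_isEquivOver (J := J S) he).2 h𝒵))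
  let q' : 𝒵 ⥤ᵇ AlgSt.ofSch U := BasedFunctor.comp q (AlgSt.ofOverCat U)
  let a : P ⟶ (pyon S).obj U := pshMap (BasedFunctor.comp e q')
  let i : BasedFunctor.comp e q' ≅ Stk.ofPshMap a := isoOfPshMap _
  let sq := IsPullback.of_hasPullback a ((pyon S).map v)
  have := full_of_isEquivOver (isEquivOver_toOverCat U)
  have := faithful_of_isEquivOver (isEquivOver_toOverCat U)
  let m := fpMap (F := AlgSt.overMap v) (G := q)
    (F' := BasedFunctor.comp (AlgSt.ofOverCat V) (Stk.ofPshMap ((yon S).map v).hom)) (G' := q')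
    (a := BasedFunctor.id _) (b := BasedFunctor.id _) (c := AlgSt.toOverCat U)
    (overMapIso v).symm (whiskerLeftIso q (ofOverCatIso U))
  let E : Stk.ofPsh (pullback a ((pyon S).map v)) ⥤ᵇ FibCat.fp (AlgSt.overMap v) q :=
    BasedFunctor.comp (compare q' e i sq) m
  have hE : FibCat.IsEquivOver E :=
    isEquivOver_comp (compare_isEquivOver q' e i he sq) (fpMap_isEquivOver _ _ isEquivOver_id isEquivOver_id)
  obtain ⟨W, w, hw⟩ := h
  obtain ⟨g, hg, -⟩ := isEquivOver_inv hE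
  let k : Stk.ofPsh W.obj.obj ⥤ᵇ Stk.ofPsh (pullback a ((pyon S).map v)) := BasedFunctor.comp w g
  have : IsIso (pshMap k) := isIso_pshMap (Φ := k) (isEquivOver_comp hw hg)
  obtain ⟨h', hA⟩ := isAlgSpaceP_of_fppf_baseChange hP v a
    (((isAlgSpaceP_obj_iff _).2 W.property).of_iso (asIso (pshMap k)))
  exact ⟨⟨⟨P, h'⟩, hA⟩, e, he⟩

/-- An fppf surjection representable by spaces is sectionwise surjective locally for the fppf topology. -/
theorem exists_fppf_lift {g : 𝒵 ⥤ᵇ 𝒴} (h₁ : AlgSt.RepByAlgSpWith (LocP @Flat) g)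
    (h₂ : AlgSt.RepByAlgSpWith (LocP @LocallyOfFinitePresentation) g)
    (h₃ : AlgSt.RepByAlgSpWith IsSurjectiveMor g) {U : Over S} (y : FibCat.overCat U ⥤ᵇ 𝒴) :
    ∃ (V : Over S) (v : V ⟶ U) (z : FibCat.overCat V ⥤ᵇ 𝒵), Flat v.left ∧ LocallyOfFinitePresentation v.left ∧
      Surjective v.left ∧ Nonempty (BasedFunctor.comp z g ≅ BasedFunctor.comp (AlgSt.overMap v) y) := by
  obtain ⟨F, e, he, hfl⟩ := h₁ U y
  have hfp := (RepOver.property_of_stableBC stableBC_locP (h₂ U y) e he).2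
  have hsu := (RepOver.property_of_stableBC stableBC_isSurjectiveMor (h₃ U y) e he).2
  let a := AlgSt.spMapOfOver (BasedFunctor.comp e (FibCat.fpFst y g))
  obtain ⟨V, p, hp, hp'⟩ := F.property.atlas
  obtain ⟨w, hw⟩ := (yon S).map_surjective (p ≫ a)
  have hV := IsAlgSpace.yon_obj (S := S) V
  have hU := IsAlgSpace.yon_obj (S := S) U
  have hp0 := locP_of_repWith (P := @Etale) hp
  have hwf : Flat w.left := locP_yon_map (P := @Flat) (hw ▸ locP_comp hV F.property hU
    (locP_mono (Q := @Flat) (fun _ _ f (_ : Etale f) => inferInstanceAs (Flat f)) hp0) hfl)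
  have hwp : LocallyOfFinitePresentation w.left := locP_yon_map (P := @LocallyOfFinitePresentation)
    (hw ▸ locP_comp hV F.property hU
      (locP_mono (Q := @LocallyOfFinitePresentation)
        (fun _ _ f (_ : Etale f) => inferInstanceAs (LocallyOfFinitePresentation f)) hp0) hfp)
  have hws : Surjective w.left := ⟨fun x => by
    obtain ⟨x₁, h1⟩ := hsu (Points.schemeHomeo U x)
    obtain ⟨x₂, h2⟩ := surjective_map_of_repWith hp' x₁
    obtain ⟨t, rfl⟩ := (Points.schemeHomeo V).surjective x₂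
    refine ⟨t, (Points.schemeHomeo U).injective ?_⟩
    rw [← h1, ← h2, ← Points.map_comp, ← hw, Points.map_yon_map_eq]
    simp⟩
  let E : FibCat.overCat V ⥤ᵇ FibCat.fp y g := BasedFunctor.comp (overOfMap p) e
  let j : BasedFunctor.comp E (FibCat.fpFst y g) ≅ AlgSt.overMap w :=
    whiskerLeftIso (overOfMap p) (isoSpMapOfOver (BasedFunctor.comp e (FibCat.fpFst y g))) ≪≫
      overIso _ _ (fun x => by
        have : ((yon S).map w).hom.app (op x.left) ⟨x.hom⟩ = a.hom.app (op x.left) (p.hom.app (op x.left) ⟨x.hom⟩) := by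
          rw [hw]; rfl
        have h' : (⟨x.hom ≫ w⟩ : ULift (x.left ⟶ U)) = _ := this
        show 𝟙 x.left ≫ (x.hom ≫ w) = (a.hom.app (op x.left) (p.hom.app (op x.left) ⟨x.hom⟩)).down
        rw [← h', Category.id_comp])
  exact ⟨V, w, BasedFunctor.comp E (FibCat.fpSnd y g), hwf, hwp, hws,
    ⟨(whiskerLeftIso E (FibCat.fpIso y g)).symm ≪≫ whiskerRightIso j y⟩⟩

/-- Maps from schemes to a stack with an fppf cover by a stack with representable diagonal are representable by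
algebraic spaces. -/
theorem repByAlgSp1_slice_of_fppf_cover (h𝒳 : Stk.IsStack (J S) 𝒳) (h𝒰 : FibCat.IsFibGrpd 𝒰.p)
    (hΔ : AlgSt.RepByAlgSp1 (FibCat.diag (FibCat.toSelf 𝒰))) {u : 𝒰 ⥤ᵇ 𝒳}
    (h₁ : AlgSt.RepByAlgSpWith (LocP @Flat) u) (h₂ : AlgSt.RepByAlgSpWith (LocP @LocallyOfFinitePresentation) u)
    (h₃ : AlgSt.RepByAlgSpWith IsSurjectiveMor u)
    (V : Over S) (y : FibCat.overCat V ⥤ᵇ 𝒳) : AlgSt.RepByAlgSp1 y := fun U x => by
  have hy : y.toFunctor.Faithful := by
    have : (y.toFunctor ⋙ 𝒳.p).Faithful := by rw [y.w]; exact ⟨fun h => Over.OverMorphism.ext h⟩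
    exact Functor.Faithful.of_comp y.toFunctor 𝒳.p
  have hst : Stk.IsStack (J S) (FibCat.fp x y) := Groth.Agent.StkLib.isStack_fp x y
    (isStack_of_repByAlgSp (repByAlgSp_overCat U)) (isStack_of_repByAlgSp (repByAlgSp_overCat V))
    (Groth.Agent.StkLib.isPrestack_of_isStack h𝒳)
  have hset : FibCat.IsFibSetoid (FibCat.fp x y).p := isFibSetoid_iff.2 ⟨hst.1, faithful_fp x⟩
  obtain ⟨U', v, z, hv, hv₂, hv', ⟨i⟩⟩ := exists_fppf_lift h₁ h₂ h₃ x
  refine repByAlgSp_of_fppf_locally hst hset (FibCat.fpFst x y) v ?_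
  have hfp : AlgSt.RepByAlgSp (FibCat.fp u y) :=
    repByAlgSp_of_equiv _ (fpSwap_isEquivOver _ _) (repByAlgSp1_of_repByAlgSpWith h₁ V y)
  have key : AlgSt.RepByAlgSp (FibCat.fp z (FibCat.fpFst u y)) :=
    repByAlgSp_of_equiv _ (fpSwap_isEquivOver _ _)
      (repByAlgSp_fp (isFibGrpd_overCat U') h𝒰 z (FibCat.fpFst u y) (repByAlgSp1_of_diag h𝒰 hΔ U' z) hfp)
  have key₂ : AlgSt.RepByAlgSp (FibCat.fp (BasedFunctor.comp (AlgSt.overMap v) x) y) :=
    repByAlgSp_of_equiv _ (fpMap_isEquivOver (F := BasedFunctor.comp (AlgSt.overMap v) x) (G := y)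
      (F' := BasedFunctor.comp z u) (G' := y) (a := BasedFunctor.id _) (b := BasedFunctor.id _)
      (c := BasedFunctor.id _) i.symm (Iso.refl _) isEquivOver_id isEquivOver_id)
      (repByAlgSp_of_equiv _ (pasteVert_isEquivOver z u y) key)
  exact (repByAlgSp_iff_of_equiv _ (pasteVert_isEquivOver (AlgSt.overMap v) x y)).2 key₂

/-- The diagonal of a stack with an fppf cover by a stack with representable diagonal is representable. -/
theorem repByAlgSp1_diag_of_fppf_cover (h𝒳 : Stk.IsStack (J S) 𝒳) (h𝒰 : FibCat.IsFibGrpd 𝒰.p)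
    (hΔ : AlgSt.RepByAlgSp1 (FibCat.diag (FibCat.toSelf 𝒰))) {u : 𝒰 ⥤ᵇ 𝒳}
    (h₁ : AlgSt.RepByAlgSpWith (LocP @Flat) u) (h₂ : AlgSt.RepByAlgSpWith (LocP @LocallyOfFinitePresentation) u)
    (h₃ : AlgSt.RepByAlgSpWith IsSurjectiveMor u) :
    AlgSt.RepByAlgSp1 (FibCat.diag (FibCat.toSelf 𝒳)) :=
  repByAlgSp1_diag_toSelf_of_forall (repByAlgSp1_slice_of_fppf_cover h𝒳 h𝒰 hΔ h₁ h₂ h₃)

end Groth.Agent.ArtinBoot49
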