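import Groth.Agent.QuotLib.AtlasProps
import Groth.Agent.ArtinBoot49.Compare
import Groth.Agent.AlgStLib.SmoothBootstrap
import Groth.Agent.AlgStLib.DiagCover
import Groth.Agent.AlgStLib.Charts
import Groth.Agent.AlgStLib.Small
import Groth.Agent.AlgSpDec.AffineProps
import Groth.Agent.S12760

/-!
# Quotient stacks by smooth affine group schemes for the etale topology
-/

set_option autoImplicit false
set_option backward.isDefEq.respectTransparency false
set_option backward.isDefEq.respectTransparency.types false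
set_option linter.unusedVariables false

universe u

open CategoryTheory CategoryTheory.Functor CategoryTheory.Limits MonoidalCategory CartesianMonoidalCategory MonObj
open AlgebraicGeometry AlgSp Groth.Agent.AlgSpLib Groth.Agent.AlgSpDec Groth.Agent.AlgStLib Groth.Agent.FibBase
open Groth.Agent.QuotLib

namespace Groth.Agent.ArtinBoot49

variable {S : Scheme.{u}}

/-- Diagonal affine. -/
abbrev DiagAff : MorphismProperty (Sp S) :=
  RepWith (MorphismProperty.diagonal (@IsAffineHom : MorphismProperty Scheme.{u}))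

theorem cancels_isAffineMor : Cancels (IsAffineMor (S := S)) DiagAff := by
  intro X Y Z _ _ _ a b hab hb
  refine isAffineMor_of_repWith le_rfl (repWith_of_postcomp ?_ (repWith_isAffineHom_of_isAffineMor hab))
  exact repWith_diagonal hb fun g hg => hg

theorem repByAlgSpWith_toSelf_overCat {P : MorphismProperty (Sp S)} (hPb : StableBC P) (U : Over S)
    (h : ∀ (k : U ⟶ Over.mk (𝟙 S)), P ((yon S).map k)) :
    AlgSt.RepByAlgSpWith P (FibCat.toSelf (FibCat.overCat U : AlgSt.Cat S)) := by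
  let T₀ : Over S := Over.mk (𝟙 S)
  let hT : IsTerminal T₀ := Over.mkIdTerminal
  have hfull : (FibCat.toSelf (FibCat.overCat T₀ : AlgSt.Cat S)).toFunctor.Full :=
    ⟨fun {x y} g => ⟨Over.homMk g (hT.hom_ext _ _), rfl⟩⟩
  have hfaith : (FibCat.toSelf (FibCat.overCat T₀ : AlgSt.Cat S)).toFunctor.Faithful :=
    ⟨fun h => Over.OverMorphism.ext h⟩
  have he : FibCat.IsEquivOver (FibCat.toSelf (FibCat.overCat T₀ : AlgSt.Cat S)) :=
    isEquivOver_of_exists_iso _ hfull hfaith fun z => ⟨Over.mk (hT.from z), Iso.refl _, IsHomLift.id rfl⟩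
  exact (repByAlgSpWith_iff_of_square (f' := AlgSt.overMap (hT.from U))
    (f := FibCat.toSelf (FibCat.overCat U : AlgSt.Cat S)) (a := BasedFunctor.id _) (b := FibCat.toSelf (FibCat.overCat T₀))
    isEquivOver_id he (eqToIso ((comp_toSelf _).trans (comp_toSelf _).symm))).2
    (repByAlgSpWith_overMap hPb (h _))

/-- The diagonal is affine if a cover by a scheme with affine diagonal is affine. -/
theorem repByAlgSpWith_isAffineMor_diag_of_cover {𝒳 : AlgSt.Cat S} {U : Over S}
    (hU : IsAffineHom (pullback.diagonal U.hom))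
    (hΔ : AlgSt.RepByAlgSp1 (FibCat.diag (FibCat.toSelf 𝒳))) {p : FibCat.overCat U ⥤ᵇ 𝒳}
    (hp : AlgSt.RepByAlgSpWith IsAffineMor p) (hes : LocEssSurj p) :
    AlgSt.RepByAlgSpWith IsAffineMor (FibCat.diag (FibCat.toSelf 𝒳)) := by
  let t := FibCat.toSelf 𝒳
  have hQb : StableBC (DiagAff (S := S)) := fun _ _ _ _ _ _ _ _ _ _ _ _ sq h => repWith_of_isPullback sq h
  have hself : AlgSt.RepByAlgSpWith DiagAff (FibCat.toSelf (FibCat.overCat U : AlgSt.Cat S)) :=
    repByAlgSpWith_toSelf_overCat hQb U fun k => (repWith_yon_map_iff _ _).2 (by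
      have h : k.left = U.hom := by simpa using Over.w k
      show IsAffineHom (pullback.diagonal k.left)
      rw [h]; exact hU)
  have hfst : AlgSt.RepByAlgSpWith DiagAff (FibCat.fpFst (BasedFunctor.comp p t) (BasedFunctor.comp p t)) := by
    rw [comp_toSelf p]
    exact repByAlgSpWith_fpFst _ hself
  have hweak : AlgSt.RepByAlgSpWith IsAffineMor (weaken p p t) :=
    repByAlgSpWith_of_comp stableBC_isAffineMor cancels_isAffineMor hfst (repByAlgSpWith_fpFst p hp)
  exact repByAlgSpWith_of_locEssSurj stableBC_isAffineMor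
    (isLocalOnBase_fppf_of_fpqc isLocalOnBase_fpqc_isAffineMor) hΔ (locEssSurj_pairMap t hes hes)
    ((repByAlgSpWith_iff_of_square (f' := weaken p p t) (f := FibCat.fpFst (pairMap p p t) (FibCat.diag t))
      (a := diagComparison p p t) (b := BasedFunctor.id _) (diagComparison_isEquivOver p p t) isEquivOver_id
      (Iso.refl _)).2 hweak)

variable {G : Over S} [GrpObj G] {X : Over S} {aX : AlgGrp.Action G X}

local notation "K₀" => Scheme.fppfPrecoverage
local notation "Kₑ" => Scheme.etalePrecoverage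

/-- An etale-locally trivial torsor is fppf-locally trivial. -/
def toFppfObj (A : AlgSt.QuotObj Kₑ G aX) : AlgSt.QuotObj K₀ G aX where
  base := A.base
  P := A.P
  act := A.act
  π := A.π
  cart := A.cart
  loc := by
    obtain ⟨R, hR, h⟩ := A.loc
    exact ⟨R, Scheme.precoverage_mono (P := @Etale) (Q := @Flat ⊓ @LocallyOfFinitePresentation)
      (fun _ _ f (_ : Etale f) => ⟨inferInstanceAs (Flat f), inferInstanceAs (LocallyOfFinitePresentation f)⟩)
      _ hR, h⟩
  φ := A.φ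
  eqv := A.eqv

variable (aX) in
/-- Weakening the topology of the torsors. -/
def toFppf : AlgSt.QuotSt Kₑ G aX ⥤ᵇ AlgSt.QuotSt K₀ G aX where
  toFunctor :=
    { obj := toFppfObj
      map := fun {A B} f => ⟨f.base, f.top, f.eqv, f.cart, f.wφ⟩
      map_id := fun A => rfl
      map_comp := fun f g => rfl }
  w := rfl

theorem isAffineMor_π [IsAffineHom G.hom] (A : AlgSt.QuotObj K₀ G aX) : IsAffineMor ((yon S).map A.π) := by
  obtain ⟨Rv, hR, hsec⟩ := A.loc
  have hcov : ∀ x : ↥A.base.left, ∃ (T' : Scheme.{u}) (f : T' ⟶ A.base.left), Rv f ∧ x ∈ Set.range f :=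
    fun x => by
      obtain ⟨Y, g, ⟨hg⟩, hx⟩ := hR.1 x
      exact ⟨_, _, hg, hx⟩
  choose T f hf hx using hcov
  have hfp : ∀ x, Flat (f x) ∧ LocallyOfFinitePresentation (f x) := fun x => hR.2 (hf x)
  choose s hs using fun x => hsec (f x) (hf x)
  have hs' : ∀ x, s x ≫ A.π.left = f x := hs
  let Ts : ↥A.base.left → Over S := fun x => Over.mk (f x ≫ A.base.hom)
  let b : ∀ x, Ts x ⟶ A.P := fun x => Over.homMk (s x) (by
    show s x ≫ A.P.hom = f x ≫ A.base.hom
    rw [← Over.w A.π, ← Category.assoc, hs'])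
  have sq : ∀ x, IsPullback ((G ◁ b x) ≫ A.act.act) (snd G (Ts x)) A.π (b x ≫ A.π) := fun x =>
    (AlgSt.isPullback_whiskerLeft (b x)).paste_horiz A.cart
  refine (isLocalOnBase_fppf_of_fpqc isLocalOnBase_fpqc_isAffineMor (fun x => (yon S).obj (Ts x))
    (fun x => (yon S).map (b x ≫ A.π)) (IsAlgSpace.yon_obj _) (fun x => IsAlgSpace.yon_obj _)
    (isFppfCover_yon_map Ts (fun x => b x ≫ A.π) (fun x => ?_) (fun x => ?_) (fun x => ⟨x, ?_⟩))
    ((yon S).map A.π) (IsAlgSpace.yon_obj _) (fun x => (yon S).obj (G ⊗ Ts x))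
    (fun x => (yon S).map (snd G (Ts x))) (fun x => (yon S).map ((G ◁ b x) ≫ A.act.act))
    (fun x => IsAlgSpace.yon_obj _) (fun x => (sq x).map (yon S))).2
    fun x => isAffineMor_of_repWith le_rfl ((repWith_yon_map_iff _ _).2 (flat_snd ‹IsAffineHom G.hom› (Ts x)))
  · show Flat (s x ≫ A.π.left)
    rw [hs']; exact (hfp x).1
  · show LocallyOfFinitePresentation (s x ≫ A.π.left)
    rw [hs']; exact (hfp x).2
  · show x ∈ Set.range (s x ≫ A.π.left)
    rw [hs']; exact hx x

theorem smooth_π [Smooth G.hom] (A : AlgSt.QuotObj K₀ G aX) : Smooth A.π.left := by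
  have h := locP_π (R := @Smooth) (isLocalOnBase_fppf_of_fpqc isLocalOnBase_fpqc_locP) ‹Smooth G.hom› A rfl
  rw [eqToHom_refl, Category.comp_id] at h
  exact locP_yon_map h

theorem surjective_π_left (A : AlgSt.QuotObj K₀ G aX) : Surjective A.π.left := by
  refine ⟨fun x => ?_⟩
  obtain ⟨Rv, hR, hsec⟩ := A.loc
  obtain ⟨Y, g, ⟨hg⟩, hx⟩ := hR.1 x
  obtain ⟨w, rfl⟩ := hx
  obtain ⟨s, hs⟩ := hsec _ hg
  exact ⟨s w, (Scheme.Hom.comp_apply s A.π.left w).symm.trans (congrArg (fun k => k w) hs)⟩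

theorem loc_etale [Smooth G.hom] (A : AlgSt.QuotObj K₀ G aX) :
    NonAbH1.IsLocallyTrivialFor Kₑ (Over.mk A.π.left : Over A.base.left) := by
  have := smooth_π A
  have := surjective_π_left A
  obtain ⟨T, ψ, σ, hψ, hψ', hσ⟩ := exists_etale_section A.π
  refine ⟨Presieve.singleton ψ.left, ?_, ?_⟩
  · exact (Scheme.singleton_mem_precoverage_iff @Etale ψ.left).2 ⟨hψ'.surj, hψ⟩
  · rintro S' f ⟨⟩
    exact ⟨σ.left, congrArg CommaMorphism.left hσ⟩

theorem toFppf_isEquivOver [Smooth G.hom] : FibCat.IsEquivOver (toFppf aX) := by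
  refine isEquivOver_of_exists_iso _ ⟨fun {A B} f => ⟨⟨f.base, f.top, f.eqv, f.cart, f.wφ⟩, rfl⟩⟩
    ⟨fun {A B} f g h => AlgSt.QuotObj.hom_ext (congrArg AlgSt.QuotObj.Hom.base h :)
      (congrArg AlgSt.QuotObj.Hom.top h :)⟩ fun A =>
    ⟨⟨A.base, A.P, A.act, A.π, A.cart, loc_etale A, A.φ, A.eqv⟩, Iso.refl _, IsHomLift.id rfl⟩

theorem isStack_quotSt_etale [Smooth G.hom] [IsAffineHom G.hom] :
    Stk.IsStack (QuotSh.J Kₑ S) (AlgSt.QuotSt Kₑ G aX) :=
  (StkLib.isStack_iff_of_isEquivOver (J := QuotSh.J Kₑ S) (toFppf_isEquivOver (aX := aX))).2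
    (isStack_etale_of_fppf isStack_quotSt)

theorem quotOver_smooth_surjective_affine [Smooth G.hom] [IsAffineHom G.hom] :
    AlgSt.RepByAlgSpWith (LocP @Smooth) (quotOver Kₑ G aX) ∧
      AlgSt.RepByAlgSpWith IsSurjectiveMor (quotOver Kₑ G aX) ∧
        AlgSt.RepByAlgSpWith IsAffineMor (quotOver Kₑ G aX) := by
  refine ⟨repByAlgSpWith_quot _ fun A U eU => ?_, repByAlgSpWith_quot _ fun A U eU => ?_,
    repByAlgSpWith_quot _ fun A U eU => ?_⟩
  · exact locP_π (isLocalOnBase_fppf_of_fpqc isLocalOnBase_fpqc_locP) ‹Smooth G.hom› (toFppfObj A) eU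
  · exact surjective_π (toFppfObj A) eU
  · subst eU
    rw [eqToHom_refl, Category.comp_id]
    exact isAffineMor_π (toFppfObj A)

theorem isAlgStack_quotSt_etale [Smooth G.hom] [IsAffineHom G.hom] :
    AlgSt.IsAlgStack Kₑ (AlgSt.QuotSt Kₑ G aX) := by
  obtain ⟨h₁, h₂, -⟩ := quotOver_smooth_surjective_affine (aX := aX)
  have h := (isDM_of_repByAlgSp (repByAlgSp_overCat X)).1
  exact ⟨isStack_quotSt_etale, repByAlgSp1_diag_of_smooth_cover isStack_quotSt_etale h.isStack.1 h.diag h₁ h₂,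
    hasAtlas_of_smooth_cover h.isStack.1 h.atlas h₁ h₂⟩

theorem repByAlgSpWith_isAffineMor_diag_quotSt_etale [Smooth G.hom] [IsAffineHom G.hom]
    (hX : IsAffineHom (pullback.diagonal X.hom)) :
    AlgSt.RepByAlgSpWith IsAffineMor (FibCat.diag (FibCat.toSelf (AlgSt.QuotSt Kₑ G aX))) := by
  obtain ⟨h₁, h₂, h₃⟩ := quotOver_smooth_surjective_affine (aX := aX)
  exact repByAlgSpWith_isAffineMor_diag_of_cover hX isAlgStack_quotSt_etale.diag h₃ (locEssSurj_of_atlas h₁ h₂)

end Groth.Agent.ArtinBoot49
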