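import Groth.Agent.ArtinBoot49.Slice
import Mathlib.RingTheory.NoetherNormalization
import Mathlib.RingTheory.Artinian.Ring
import Mathlib.FieldTheory.IsAlgClosed.AlgebraicClosure

/-!
# Slices of algebras over fields

Every nonzero finitely generated algebra over a field has a finite nonzero quotient of a principal localisation by a
regular sequence.
-/

set_option autoImplicit false
set_option linter.unusedSectionVars false

universe u

open MvPolynomial Module

namespace Groth.Agent.ArtinBoot49

section Poly

variable {B : Type u} [CommRing B]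

/-- Membership in the span of a monic polynomial and an ideal of coefficients. -/
theorem coeff_modByMonic_mem {C : Type u} [CommRing C] {p x : Polynomial C} (hp : p.Monic) (J : Ideal C)
    (hx : x ∈ Ideal.span {p} ⊔ J.map Polynomial.C) (j : ℕ) : (x %ₘ p).coeff j ∈ J := by
  obtain ⟨a, ha, b, hb, rfl⟩ := Submodule.mem_sup.1 hx
  obtain ⟨c, rfl⟩ := Ideal.mem_span_singleton'.1 ha
  have h1 : c * p %ₘ p = 0 := (Polynomial.modByMonic_eq_zero_iff_dvd hp).2 (dvd_mul_left p c)
  rw [Polynomial.add_modByMonic, h1, zero_add]
  let L : Polynomial C →ₗ[C] C := (Polynomial.lcoeff C j) ∘ₗ Polynomial.modByMonicHom p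
  show L b ∈ J
  rw [Ideal.mem_map_C_iff] at hb
  rw [← b.sum_monomial_eq, Polynomial.sum_def, map_sum]
  refine Ideal.sum_mem _ fun i _ => ?_
  rw [show Polynomial.monomial i (b.coeff i) = b.coeff i • Polynomial.monomial i (1 : C) by
    rw [Polynomial.smul_monomial, smul_eq_mul, mul_one], map_smul, smul_eq_mul]
  exact Ideal.mul_mem_right _ _ (hb i)

/-- Monic polynomials in separate variables form a regular sequence. -/
theorem separated_regular {s : ℕ} (h : Fin s → Polynomial B) (hh : ∀ i, (h i).Monic) (i : Fin s)
    (x : MvPolynomial (Fin s) B)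
    (hx : Polynomial.aeval (X i) (h i) * x ∈ pre (fun j => Polynomial.aeval (X j : MvPolynomial (Fin s) B) (h j)) i) :
    x ∈ pre (fun j => Polynomial.aeval (X j : MvPolynomial (Fin s) B) (h j)) i := by
  induction s with
  | zero => exact i.elim0
  | succ s ih =>
    let C := MvPolynomial (Fin s) B
    let e := finSuccEquiv B s
    let H : Fin s → C := fun j => Polynomial.aeval (X j : C) (h j.succ)
    let p : Polynomial C := (h 0).map (algebraMap B C)
    have hp : p.Monic := (hh 0).map _
    have he0 : e (Polynomial.aeval (X 0) (h 0)) = p := by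
      rw [← Polynomial.aeval_algHom_apply, finSuccEquiv_X_zero]
      exact Polynomial.aeval_X_left_eq_map (h 0)
    have hes : ∀ j : Fin s, e (Polynomial.aeval (X j.succ) (h j.succ)) = Polynomial.C (H j) := fun j => by
      rw [← Polynomial.aeval_algHom_apply, finSuccEquiv_X_succ]
      exact Polynomial.aeval_algebraMap_apply (Polynomial C) (X j : C) (h j.succ)
    set F := fun j => Polynomial.aeval (X j : MvPolynomial (Fin (s + 1)) B) (h j)
    cases i using Fin.cases with
    | zero =>
      simp only [Fin.val_zero, pre_zero, Ideal.mem_bot] at hx ⊢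
      have h1 := congrArg e hx
      rw [map_mul, map_zero, he0] at h1
      have := hp.mul_right_eq_zero_iff.1 h1
      exact e.injective (this.trans (map_zero e).symm)
    | succ i =>
      have hmap : (pre F ((i : ℕ) + 1)).map e.toRingEquiv.toRingHom =
          Ideal.span {p} ⊔ (pre H i).map Polynomial.C := by
        rw [map_pre, map_pre, pre, pre, ← Ideal.span_union]
        congr 1
        ext z
        constructor
        · rintro ⟨j, hj, rfl⟩
          cases j using Fin.cases with
          | zero => exact Or.inl he0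
          | succ j =>
            refine Or.inr ⟨j, ?_, (hes j).symm⟩
            simp only [Set.mem_setOf_eq, Fin.val_succ] at hj ⊢
            omega
        · rintro (rfl | ⟨j, hj, rfl⟩)
          · exact ⟨0, by simp, he0⟩
          · refine ⟨j.succ, ?_, hes j⟩
            simp only [Set.mem_setOf_eq, Fin.val_succ] at hj ⊢
            omega
      rw [Fin.val_succ] at hx ⊢
      have h1 := Ideal.mem_map_of_mem e.toRingEquiv.toRingHom hx
      rw [hmap, map_mul] at h1
      rw [show e.toRingEquiv.toRingHom (Polynomial.aeval (X i.succ) (h i.succ)) = Polynomial.C (H i) from hes i] at h1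
      have hr : ∀ j, (e x %ₘ p).coeff j ∈ pre H i := fun j => by
        refine ih (fun j => h j.succ) (fun j => hh j.succ) i _ ?_
        have h2 := coeff_modByMonic_mem hp _ h1 j
        rw [← Polynomial.smul_eq_C_mul, Polynomial.smul_modByMonic, Polynomial.coeff_smul] at h2
        exact h2
      have h2 : e x ∈ Ideal.span {p} ⊔ (pre H i).map Polynomial.C := by
        rw [← Polynomial.modByMonic_add_div (e x) p]
        exact add_mem (Ideal.mem_sup_right (Ideal.mem_map_C_iff.2 hr))
          (Ideal.mem_sup_left (Ideal.mul_mem_right _ _ (Ideal.mem_span_singleton_self p)))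
      rw [← hmap] at h2
      obtain ⟨y, hy, hyx⟩ := (Ideal.mem_map_iff_of_surjective e.toRingEquiv.toRingHom e.surjective).1 h2
      rwa [← e.injective hyx]

end Poly

section Field

variable (K P : Type u) [Field K] [CommRing P] [Algebra K P] [Algebra.FiniteType K P] [Nontrivial P]

/-- Slices exist over fields. -/
theorem exists_slice_field : ∃ (n : ℕ) (f : Fin n → P) (g : P),
    (∀ (i : Fin n) (x : P), f i * x ∈ pre f i → ∃ N : ℕ, g ^ N * x ∈ pre f i) ∧
    Module.Finite K (Localization.Away (Ideal.Quotient.mk (pre f n) g)) ∧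
    Nontrivial (Localization.Away (Ideal.Quotient.mk (pre f n) g)) := by
  classical
  obtain ⟨s, π, hπ, hfin⟩ := exists_finite_inj_algHom_of_fg K P
  let D := MvPolynomial (Fin s) K
  letI : Algebra D P := π.toRingHom.toAlgebra
  haveI : IsScalarTower K D P := IsScalarTower.of_algebraMap_eq fun r => (π.commutes r).symm
  haveI : Module.Finite D P := hfin
  obtain ⟨gens, hgens⟩ := (Module.finite_def.1 (inferInstance : Module.Finite D P))
  obtain ⟨t, hli, hmax⟩ := exists_maximal_linearIndepOn D (fun x : gens => (x : P))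
  let F : Submodule D P := Submodule.span D (Set.range fun x : t => ((x : gens) : P))
  have hu : ∀ x : gens, ∃ a : D, a ≠ 0 ∧ a • (x : P) ∈ F := fun x => by
    by_cases hx : x ∈ t
    · exact ⟨1, one_ne_zero, by rw [one_smul]; exact Submodule.subset_span ⟨⟨x, hx⟩, rfl⟩⟩
    · obtain ⟨a, ha, hm⟩ := hmax x hx
      exact ⟨a, ha, by rw [Set.image_eq_range] at hm; exact hm⟩
  choose a ha haF using hu
  let u : D := ∏ x, a x
  have hu0 : u ≠ 0 := Finset.prod_ne_zero_iff.2 fun x _ => ha x
  have huF : ∀ y : P, u • y ∈ F := fun y => by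
    have hy : y ∈ Submodule.span D (gens : Set P) := by rw [hgens]; trivial
    induction hy using Submodule.span_induction with
    | mem z hz =>
      obtain ⟨c, hc⟩ : a ⟨z, hz⟩ ∣ u := Finset.dvd_prod_of_mem a (Finset.mem_univ _)
      rw [hc, mul_comm, mul_smul]
      exact F.smul_mem c (haF ⟨z, hz⟩)
    | zero => simp
    | add x y _ _ hx hy => rw [smul_add]; exact add_mem hx hy
    | smul r x _ hx => rw [smul_comm]; exact F.smul_mem r hx
  have ht : t.Nonempty := by
    by_contra hte
    rw [Set.not_nonempty_iff_eq_empty] at hte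
    have := huF 1
    haveI htE : IsEmpty t := Set.isEmpty_coe_sort.2 hte
    have hF0 : F = ⊥ := by
      show Submodule.span D _ = ⊥
      rw [Set.range_eq_empty, Submodule.span_empty]
    rw [hF0, Submodule.mem_bot] at this
    rw [Algebra.smul_def, mul_one] at this
    exact hu0 (hπ (this.trans (map_zero π).symm))
  let L := AlgebraicClosure K
  obtain ⟨pt, hpt⟩ : ∃ pt : Fin s → L, MvPolynomial.aeval pt u ≠ 0 := by
    by_contra h
    push Not at h
    refine hu0 (MvPolynomial.map_injective _ (algebraMap K L).injective ?_)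
    rw [map_zero]
    refine MvPolynomial.funext fun x => ?_
    rw [map_zero, MvPolynomial.eval_map]
    exact h x
  let h : Fin s → Polynomial K := fun i => minpoly K (pt i)
  have hh : ∀ i, (h i).Monic := fun i => minpoly.monic (Algebra.IsIntegral.isIntegral _)
  let H : Fin s → D := fun i => Polynomial.aeval (X i : D) (h i)
  let f : Fin s → P := fun i => algebraMap D P (H i)
  have hpre : ∀ k, pre f k = (pre H k).map (algebraMap D P) := fun k => (map_pre _ _ _).symm
  let bas := Basis.span hli
  have hcoord : ∀ (k : ℕ) (y : P), y ∈ pre f k → ∀ hy : u • y ∈ F, ∀ j, bas.repr ⟨u • y, hy⟩ j ∈ pre H k := by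
    intro k y hy hyF j
    rw [hpre] at hy
    have hyk : y ∈ pre H k • (⊤ : Submodule D P) := by
      rw [Ideal.smul_top_eq_map]
      exact hy
    revert hyF
    refine Submodule.smul_induction_on hyk (fun r hr c _ hyF => ?_) (fun v w hv hw hyF => ?_)
    · have : (⟨u • r • c, hyF⟩ : F) = r • ⟨u • c, huF c⟩ := Subtype.ext (smul_comm u r c)
      rw [this, map_smul, Finsupp.smul_apply, smul_eq_mul]
      exact Ideal.mul_mem_right _ _ hr
    · have : (⟨u • (v + w), hyF⟩ : F) = ⟨u • v, huF v⟩ + ⟨u • w, huF w⟩ := Subtype.ext (smul_add u v w)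
      rw [this, map_add, Finsupp.add_apply]
      exact add_mem (hv _) (hw _)
  refine ⟨s, f, algebraMap D P u, fun i x hx => ⟨1, ?_⟩, ?_, ?_⟩
  · have h1 : ∀ j, bas.repr ⟨u • x, huF x⟩ j ∈ pre H i := fun j => by
      refine separated_regular h hh i _ ?_
      have h2 := hcoord i _ hx (huF _) j
      rw [show (⟨u • (f i * x), huF _⟩ : F) = H i • ⟨u • x, huF x⟩ from Subtype.ext (by
        show u • (algebraMap D P (H i) * x) = H i • u • x
        rw [← Algebra.smul_def, smul_comm]), map_smul, Finsupp.smul_apply, smul_eq_mul] at h2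
      exact h2
    rw [pow_one, ← Algebra.smul_def, hpre]
    have h2 : (u • x : P) = ∑ j, bas.repr ⟨u • x, huF x⟩ j • (bas j : P) := by
      have := congrArg F.subtype (bas.sum_repr ⟨u • x, huF x⟩)
      rw [map_sum] at this
      exact this.symm
    rw [h2]
    refine Ideal.sum_mem _ fun j _ => ?_
    rw [Algebra.smul_def]
    exact Ideal.mul_mem_right _ _ (Ideal.mem_map_of_mem _ (h1 j))
  · let I := pre f s
    let J := pre H s
    haveI : Module.Finite K (D ⧸ J) := by
      haveI : Algebra.IsIntegral K (D ⧸ J) := by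
        refine ⟨fun z => ?_⟩
        obtain ⟨z, rfl⟩ := Ideal.Quotient.mk_surjective z
        induction z using MvPolynomial.induction_on with
        | C c => exact isIntegral_algebraMap (R := K) (A := D ⧸ J) (x := c)
        | add p q hp hq => rw [map_add]; exact hp.add hq
        | mul_X p i hp =>
          rw [map_mul]
          refine hp.mul ⟨h i, hh i, ?_⟩
          have := Polynomial.aeval_algHom_apply (Ideal.Quotient.mkₐ K J) (X i : D) (h i)
          rw [← Polynomial.aeval_def]
          refine this.trans (Ideal.Quotient.eq_zero_iff_mem.2 (Ideal.subset_span ⟨i, i.2, rfl⟩))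
      haveI : Algebra.FiniteType K (D ⧸ J) := inferInstance
      exact Algebra.IsIntegral.finite
    haveI : Module.Finite K (P ⧸ I) := by
      letI : Algebra (D ⧸ J) (P ⧸ I) := (Ideal.quotientMap I (algebraMap D P) (by
        rw [← Ideal.map_le_iff_le_comap, ← hpre])).toAlgebra
      haveI : IsScalarTower D (D ⧸ J) (P ⧸ I) := IsScalarTower.of_algebraMap_eq fun r => rfl
      haveI : IsScalarTower K (D ⧸ J) (P ⧸ I) := IsScalarTower.of_algebraMap_eq fun r => by
        rw [IsScalarTower.algebraMap_apply K D (P ⧸ I), IsScalarTower.algebraMap_apply D (D ⧸ J) (P ⧸ I)]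
        rfl
      haveI : Module.Finite (D ⧸ J) (P ⧸ I) := Module.Finite.of_restrictScalars_finite D _ _
      exact Module.Finite.trans (D ⧸ J) _
    haveI : IsArtinianRing (P ⧸ I) := IsArtinianRing.of_finite K _
    let Lz := Localization.Away (Ideal.Quotient.mk I (algebraMap D P u))
    exact Module.Finite.of_surjective (IsScalarTower.toAlgHom K (P ⧸ I) Lz).toLinearMap
      (IsArtinianRing.localization_surjective (Submonoid.powers (Ideal.Quotient.mk I (algebraMap D P u))) Lz)
  · refine ⟨⟨1, 0, fun h10 => ?_⟩⟩
    have h3 : algebraMap (P ⧸ pre f s) (Localization.Away (Ideal.Quotient.mk (pre f s) (algebraMap D P u))) (1 : P ⧸ pre f s) =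
        algebraMap (P ⧸ pre f s) (Localization.Away (Ideal.Quotient.mk (pre f s) (algebraMap D P u))) (0 : P ⧸ pre f s) := by rw [map_one, map_zero]; exact h10
    obtain ⟨N, hN⟩ := IsLocalization.Away.exists_of_eq (Ideal.Quotient.mk (pre f s) (algebraMap D P u)) h3
    rw [mul_one, mul_zero, ← map_pow, Ideal.Quotient.eq_zero_iff_mem] at hN
    obtain ⟨x₀, hx₀⟩ := ht
    have hb : (bas ⟨x₀, hx₀⟩ : P) = (x₀ : P) := congrArg Subtype.val (Basis.span_apply hli _)
    have h4 : algebraMap D P u ^ N * (x₀ : P) ∈ pre f s := Ideal.mul_mem_right _ _ hN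
    have h5 := hcoord s _ h4 (huF _) ⟨x₀, hx₀⟩
    rw [show (⟨u • (algebraMap D P u ^ N * (x₀ : P)), huF _⟩ : F) = u ^ (N + 1) • bas ⟨x₀, hx₀⟩ from Subtype.ext (by
      show u • (algebraMap D P u ^ N * (x₀ : P)) = u ^ (N + 1) • (bas ⟨x₀, hx₀⟩ : P)
      rw [hb, Algebra.smul_def, Algebra.smul_def, map_pow, pow_succ']
      ring), map_smul, Finsupp.smul_apply, Basis.repr_self, Finsupp.single_eq_same, smul_eq_mul, mul_one] at h5
    have h6 : pre H s ≤ RingHom.ker (MvPolynomial.aeval (R := K) pt).toRingHom := by
      refine Ideal.span_le.2 ?_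
      rintro _ ⟨i, -, rfl⟩
      show MvPolynomial.aeval pt (Polynomial.aeval (X i : D) (h i)) = 0
      rw [← Polynomial.aeval_algHom_apply, MvPolynomial.aeval_X]
      exact minpoly.aeval K (pt i)
    have h7 : MvPolynomial.aeval pt (u ^ (N + 1)) = 0 := h6 h5
    rw [map_pow] at h7
    exact hpt (eq_zero_of_pow_eq_zero h7)

end Field

end Groth.Agent.ArtinBoot49
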