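import Groth.Agent.ArtinBoot49.AtlasBG
import Groth.Agent.QuotLib.Descend
import Groth.Agent.SrcDescent.SmoothFppf
import Groth.Agent.AlgSpPts.Sep
import Groth.Agent.AlgStLib.SmoothLocally

/-!
# If a classifying stack has a smooth atlas then the group is flat and locally of finite presentation
-/

set_option autoImplicit false
set_option backward.isDefEq.respectTransparency false
set_option backward.isDefEq.respectTransparency.types false
set_option linter.unusedVariables false

universe u

open CategoryTheory CategoryTheory.Functor CategoryTheory.Limits MonoidalCategory CartesianMonoidalCategory MonObj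
open AlgebraicGeometry AlgSp Groth.Agent.AlgSpLib Groth.Agent.AlgStLib Groth.Agent.FibBase Groth.Agent.QuotLib

namespace Groth.Agent.ArtinBoot49

/-- If `q` has a section and `q ≫ f` is flat then `f` is flat. -/
theorem flat_of_section {X T S : Scheme.{u}} (q : X ⟶ T) (σ : T ⟶ X) (h : σ ≫ q = 𝟙 T) (f : T ⟶ S)
    [Flat (q ≫ f)] : Flat f := by
  rw [Flat.iff_flat_stalkMap]
  intro t
  have hiso : IsIso (σ ≫ q) := by rw [h]; infer_instance
  have h1 : IsIso ((σ ≫ q).stalkMap t) := inferInstance
  rw [Scheme.Hom.stalkMap_comp] at h1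
  let r := σ.stalkMap t ≫ inv (q.stalkMap (σ t) ≫ σ.stalkMap t)
  have hr : q.stalkMap (σ t) ≫ r = 𝟙 _ := (Category.assoc _ _ _).symm.trans (IsIso.hom_inv_id _)
  clear_value r
  have e : q (σ t) = t := (Scheme.Hom.comp_apply σ q t).symm.trans (by rw [h]; rfl)
  rw [← e]
  generalize σ t = x at r hr
  have hqf : ((q ≫ f).stalkMap x).hom.Flat := (Flat.iff_flat_stalkMap _).1 ‹_› x
  rw [Scheme.Hom.stalkMap_comp] at hqf
  algebraize [(f.stalkMap (q x)).hom, (q.stalkMap x).hom]
  letI : Algebra (S.presheaf.stalk (f (q x))) (X.presheaf.stalk x) :=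
    ((q.stalkMap x).hom.comp (f.stalkMap (q x)).hom).toAlgebra
  have : IsScalarTower (S.presheaf.stalk (f (q x))) (T.presheaf.stalk (q x)) (X.presheaf.stalk x) :=
    IsScalarTower.of_algebraMap_eq fun _ => rfl
  have : Module.Flat (S.presheaf.stalk (f (q x))) (X.presheaf.stalk x) := hqf
  have hra : ∀ a, r.hom ((q.stalkMap x).hom a) = a := fun a => ConcreteCategory.congr_hom hr a
  refine Module.Flat.of_retract (R := S.presheaf.stalk (f (q x))) (M := X.presheaf.stalk x)
    (IsScalarTower.toAlgHom (S.presheaf.stalk (f (q x))) (T.presheaf.stalk (q x))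
      (X.presheaf.stalk x)).toLinearMap
    { toFun := r.hom
      map_add' := r.hom.map_add
      map_smul' := fun c y => by
        rw [Algebra.smul_def, Algebra.smul_def, map_mul]
        congr 1
        exact hra _ } ?_
  exact LinearMap.ext hra

variable {S : Scheme.{u}} {G : Over S} [GrpObj G]

/-- The total space of the torsor of a smooth surjective atlas is smooth and surjective over the base. -/
theorem smooth_surjective_torsor {V : Over S} (y : FibCat.overCat V ⥤ᵇ AlgSt.BG Scheme.fppfPrecoverage G)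
    (hsm : AlgSt.RepByAlgSpWith (LocP @Smooth) y) (hsu : AlgSt.RepByAlgSpWith IsSurjectiveMor y) :
    Smooth (torsor y).P.hom ∧ Surjective (torsor y).P.hom := by
  let K₀ := Scheme.fppfPrecoverage.{u}
  let u := quotOver K₀ G (AlgSt.trivAction G)
  let e := BasedFunctor.comp (AlgSt.toOverCat (torsor y).P) (BasedFunctor.comp (toFp y) (fpSwap y u))
  have he : FibCat.IsEquivOver e :=
    isEquivOver_comp (isEquivOver_toOverCat _) (isEquivOver_comp (toFp_isEquivOver y) (fpSwap_isEquivOver y u))
  let F : {F : Sp S // IsAlgSpace F} := ⟨(yon S).obj (torsor y).P, IsAlgSpace.yon_obj _⟩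
  have heq : AlgSt.spMapOfOver (BasedFunctor.comp e (FibCat.fpFst u y)) = (yon S).map (torsor y).φ := by
    rw [spMapOfOver_congr (show BasedFunctor.comp e (FibCat.fpFst u y) ≅
      BasedFunctor.comp (AlgSt.ofSpMap ((yon S).map (torsor y).φ)) (AlgSt.toOverCat (𝟙_ (Over S))) from
      overIso _ _ fun z => toUnit_unique _ _), spMapOfOver_ofSpMap_toOverCat]
  have h1 : LocP @Smooth ((yon S).map (torsor y).φ) := heq ▸
    ((show RepOver (LocP @Smooth) (FibCat.fpFst u y) from hsm _ u).property_of_stableBC (F := F)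
      stableBC_locP e he).2
  have h2 : IsSurjectiveMor ((yon S).map (torsor y).φ) := heq ▸
    ((show RepOver IsSurjectiveMor (FibCat.fpFst u y) from hsu _ u).property_of_stableBC (F := F)
      stableBC_isSurjectiveMor e he).2
  have hφ : (torsor y).φ.left = (torsor y).P.hom := by simpa using Over.w (torsor y).φ
  have hPsm : Smooth (torsor y).P.hom := hφ ▸ locP_yon_map (P := @Smooth) h1
  have hPsu : Surjective (torsor y).P.hom := hφ ▸ ⟨isSurjective_left_of_map _ h2⟩
  exact ⟨hPsm, hPsu⟩

/-- A smooth surjective atlas of the classifying stack of a flat group is smooth over the base. -/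
theorem smooth_atlas_BG [Flat G.hom] [LocallyOfFinitePresentation G.hom] {V : Over S}
    (y : FibCat.overCat V ⥤ᵇ AlgSt.BG Scheme.fppfPrecoverage G)
    (hsm : AlgSt.RepByAlgSpWith (LocP @Smooth) y) (hsu : AlgSt.RepByAlgSpWith IsSurjectiveMor y) :
    Smooth V.hom := by
  obtain ⟨hP, -⟩ := smooth_surjective_torsor y hsm hsu
  have hV : (torsor y).base = V := base_obj y _
  obtain ⟨⟨h1, h2⟩, h3⟩ := fppf_π (torsor y)
  have := h1; have := h2; have := h3
  have : Smooth ((torsor y).π.left ≫ (torsor y).base.hom) := by rw [Over.w]; exact hP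
  have := SrcDescent.smooth_of_fppf_comp (torsor y).π.left (torsor y).base.hom
  rwa [hV] at this

/-- If the classifying stack has a smooth surjective atlas then `G` is flat and locally of finite presentation. -/
theorem flat_lfp_of_hasAtlas_BG
    (h : AlgSt.HasAtlas (LocP @Smooth) (AlgSt.BG Scheme.fppfPrecoverage G)) :
    Flat G.hom ∧ LocallyOfFinitePresentation G.hom := by
  obtain ⟨V, y, hsm, hsu⟩ := h
  obtain ⟨hPsm, hPsu⟩ := smooth_surjective_torsor y hsm hsu
  generalize torsor y = A at hPsm hPsu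
  obtain ⟨Rv, hR, hsec⟩ := A.loc
  have hcov : ∀ x : ↥A.base.left, ∃ (T' : Scheme.{u}) (f : T' ⟶ A.base.left), Rv f ∧ x ∈ Set.range f :=
    fun x => by
      obtain ⟨Y, g, ⟨hg⟩, hx⟩ := hR.1 x
      exact ⟨_, _, hg, hx⟩
  choose T f hf hx using hcov
  have hfp : ∀ x, Flat (f x) ∧ LocallyOfFinitePresentation (f x) := fun x => hR.2 (hf x)
  choose s hs using fun x => hsec (f x) (hf x)
  have hs' : ∀ x, s x ≫ A.π.left = f x := hs
  let Ts : ↥A.base.left → Over S := fun x => Over.mk (f x ≫ A.base.hom)
  let b : ∀ x, Ts x ⟶ A.P := fun x => Over.homMk (s x) (by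
    show s x ≫ A.P.hom = f x ≫ A.base.hom
    rw [← Over.w A.π, ← Category.assoc, hs'])
  have hGT : ∀ x, Flat (G ⊗ Ts x).hom ∧ LocallyOfFinitePresentation (G ⊗ Ts x).hom := fun x => by
    have sq := ((AlgSt.isPullback_whiskerLeft (b x)).paste_horiz A.cart).map (Over.forget S)
    have hb : (b x ≫ A.π).left = f x := hs' x
    have := (hfp x).1
    have := (hfp x).2
    have : Flat ((G ◁ b x) ≫ A.act.act).left :=
      MorphismProperty.of_isPullback (P := @Flat) sq.flip (show Flat (b x ≫ A.π).left by rw [hb]; infer_instance)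
    have : LocallyOfFinitePresentation ((G ◁ b x) ≫ A.act.act).left :=
      MorphismProperty.of_isPullback (P := @LocallyOfFinitePresentation) sq.flip
        (show LocallyOfFinitePresentation (b x ≫ A.π).left by rw [hb]; infer_instance)
    rw [← Over.w ((G ◁ b x) ≫ A.act.act)]
    exact ⟨inferInstance, inferInstance⟩
  have hT : ∀ x, Flat (Ts x).hom ∧ LocallyOfFinitePresentation (Ts x).hom := fun x => by
    have := (hGT x).1
    have := (hGT x).2
    let σ := (lift (toUnit (Ts x) ≫ η[G]) (𝟙 (Ts x))).left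
    let q := (snd G (Ts x)).left
    have hσ : σ ≫ q = 𝟙 _ :=
      congrArg CommaMorphism.left (lift_snd (toUnit (Ts x) ≫ η[G]) (𝟙 (Ts x)))
    have hq : q ≫ (Ts x).hom = (G ⊗ Ts x).hom := Over.w _
    have hσ' : σ ≫ (G ⊗ Ts x).hom = (Ts x).hom := Over.w _
    have : Flat (q ≫ (Ts x).hom) := by rw [hq]; infer_instance
    have : LocallyOfFiniteType (q ≫ (Ts x).hom) := by rw [hq]; infer_instance
    have : LocallyOfFiniteType q := locallyOfFiniteType_of_comp q (Ts x).hom
    have : LocallyOfFinitePresentation (σ ≫ q) := by rw [hσ]; infer_instance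
    have : LocallyOfFinitePresentation σ := AlgSpPts.locallyOfFinitePresentation_of_comp σ q
    exact ⟨flat_of_section q σ hσ _, hσ' ▸ inferInstance⟩
  let φ : (∐ fun x => (G ⊗ Ts x).left) ⟶ G.left := Sigma.desc fun x => (fst G (Ts x)).left
  have sq : ∀ x, IsPullback (fst G (Ts x)).left (snd G (Ts x)).left G.hom (Ts x).hom := fun x => by
    have h := (AlgSt.isPullback_fst_snd G (Ts x)).map (Over.forget S)
    have e1 : (toUnit G).left = G.hom := by simpa using Over.w (toUnit G)
    have e2 : (toUnit (Ts x)).left = (Ts x).hom := by simpa using Over.w (toUnit (Ts x))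
    simpa [e1, e2] using h
  have : Flat φ := IsZariskiLocalAtSource.sigmaDesc fun x => MorphismProperty.of_isPullback (sq x).flip (hT x).1
  have : LocallyOfFinitePresentation φ :=
    IsZariskiLocalAtSource.sigmaDesc fun x => MorphismProperty.of_isPullback (sq x).flip (hT x).2
  have : Surjective φ := ⟨fun g => by
    obtain ⟨p, hp⟩ := A.P.hom.surjective (G.hom g)
    obtain ⟨t, ht⟩ := hx (A.π.left p)
    have ht' : (Ts (A.π.left p)).hom t = G.hom g := by
      show (f _ ≫ A.base.hom) t = _
      rw [Scheme.Hom.comp_apply, ht, ← Scheme.Hom.comp_apply, Over.w A.π, hp]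
    obtain ⟨w, hw, -⟩ := Scheme.exists_preimage_of_isPullback (sq (A.π.left p)) g t ht'.symm
    refine ⟨Sigma.ι (fun x => (G ⊗ Ts x).left) _ w, ?_⟩
    rw [← Scheme.Hom.comp_apply, Sigma.ι_desc]
    exact hw⟩
  have hφG : φ ≫ G.hom = Sigma.desc fun x => (G ⊗ Ts x).hom := Sigma.hom_ext _ _ fun x => by
    rw [Sigma.ι_desc_assoc, Sigma.ι_desc]
    exact Over.w _
  have : Flat (φ ≫ G.hom) := by rw [hφG]; exact IsZariskiLocalAtSource.sigmaDesc fun x => (hGT x).1
  have : LocallyOfFinitePresentation (φ ≫ G.hom) := by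
    rw [hφG]; exact IsZariskiLocalAtSource.sigmaDesc fun x => (hGT x).2
  exact ⟨SrcDescent.flat_of_fppf_comp φ G.hom, SrcDescent.locallyOfFinitePresentation_of_fppf_comp φ G.hom⟩

end Groth.Agent.ArtinBoot49

namespace Groth.Agent.ArtinBoot49

variable {S : Scheme.{u}} {G : Over S} [GrpObj G]

/-- An algebraic classifying stack of a flat group is smooth over the base. -/
theorem locQ_smooth_BG [Flat G.hom] [LocallyOfFinitePresentation G.hom]
    (h : AlgSt.HasAtlas (LocP @Smooth) (AlgSt.BG Scheme.fppfPrecoverage G)) :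
    AlgSt.LocQ (LocP @Smooth) (FibCat.toSelf (AlgSt.BG Scheme.fppfPrecoverage G)) := by
  obtain ⟨V, y, hsm, hsu⟩ := h
  have hV := smooth_atlas_BG y hsm hsu
  let T₀ : Over S := Over.mk (𝟙 S)
  refine ⟨V, T₀, y, FibCat.toSelf _, Over.mkIdTerminal.from V,
    eqToIso ((comp_toSelf _).trans (comp_toSelf _).symm), hsm, hsu,
    repByAlgSpWith_toSelf_overCat stableBC_locP T₀ fun k => ?_, ?_⟩
  · refine locP_of_repWith ((repWith_yon_map_iff (P := @Smooth) _).2 ?_)
    have hk : k.left = 𝟙 S := by simpa [T₀] using Over.w k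
    rw [hk]
    exact inferInstanceAs (Smooth (𝟙 S))
  · refine locP_of_repWith ((repWith_yon_map_iff (P := @Smooth) _).2 ?_)
    have hk : (Over.mkIdTerminal.from V : V ⟶ T₀).left = V.hom := by
      simpa [T₀] using Over.w (Over.mkIdTerminal.from V : V ⟶ T₀)
    rw [hk]
    exact hV

end Groth.Agent.ArtinBoot49
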