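import Groth.Agent.ArtinBoot49.EtaleQuot
import Groth.Agent.ArtinBoot49.Diag
import Groth.Agent.AlgSpDec.ActQuotient
import Groth.Agent.AlgSpDec.LqfQuot
import Groth.Agent.AlgSpPts.FppfTarget
import Groth.Agent.MorLib.SmoothLocus
import Groth.Agent.QuotLib.AtlasProps

/-!
# A free action on a scheme with smooth points gives a smooth chart of the classifying stack
-/

set_option autoImplicit false
set_option backward.isDefEq.respectTransparency false
set_option backward.isDefEq.respectTransparency.types false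
set_option linter.unusedVariables false

universe u

open CategoryTheory CategoryTheory.Functor CategoryTheory.Limits MonoidalCategory CartesianMonoidalCategory MonObj
open AlgebraicGeometry AlgSp Groth.Agent.AlgSpLib Groth.Agent.AlgSpDec Groth.Agent.AlgStLib Groth.Agent.FibBase
open Groth.Agent.QuotLib Groth.Agent.AlgSpPts Groth.Agent.GrpSchLib

namespace Groth.Agent.ArtinBoot49

variable {S : Scheme.{u}} {G : Over S} [GrpObj G] {W : Over S} (a : AlgGrp.Action G W)

/-- Freeness on points. -/
def IsFree : Prop := ∀ (T : Over S) (g : T ⟶ G) (x : T ⟶ W), lift g x ≫ a.act = x → g = toUnit T ≫ η[G]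

/-- The shear map. -/
noncomputable def shear : G ⊗ W ≅ G ⊗ W where
  hom := lift (fst G W) a.act
  inv := lift (fst G W) (lift (fst G W)⁻¹ (snd G W) ≫ a.act)
  hom_inv_id := by
    apply CartesianMonoidalCategory.hom_ext
    · simp
    · rw [Category.assoc, lift_snd, comp_lift_assoc, GrpObj.comp_inv, lift_fst, lift_snd,
        ActGroupoid.pt_act a (lift _ a.act)]
      simp only [lift_fst, lift_snd]
      have e : lift (fst G W)⁻¹ a.act = lift (fst G W)⁻¹ (lift (fst G W) (snd G W) ≫ a.act) := by
        rw [lift_fst_snd, Category.id_comp]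
      rw [e, act_mul, inv_mul_cancel, act_one]
      exact (Category.id_comp _).symm
  inv_hom_id := by
    apply CartesianMonoidalCategory.hom_ext
    · simp
    · rw [Category.assoc, lift_snd, ActGroupoid.pt_act a (lift _ _)]
      simp only [lift_fst, lift_snd]
      rw [act_mul, mul_inv_cancel, act_one]
      exact (Category.id_comp _).symm

theorem shear_hom_snd : (shear a).hom ≫ snd G W = a.act := lift_snd _ _

/-- The smooth locus is stable under the group. -/
theorem sm_act [Flat G.hom] [LocallyOfFinitePresentation W.hom] (z : ↥(G ⊗ W).left)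
    (h : MorLib.SmoothLoc.SM W.hom ((snd G W).left z)) : MorLib.SmoothLoc.SM W.hom (a.act.left z) := by
  have sq : IsPullback (snd G W).left (fst G W).left W.hom G.hom := (IsPullback.of_hasPullback G.hom W.hom).flip
  have : LocallyOfFinitePresentation (fst G W).left :=
    MorphismProperty.of_isPullback sq ‹LocallyOfFinitePresentation W.hom›
  have h1 : MorLib.SmoothLoc.SM (fst G W).left z :=
    MorLib.SmoothLoc.preimage_le W.hom G.hom (fst G W).left (snd G W).left sq h
  have : IsIso (shear a).hom.left := inferInstanceAs (IsIso ((Over.forget S).map (shear a).hom))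
  have : IsIso (shear a).inv.left := inferInstanceAs (IsIso ((Over.forget S).map (shear a).inv))
  have h2 : MorLib.SmoothLoc.SM ((shear a).inv.left ≫ (fst G W).left) ((shear a).hom.left z) := by
    rw [MorLib.SmoothLoc.sm_comp_left, ← Scheme.Hom.comp_apply, ← Over.comp_left, Iso.hom_inv_id]
    exact h1
  rw [← Over.comp_left, show (shear a).inv ≫ fst G W = fst G W from lift_fst _ _] at h2
  have h3 := MorLib.SmoothLoc.sm_descend W.hom G.hom (fst G W).left (snd G W).left sq ((shear a).hom.left z) h2
  rwa [← Scheme.Hom.comp_apply, ← Over.comp_left, shear_hom_snd] at h3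

/-- An open stable subscheme carries a free action. -/
theorem exists_action_of_stable (U : W.left.Opens)
    (hU : ∀ z : ↥(G ⊗ W).left, (snd G W).left z ∈ U → a.act.left z ∈ U) (hfree : IsFree a) :
    ∃ b : AlgGrp.Action G (Over.mk (U.ι ≫ W.hom)), IsFree b := by
  let W₀ : Over S := Over.mk (U.ι ≫ W.hom)
  let i : W₀ ⟶ W := Over.homMk U.ι rfl
  have : Mono i := by
    have : Mono i.left := inferInstanceAs (Mono U.ι)
    exact Over.mono_of_mono_left i
  have hr : Set.range ((G ◁ i) ≫ a.act).left ⊆ Set.range U.ι := by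
    rintro _ ⟨z, rfl⟩
    rw [Scheme.Opens.range_ι, Over.comp_left, Scheme.Hom.comp_apply]
    refine hU _ ?_
    rw [← Scheme.Hom.comp_apply, ← Over.comp_left, whiskerLeft_snd, Over.comp_left, Scheme.Hom.comp_apply]
    exact ((snd G W₀).left z).2
  let m : G ⊗ W₀ ⟶ W₀ := Over.homMk (IsOpenImmersion.lift U.ι ((G ◁ i) ≫ a.act).left hr) (by
    show IsOpenImmersion.lift U.ι _ hr ≫ U.ι ≫ W.hom = (G ⊗ W₀).hom
    rw [IsOpenImmersion.lift_fac_assoc]
    exact Over.w ((G ◁ i) ≫ a.act))
  have hm : m ≫ i = (G ◁ i) ≫ a.act := Over.OverMorphism.ext (IsOpenImmersion.lift_fac _ _ hr)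
  refine ⟨⟨m, ?_, ?_⟩, fun T g x h => hfree T g (x ≫ i) ?_⟩
  · rw [← cancel_mono i, Category.assoc, hm, ← whisker_exchange_assoc, a.one_act, leftUnitor_naturality]
  · rw [← cancel_mono i, Category.assoc, hm, ← whisker_exchange_assoc, a.mul_act]
    simp only [Category.assoc, hm, ← MonoidalCategory.whiskerLeft_comp_assoc, associator_naturality_right_assoc]
  · have e := congrArg (· ≫ i) h
    simp only [Category.assoc, hm, lift_whiskerLeft_assoc] at e
    exact e

local notation "K₀" => Scheme.fppfPrecoverage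

theorem isSurjectiveMor_local : IsLocalOnBase IsFppfCover (IsSurjectiveMor (S := S)) := by
  intro κ Y Yi g hY hYi hg X f hX Xi p q hXi sq
  refine ⟨fun h k => surjective_map_of_isPullback (sq k) h, fun h y => ?_⟩
  obtain ⟨i, y', rfl⟩ := hg.2 y
  obtain ⟨x', rfl⟩ := h i y'
  exact ⟨Points.map (q i) x', by rw [← Points.map_comp, ← Points.map_comp, (sq i).w]⟩

variable [Flat G.hom] [LocallyOfFinitePresentation G.hom]

/-- The torsor object over an etale chart of the quotient of a free action. -/
theorem exists_quotObj (hfree : IsFree a) :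
    ∃ (A : AlgSt.QuotObj K₀ G (AlgSt.trivAction G)) (w : A.P ⟶ W), Etale w.left ∧ Surjective w.left := by
  have : Flat (snd G W).left := flat_snd ‹Flat G.hom› W
  have : LocallyOfFinitePresentation (snd G W).left := flat_snd ‹LocallyOfFinitePresentation G.hom› W
  have hs : Surjective (snd G W).left := ⟨fun x => ⟨(ActGroupoid.idMor (G := G) W).left x,
    congrArg (fun φ : W ⟶ W => φ.left x) ((lift_snd (1 : W ⟶ G) (𝟙 W)))⟩⟩
  have hsh : a.act.left = (shear a).hom.left ≫ (snd G W).left := by rw [← Over.comp_left, shear_hom_snd]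
  have : IsIso (shear a).hom.left := inferInstanceAs (IsIso ((Over.forget S).map (shear a).hom))
  have : Flat a.act.left := hsh ▸ inferInstance
  have : LocallyOfFinitePresentation a.act.left := hsh ▸ inferInstance
  have h := ActQuotient.isEqvRel a hfree
  let Q := QuotSh.quot Scheme.fppfPrecoverage (snd G W) a.act
  let p : (yon S).obj W ⟶ Q := quotMap (snd G W) a.act
  have : Sheaf.IsLocallySurjective p := by
    have : Epi (QuotSh.quotπ Scheme.fppfPrecoverage (snd G W) a.act) := by
      unfold QuotSh.quotπ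
      infer_instance
    exact (CategoryTheory.Sheaf.isLocallySurjective_iff_epi p).2 (epi_comp _ _)
  have sq : IsPullback ((yon S).map a.act) ((yon S).map (snd G W)) p p := isPullback_quotMap h
  have hQ : IsAlgSpace Q := isAlgSpace_quot h
  have := isLocalAtTarget_fppf (@Surjective : MorphismProperty Scheme.{u})
  have := isLocalAtTarget_fppf (@Flat : MorphismProperty Scheme.{u})
  have := isLocalAtTarget_fppf (@LocallyOfFinitePresentation : MorphismProperty Scheme.{u})
  have hr : Representable p := representable_of_kernelPair sq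
  have hp₁ := repWith_of_locallySurjective hr _ sq @Flat ((repWith_yon_map_iff _ _).2 ‹Flat (snd G W).left›)
  have hp₂ := repWith_of_locallySurjective hr _ sq @LocallyOfFinitePresentation
    ((repWith_yon_map_iff _ _).2 ‹LocallyOfFinitePresentation (snd G W).left›)
  have hp₃ := repWith_of_locallySurjective hr _ sq @Surjective ((repWith_yon_map_iff _ _).2 hs)
  obtain ⟨V, v, hv, hv'⟩ := hQ.atlas
  let P := hr.pullback v
  let π : P ⟶ V := hr.snd v
  let w : P ⟶ W := hr.fst' v
  have sqv : IsPullback ((yon S).map w) ((yon S).map π) p v := hr.isPullback' v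
  have : Flat π.left := hp₁.property _ _ _ (hr.isPullback v)
  have : LocallyOfFinitePresentation π.left := hp₂.property _ _ _ (hr.isPullback v)
  have : Surjective π.left := hp₃.property _ _ _ (hr.isPullback v)
  have hwe : Etale w.left := (repWith_yon_map_iff (P := @Etale) _).1 (repWith_of_isPullback sqv.flip hv)
  have hws : Surjective w.left := (repWith_yon_map_iff (P := @Surjective) _).1 (repWith_of_isPullback sqv.flip hv')
  have hwπ : (yon S).map ((G ◁ w) ≫ a.act) ≫ p = (yon S).map (snd G P ≫ π) ≫ v := by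
    rw [Functor.map_comp, Category.assoc, sq.w, ← Category.assoc, ← Functor.map_comp, whiskerLeft_snd,
      Functor.map_comp, Category.assoc, sqv.w, Functor.map_comp, Category.assoc]
  obtain ⟨m, hm⟩ := (yon S).map_surjective (sqv.lift _ _ hwπ)
  have hm₁ : m ≫ w = (G ◁ w) ≫ a.act :=
    (yon S).map_injective (by rw [Functor.map_comp, hm, sqv.lift_fst])
  have hm₂ : m ≫ π = snd G P ≫ π :=
    (yon S).map_injective (by rw [Functor.map_comp, hm, sqv.lift_snd])
  have ext : ∀ {T : Over S} {x y : T ⟶ P}, x ≫ w = y ≫ w → x ≫ π = y ≫ π → x = y := fun h1 h2 =>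
    (yon S).map_injective (sqv.hom_ext (by rw [← Functor.map_comp, ← Functor.map_comp, h1])
      (by rw [← Functor.map_comp, ← Functor.map_comp, h2]))
  have h1a : (η[G] ▷ P) ≫ m = (λ_ P).hom := ext
    (by rw [Category.assoc, hm₁, ← whisker_exchange_assoc, a.one_act, leftUnitor_naturality])
    (by rw [Category.assoc, hm₂, whiskerRight_snd_assoc, leftUnitor_hom])
  have h1b : (μ[G] ▷ P) ≫ m = (α_ G G P).hom ≫ (G ◁ m) ≫ m := ext
    (by
      rw [Category.assoc, hm₁, ← whisker_exchange_assoc, a.mul_act]
      simp only [Category.assoc, hm₁, ← MonoidalCategory.whiskerLeft_comp_assoc,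
        associator_naturality_right_assoc])
    (by simp only [Category.assoc, hm₂, whiskerRight_snd_assoc, whiskerLeft_snd_assoc,
      associator_hom_snd_snd_assoc])
  let act : AlgGrp.Action G P := ⟨m, h1a, h1b⟩
  have hwle : (G ◁ w) ≫ a.act = m ≫ w := hm₁.symm
  have hex : ∀ {T : Over S} (x y : T ⟶ P), x ≫ π = y ≫ π → ∃ r : T ⟶ G ⊗ P, r ≫ m = x ∧ r ≫ snd G P = y := by
    intro T x y hxy
    obtain ⟨r, h1, h2⟩ := exists_rel_lift sq (x ≫ w) (y ≫ w) (by
      rw [Functor.map_comp, Functor.map_comp, Category.assoc, Category.assoc, sqv.w, ← Category.assoc,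
        ← Category.assoc, ← Functor.map_comp, ← Functor.map_comp, hxy])
    refine ⟨lift (r ≫ fst G W) y, ext ?_ ?_, lift_snd _ _⟩
    · rw [Category.assoc, hm₁, lift_whiskerLeft_assoc, ← h2, ← comp_lift_assoc, lift_fst_snd, Category.id_comp, h1]
    · rw [Category.assoc, hm₂, lift_snd_assoc, hxy]
  have huniq : ∀ {T : Over S} (r r' : T ⟶ G ⊗ P), r ≫ m = r' ≫ m → r ≫ snd G P = r' ≫ snd G P → r = r' := by
    intro T r r' h1 h2
    have key : r ≫ (G ◁ w) = r' ≫ (G ◁ w) := h.injective T _ _
      (by simp only [Category.assoc, hwle]; rw [reassoc_of% h1])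
      (by simp only [Category.assoc, whiskerLeft_snd]; rw [reassoc_of% h2])
    apply CartesianMonoidalCategory.hom_ext
    · have := congrArg (· ≫ fst G W) key
      simpa using this
    · exact h2
  have hcart : IsPullback m (snd G P) π π :=
    IsPullback.of_isLimit (PullbackCone.IsLimit.mk hm₂
      (fun c => (hex c.fst c.snd c.condition).choose)
      (fun c => (hex c.fst c.snd c.condition).choose_spec.1)
      (fun c => (hex c.fst c.snd c.condition).choose_spec.2)
      fun c l h1 h2 => huniq _ _ (h1.trans (hex c.fst c.snd c.condition).choose_spec.1.symm)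
        (h2.trans (hex c.fst c.snd c.condition).choose_spec.2.symm))
  refine ⟨{ base := V, P := P, act := act, π := π, cart := hcart,
            loc := ⟨Presieve.singleton π.left, π.left.singleton_mem_fppfPrecoverage, ?_⟩
            φ := toUnit P, eqv := toUnit_unique _ _ }, w, hwe, hws⟩
  rintro S' f ⟨⟩
  exact ⟨𝟙 _, Category.id_comp _⟩

variable [IsAffineHom G.hom]

theorem quot_cover_locEssSurj {X : Over S} (aX : AlgGrp.Action G X) :
    LocEssSurj (quotOver K₀ G aX) := by
  obtain ⟨h₁, h₂, h₃⟩ := quot_flat_lfp_surjective (aX := aX)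
  exact locEssSurj_of_repByAlgSp h₁ h₂ h₃

theorem repByAlgSp1_diag_quotSt {X : Over S} (aX : AlgGrp.Action G X) :
    AlgSt.RepByAlgSp1 (FibCat.diag (FibCat.toSelf (AlgSt.QuotSt K₀ G aX))) := by
  obtain ⟨h₁, h₂, h₃⟩ := quot_flat_lfp_surjective (aX := aX)
  have h := (isDM_of_repByAlgSp (repByAlgSp_overCat X)).1
  exact repByAlgSp1_diag_of_fppf_cover isStack_quotSt h.isStack.1 h.diag h₁ h₂ h₃

/-- A free action with a smooth point in every fibre gives a smooth atlas of the classifying stack. -/
theorem hasAtlas_BG_of_free [LocallyOfFinitePresentation W.hom] (hfree : IsFree a)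
    (hpts : ∀ s : S, ∃ w : W.left, W.hom w = s ∧ MorLib.SmoothLoc.SM W.hom w) :
    AlgSt.HasAtlas (LocP @Smooth) (AlgSt.BG K₀ G) := by
  obtain ⟨b, hb⟩ := exists_action_of_stable a W.hom.smoothLocus (fun z hz => sm_act a z hz) hfree
  let W₀ : Over S := Over.mk (W.hom.smoothLocus.ι ≫ W.hom)
  have hsm : Smooth W₀.hom := by
    show Smooth (W.hom.smoothLocus.ι ≫ W.hom)
    rw [← Scheme.Hom.smoothLocus_eq_top_iff, ← Scheme.Hom.preimage_smoothLocus_eq]
    exact Scheme.Opens.ι_preimage_self _
  have hsu : Surjective W₀.hom := ⟨fun s => by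
    obtain ⟨w, hw, hw'⟩ := hpts s
    exact ⟨⟨w, hw'⟩, hw⟩⟩
  obtain ⟨A, w, hwe, hws⟩ := exists_quotObj b hb
  have hPsm : Smooth A.P.hom := by rw [← Over.w w]; infer_instance
  have hPsu : Surjective A.P.hom := by rw [← Over.w w]; infer_instance
  let 𝒳 := AlgSt.BG K₀ G
  have hst : Stk.IsStack (J S) 𝒳 := isStack_quotSt
  have : 𝒳.p.IsFibered := isFibered_of_isFibGrpd hst.1
  let x : 𝒳.p.Fiber A.base := ⟨A, rfl⟩
  let y := ofObj x
  obtain ⟨i⟩ := ofObj_iso x
  let iQ : torsor y ≅ A := (Functor.Fiber.fiberInclusion (p := 𝒳.p) (S := A.base)).mapIso i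
  let iP : (torsor y).P ≅ A.P :=
    { hom := iQ.hom.top
      inv := iQ.inv.top
      hom_inv_id := congrArg AlgSt.QuotObj.Hom.top iQ.hom_inv_id
      inv_hom_id := congrArg AlgSt.QuotObj.Hom.top iQ.inv_hom_id }
  have : IsIso iP.hom.left := ((Over.forget S).mapIso iP).isIso_hom
  have h1 : Smooth (torsor y).P.hom := by rw [← Over.w iP.hom]; infer_instance
  have h2 : Surjective (torsor y).P.hom := by rw [← Over.w iP.hom]; infer_instance
  have hφ : (torsor y).φ.left = (torsor y).P.hom := by simpa using Over.w (torsor y).φ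
  let u := quotOver K₀ G (AlgSt.trivAction G)
  have hy : AlgSt.RepByAlgSp1 y :=
    repByAlgSp1_of_diag hst.1 (repByAlgSp1_diag_quotSt _) A.base y
  have key : ∀ {P : MorphismProperty (Sp S)}, StableBC P → P ((yon S).map (torsor y).φ) →
      AlgSt.RepByAlgSpWith P (FibCat.fpFst u y) := fun hPb hP =>
    (repByAlgSpWith_iff_of_square (f' := AlgSt.overMap (torsor y).φ) (f := FibCat.fpFst u y)
      (a := BasedFunctor.comp (toFp y) (fpSwap y u)) (b := BasedFunctor.id _)
      (isEquivOver_comp (toFp_isEquivOver y) (fpSwap_isEquivOver y u)) isEquivOver_id (Iso.refl _)).2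
      (repByAlgSpWith_overMap hPb hP)
  refine ⟨A.base, y, ?_, ?_⟩
  · exact repByAlgSpWith_of_locEssSurj stableBC_locP (isLocalOnBase_fppf_of_fpqc isLocalOnBase_fpqc_locP) hy
      (quot_cover_locEssSurj _) (key stableBC_locP (locP_of_repWith ((repWith_yon_map_iff (P := @Smooth) _).2
        (hφ ▸ h1))))
  · exact repByAlgSpWith_of_locEssSurj stableBC_isSurjectiveMor isSurjectiveMor_local hy
      (quot_cover_locEssSurj _) (key stableBC_isSurjectiveMor (surjective_map_of_repWith
        ((repWith_yon_map_iff (P := @Surjective) _).2 (hφ ▸ h2))))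

theorem isAlgStack_BG_of_free [LocallyOfFinitePresentation W.hom] (hfree : IsFree a)
    (hpts : ∀ s : S, ∃ w : W.left, W.hom w = s ∧ MorLib.SmoothLoc.SM W.hom w) :
    AlgSt.IsAlgStack K₀ (AlgSt.BG K₀ G) :=
  ⟨isStack_quotSt, repByAlgSp1_diag_quotSt _, hasAtlas_BG_of_free a hfree hpts⟩

end Groth.Agent.ArtinBoot49
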