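import Groth.Agent.ArtinBoot49.Based
import Mathlib.RingTheory.Smooth.Locus
import Mathlib.RingTheory.Localization.Away.Basic
import Mathlib.RingTheory.Flat.Stability

/-!
# Lifting slices along square-zero extensions

A slice is cut out by a sequence that stays regular after every base change. Such a slice deforms
along square-zero extensions, so the space of slices is formally smooth.
-/

set_option autoImplicit false
set_option linter.unusedSectionVars false

universe u

open Module TensorProduct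

namespace Groth.Agent.ArtinBoot49

/-- The ideal of the first members of a sequence. -/
def pre {C : Type u} [CommRing C] {n : ℕ} (f : Fin n → C) (k : ℕ) : Ideal C :=
  Ideal.span (f '' {j | (j : ℕ) < k})

theorem pre_zero {C : Type u} [CommRing C] {n : ℕ} (f : Fin n → C) : pre f 0 = ⊥ := by simp [pre]

theorem pre_succ {C : Type u} [CommRing C] {n : ℕ} (f : Fin n → C) (k : Fin n) :
    pre f (k + 1) = pre f k ⊔ Ideal.span {f k} := by
  rw [pre, pre, ← Ideal.span_union, ← Set.image_singleton, ← Set.image_union]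
  congr 2
  ext j
  simp only [Set.mem_union, Set.mem_setOf_eq, Set.mem_singleton_iff, Fin.ext_iff]
  omega

theorem pre_top {C : Type u} [CommRing C] {n : ℕ} (f : Fin n → C) {k : ℕ} (hk : n ≤ k) :
    pre f k = Ideal.span (Set.range f) := by
  rw [pre, ← Set.image_univ]
  congr 2
  exact Set.eq_univ_of_forall fun j => lt_of_lt_of_le j.2 hk

theorem map_pre {C D : Type u} [CommRing C] [CommRing D] (g : C →+* D) {n : ℕ} (f : Fin n → C) (k : ℕ) :
    (pre f k).map g = pre (fun i => g (f i)) k := by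
  rw [pre, pre, Ideal.map_span, Set.image_image]

/-- A sequence that is regular after every base change. -/
def UR (R C : Type u) [CommRing R] [CommRing C] [Algebra R C] {n : ℕ} (f : Fin n → C) : Prop :=
  ∀ (B : Type u) [CommRing B] [Algebra R B] (i : Fin n) (x : B ⊗[R] C),
    ((1 : B) ⊗ₜ[R] f i) * x ∈ pre (fun j => (1 : B) ⊗ₜ[R] f j) i → x ∈ pre (fun j => (1 : B) ⊗ₜ[R] f j) i

section Deform

variable {B C : Type u} [CommRing B] [CommRing C] [Algebra B C] [Module.Flat B C]
  {J : Ideal B} (hJ : J ^ 2 = ⊥) {n : ℕ} {f : Fin n → C}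
  (hreg : ∀ (i : Fin n) (x : C), f i * x ∈ pre f i ⊔ J.map (algebraMap B C) →
    x ∈ pre f i ⊔ J.map (algebraMap B C))

include hreg in
/-- A regular sequence modulo `J` meets `J C` only in `J` times its ideal. -/
theorem inter_le (k : ℕ) (hk : k ≤ n) {x : C} (hx : x ∈ pre f k) (hx' : x ∈ J.map (algebraMap B C)) :
    x ∈ J.map (algebraMap B C) * pre f n := by
  induction k generalizing x with
  | zero =>
    rw [pre_zero] at hx
    rw [(Submodule.mem_bot C).1 hx]
    exact zero_mem _
  | succ k ih =>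
    rw [pre_succ f ⟨k, hk⟩, Submodule.mem_sup] at hx
    obtain ⟨y, hy, z, hz, rfl⟩ := hx
    obtain ⟨c, rfl⟩ := Ideal.mem_span_singleton'.1 hz
    have hc : c ∈ pre f k ⊔ J.map (algebraMap B C) := by
      refine hreg ⟨k, hk⟩ c ?_
      rw [Submodule.mem_sup]
      exact ⟨-y, neg_mem hy, y + c * f ⟨k, hk⟩, hx', by ring⟩
    obtain ⟨e, he, w, hw, rfl⟩ := Submodule.mem_sup.1 hc
    have hw' : w * f ⟨k, hk⟩ ∈ J.map (algebraMap B C) := Ideal.mul_mem_right _ _ hw
    rw [add_mul, ← add_assoc]
    refine add_mem (ih (by omega) (add_mem hy (Ideal.mul_mem_right _ _ he)) ?_)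
      (Ideal.mul_mem_mul hw (Ideal.subset_span ⟨⟨k, hk⟩, hk, rfl⟩))
    have : y + e * f ⟨k, hk⟩ = y + (e + w) * f ⟨k, hk⟩ - w * f ⟨k, hk⟩ := by ring
    rw [this]
    exact sub_mem hx' hw'

variable {d : ℕ} {b : Fin d → C}
  (hspan : ∀ x : C, ∃ a : Fin d → B, x - ∑ i, a i • b i ∈ pre f n ⊔ J.map (algebraMap B C))
  (hindep : ∀ a : Fin d → B, ∑ i, a i • b i ∈ pre f n ⊔ J.map (algebraMap B C) → ∀ i, a i ∈ J)

include hJ hreg hspan hindep in
/-- The lifted elements form a basis of the lifted slice. -/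
theorem exists_basis : ∃ β : Basis (Fin d) B (C ⧸ pre f n), ∀ i, β i = Ideal.Quotient.mk _ (b i) := by
  let m : C →ₐ[B] C ⧸ pre f n := Ideal.Quotient.mkₐ B _
  have hm : ∀ j ∈ J, ∀ c : C ⧸ pre f n, j • c ∈ Submodule.span B (Set.range fun i => m (b i)) := by
    intro j hj c
    obtain ⟨x, rfl⟩ := Ideal.Quotient.mk_surjective c
    obtain ⟨a, ha⟩ := hspan x
    obtain ⟨y, hy, z, hz, hyz⟩ := Submodule.mem_sup.1 ha
    have hjz : j • z = 0 := by
      rw [Algebra.smul_def]
      have : algebraMap B C j * z ∈ J.map (algebraMap B C) * J.map (algebraMap B C) :=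
        Ideal.mul_mem_mul (Ideal.mem_map_of_mem _ hj) hz
      rwa [← Ideal.map_mul, ← pow_two, hJ, Ideal.map_bot, Submodule.mem_bot] at this
    have hx : x = ∑ i, a i • b i + y + z := by rw [add_assoc, hyz]; ring
    show j • m x ∈ _
    rw [hx, map_add, map_add, smul_add, smul_add, ← map_smul m j z, hjz, map_zero, add_zero,
      show m y = 0 from Ideal.Quotient.eq_zero_iff_mem.2 hy, smul_zero, add_zero, map_sum, Finset.smul_sum]
    exact Submodule.sum_mem _ fun i _ => by
      rw [map_smul, smul_smul]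
      exact Submodule.smul_mem _ _ (Submodule.subset_span ⟨i, rfl⟩)
  have hsp : ⊤ ≤ Submodule.span B (Set.range fun i => m (b i)) := by
    rintro c -
    obtain ⟨x, rfl⟩ := Ideal.Quotient.mk_surjective c
    obtain ⟨a, ha⟩ := hspan x
    obtain ⟨y, hy, z, hz, hyz⟩ := Submodule.mem_sup.1 ha
    have hx : x = ∑ i, a i • b i + y + z := by rw [add_assoc, hyz]; ring
    show m x ∈ _
    rw [hx, map_add, map_add, show m y = 0 from Ideal.Quotient.eq_zero_iff_mem.2 hy, add_zero, map_sum]
    refine add_mem (Submodule.sum_mem _ fun i _ => ?_) ?_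
    · rw [map_smul]
      exact Submodule.smul_mem _ _ (Submodule.subset_span ⟨i, rfl⟩)
    · have hz' : z ∈ J • (⊤ : Submodule B C) := by
        rw [Ideal.smul_top_eq_map]
        exact hz
      exact Submodule.smul_induction_on hz' (fun j hj c _ => by rw [map_smul]; exact hm j hj (m c))
        (fun x y hx hy => by rw [map_add]; exact add_mem hx hy)
  have hli : LinearIndependent B fun i => m (b i) := by
    rw [Fintype.linearIndependent_iff]
    intro a ha
    have hx : ∑ i, a i • b i ∈ pre f n := by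
      rw [← Ideal.Quotient.eq_zero_iff_mem]
      show m _ = 0
      simpa using ha
    have haJ := hindep a (Submodule.mem_sup_left hx)
    have hxJ : ∑ i, a i • b i ∈ J.map (algebraMap B C) := Ideal.sum_mem _ fun i _ => by
      rw [Algebra.smul_def]
      exact Ideal.mul_mem_right _ _ (Ideal.mem_map_of_mem _ (haJ i))
    have hmul := inter_le hreg n le_rfl hx hxJ
    choose co hco using hspan
    have hco' : ∀ (x : C) (a : Fin d → B), x - ∑ i, a i • b i ∈ pre f n ⊔ J.map (algebraMap B C) → ∀ i, a i - co x i ∈ J := by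
      intro x a h i
      refine hindep (fun i => a i - co x i) ?_ i
      simp only [sub_smul, Finset.sum_sub_distrib]
      have := sub_mem (hco x) h
      rwa [sub_sub_sub_cancel_left] at this
    let μ : B →ₗ[B] J →ₗ[B] J := LinearMap.lsmul B J
    let μ' : (B ⧸ J) →ₗ[B] J →ₗ[B] J := Submodule.liftQ J μ fun j hj => by
      rw [LinearMap.mem_ker]
      ext ⟨k, hk⟩
      show j * k = 0
      have : j * k ∈ J ^ 2 := pow_two J ▸ Ideal.mul_mem_mul hj hk
      rwa [hJ] at this
    let lam : Fin d → (C →ₗ[B] B ⧸ J) := fun i =>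
      { toFun := fun x => Ideal.Quotient.mk J (co x i)
        map_add' := fun x y => by
          rw [← map_add, eq_comm, Ideal.Quotient.eq]
          refine hco' (x + y) (fun i => co x i + co y i) ?_ i
          have := add_mem (hco x) (hco y)
          simpa [add_smul, Finset.sum_add_distrib, sub_add_sub_comm] using this
        map_smul' := fun r x => by
          show Ideal.Quotient.mk J (co (r • x) i) = r • Ideal.Quotient.mk J (co x i)
          rw [Algebra.smul_def r (Ideal.Quotient.mk J (co x i)), Ideal.Quotient.algebraMap_eq, ← map_mul, eq_comm,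
            Ideal.Quotient.eq]
          refine hco' (r • x) (fun i => r * co x i) ?_ i
          have := Submodule.smul_of_tower_mem (pre f n ⊔ J.map (algebraMap B C)) r (hco x)
          simpa [smul_sub, Finset.smul_sum, smul_smul] using this }
    have hlamI : ∀ i x, x ∈ pre f n → lam i x = 0 := fun i x hx => by
      refine Ideal.Quotient.eq_zero_iff_mem.2 ?_
      have := hco' x 0 (by simpa using Submodule.mem_sup_left hx) i
      simpa using this
    let T : Fin d → (J ⊗[B] C →ₗ[B] J) := fun i => TensorProduct.lift ((μ'.comp (lam i)).flip)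
    intro i
    have key : ∀ x ∈ J.map (algebraMap B C) * pre f n, ∃ t : J ⊗[B] C,
        (TensorProduct.lid B C) ((J.subtype.rTensor C) t) = x ∧ T i t = 0 := by
      intro x hx
      refine Submodule.mul_induction_on hx (fun u hu v hv => ?_) ?_
      · have hu' : u ∈ J • (⊤ : Submodule B C) := by
          rw [Ideal.smul_top_eq_map]
          exact hu
        refine Submodule.smul_induction_on (p := fun u => ∃ t : J ⊗[B] C,
          (TensorProduct.lid B C) ((J.subtype.rTensor C) t) = u * v ∧ T i t = 0) hu' (fun j hj c _ => ?_) ?_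
        · refine ⟨(⟨j, hj⟩ : J) ⊗ₜ (c * v), by simp [Algebra.smul_mul_assoc], ?_⟩
          simp [T, hlamI i (c * v) (Ideal.mul_mem_left _ _ hv)]
        · rintro u w ⟨t, ht, ht'⟩ ⟨s, hs, hs'⟩
          exact ⟨t + s, by simp [ht, hs, add_mul], by simp [ht', hs']⟩
      · rintro u w ⟨t, ht, ht'⟩ ⟨s, hs, hs'⟩
        exact ⟨t + s, by simp [ht, hs], by simp [ht', hs']⟩
    obtain ⟨t, ht, ht'⟩ := key _ hmul
    have heq : (∑ l, (⟨a l, haJ l⟩ : J) ⊗ₜ[B] b l) = t := by
      apply Module.Flat.rTensor_preserves_injective_linearMap (M := C) J.subtype J.injective_subtype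
      apply (TensorProduct.lid B C).injective
      rw [ht]
      simp
    rw [← heq, map_sum] at ht'
    have hlam : ∀ l, lam i (b l) = Ideal.Quotient.mk J (if l = i then 1 else 0) := fun l => by
      refine (Ideal.Quotient.eq.2 ?_).symm
      refine hco' (b l) (fun m => if l = m then 1 else 0) ?_ i
      simp
    have hsum : ∑ l, T i ((⟨a l, haJ l⟩ : J) ⊗ₜ[B] b l) = ⟨a i, haJ i⟩ := by
      rw [Finset.sum_eq_single i (fun l _ hl => ?_) (fun h => absurd (Finset.mem_univ i) h)]
      · simp [T, hlam, μ', μ]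
        exact one_smul B _
      · simp [T, hlam, hl]
    rw [hsum] at ht'
    exact congrArg Subtype.val ht'
  exact ⟨Basis.mk hli hsp, fun i => by rw [Basis.coe_mk]; rfl⟩

end Deform

section Slice

variable {A P R : Type u} [CommRing A] [CommRing P] [Algebra A P] [Module.Flat A P] [CommRing R] [Algebra A R]
  (γ : R ⊗[A] P) {n d : ℕ} {f : Fin n → Localization.Away γ}

/-- The image of an element of `P` in a slice. -/
noncomputable def sliceElt (p : P) : Localization.Away γ :=
  algebraMap (R ⊗[A] P) (Localization.Away γ) ((1 : R) ⊗ₜ p)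

variable (hUR : UR R (Localization.Away γ) f) (β : Basis (Fin d) R (Localization.Away γ ⧸ pre f n))
  (B : Type u) [CommRing B] [Algebra A B] {J : Ideal B} (hJ : J ^ 2 = ⊥) (φ₀ : R →ₐ[A] B ⧸ J)

set_option maxHeartbeats 1600000 in
include hUR hJ in
/-- A slice deforms along a square-zero extension. -/
theorem exists_deformation :
    ∃ (Z : Type u) (_ : CommRing Z) (_ : Algebra B Z) (_ : Algebra A Z) (_ : IsScalarTower A B Z)
      (β' : Basis (Fin d) B Z) (ψ : P →ₐ[A] Z),
      (∀ i j k, Ideal.Quotient.mk J (β'.repr (β' i * β' j) k) = φ₀ (β.repr (β i * β j) k)) ∧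
      (∀ k, Ideal.Quotient.mk J (β'.repr 1 k) = φ₀ (β.repr 1 k)) ∧
      ∀ p k, Ideal.Quotient.mk J (β'.repr (ψ p) k) = φ₀ (β.repr (Ideal.Quotient.mk _ (sliceElt γ p)) k) := by
  let B₀ := B ⧸ J
  letI : Algebra R B₀ := φ₀.toRingHom.toAlgebra
  haveI : IsScalarTower A R B₀ := IsScalarTower.of_algebraMap_eq fun a => (φ₀.commutes a).symm
  let Q := Localization.Away γ
  let D := B₀ ⊗[R] Q
  let v : B ⊗[A] P →ₐ[A] B₀ ⊗[A] P :=
    Algebra.TensorProduct.map (Ideal.Quotient.mkₐ A J) (AlgHom.id A P)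
  let w : R ⊗[A] P →ₐ[A] B₀ ⊗[A] P := Algebra.TensorProduct.map φ₀ (AlgHom.id A P)
  have hv : Function.Surjective v := fun x => by
    induction x using TensorProduct.induction_on with
    | zero => exact ⟨0, map_zero _⟩
    | tmul b p =>
      obtain ⟨b, rfl⟩ := Ideal.Quotient.mk_surjective b
      exact ⟨b ⊗ₜ p, rfl⟩
    | add x y hx hy =>
      obtain ⟨x, rfl⟩ := hx
      obtain ⟨y, rfl⟩ := hy
      exact ⟨x + y, map_add _ _ _⟩
  obtain ⟨g, hg⟩ := hv (w γ)
  let C := Localization.Away g
  let o : B₀ ⊗[A] P →ₐ[A] D := Algebra.TensorProduct.lift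
    ((Algebra.TensorProduct.includeLeft : B₀ →ₐ[R] D).restrictScalars A)
    (((Algebra.TensorProduct.includeRight : Q →ₐ[R] D).restrictScalars A).comp
      ((IsScalarTower.toAlgHom A (R ⊗[A] P) Q).comp Algebra.TensorProduct.includeRight))
    fun _ _ => .all _ _
  have how : ∀ y, o (w y) = (1 : B₀) ⊗ₜ[R] algebraMap (R ⊗[A] P) Q y := fun y => by
    induction y using TensorProduct.induction_on with
    | zero => simp
    | tmul r p =>
      show (φ₀ r ⊗ₜ[R] (1 : Q)) * ((1 : B₀) ⊗ₜ[R] algebraMap (R ⊗[A] P) Q (1 ⊗ₜ p)) = _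
      rw [Algebra.TensorProduct.tmul_mul_tmul, mul_one, one_mul,
        show φ₀ r = r • (1 : B₀) from Algebra.algebraMap_eq_smul_one r, TensorProduct.smul_tmul]
      congr 1
      rw [Algebra.smul_def, IsScalarTower.algebraMap_apply R (R ⊗[A] P) Q, ← map_mul]
      simp
    | add x y hx hy => simp [hx, hy, TensorProduct.tmul_add]
  have hu : IsUnit ((o.comp v) g) := by
    rw [AlgHom.comp_apply, hg, how]
    exact (IsLocalization.Away.algebraMap_isUnit γ).map (Algebra.TensorProduct.includeRight : Q →ₐ[R] D)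
  let q : C →+* D := IsLocalization.Away.lift g (g := (o.comp v).toRingHom) hu
  have hq : ∀ y, q (algebraMap (B ⊗[A] P) C y) = o (v y) := fun y => IsLocalization.Away.lift_eq g hu y
  have hqb : ∀ b : B, q (algebraMap B C b) = algebraMap B₀ D (Ideal.Quotient.mk J b) := fun b => by
    rw [IsScalarTower.algebraMap_apply B (B ⊗[A] P) C, hq]
    show o (Ideal.Quotient.mk J b ⊗ₜ 1) = _
    simp [o, D, ← Algebra.TensorProduct.one_def]
    rfl
  let qB : C →+* D := q
  let K := C ⧸ J.map (algebraMap B C)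
  let mk : C →+* K := Ideal.Quotient.mk _
  let e₀ : B₀ →+* K := Ideal.Quotient.lift J (mk.comp (algebraMap B C)) fun b hb =>
    Ideal.Quotient.eq_zero_iff_mem.2 (Ideal.mem_map_of_mem _ hb)
  letI : Algebra B₀ K := e₀.toAlgebra
  letI : Algebra R K := (e₀.comp φ₀.toRingHom).toAlgebra
  haveI : IsScalarTower R B₀ K := IsScalarTower.of_algebraMap_eq fun _ => rfl
  haveI : IsScalarTower A B₀ K := IsScalarTower.of_algebraMap_eq fun a => by
    show _ = e₀ (algebraMap A B₀ a)
    rw [IsScalarTower.algebraMap_apply A B B₀]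
    show algebraMap A K a = mk (algebraMap B C (algebraMap A B a))
    rw [← IsScalarTower.algebraMap_apply A B C]
    rfl
  let oK : B₀ ⊗[A] P →ₐ[A] K := Algebra.TensorProduct.lift (IsScalarTower.toAlgHom A B₀ K)
    ((IsScalarTower.toAlgHom A C K).comp
      ((IsScalarTower.toAlgHom A (B ⊗[A] P) C).comp Algebra.TensorProduct.includeRight))
    fun _ _ => .all _ _
  have hoK : ∀ y, oK (v y) = mk (algebraMap (B ⊗[A] P) C y) := fun y => by
    induction y using TensorProduct.induction_on with
    | zero => simp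
    | tmul b p =>
      show e₀ (Ideal.Quotient.mk J b) * mk (algebraMap (B ⊗[A] P) C (1 ⊗ₜ p)) = _
      rw [show e₀ (Ideal.Quotient.mk J b) = mk (algebraMap B C b) from rfl, ← map_mul,
        IsScalarTower.algebraMap_apply B (B ⊗[A] P) C, ← map_mul]
      simp
    | add x y hx hy => simp [hx, hy]
  have huK : IsUnit ((oK.comp w) γ) := by
    rw [AlgHom.comp_apply, ← hg, hoK]
    exact (IsLocalization.Away.algebraMap_isUnit g).map mk
  let rQ : Q →+* K := IsLocalization.Away.lift γ (g := (oK.comp w).toRingHom) huK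
  have hrQ : ∀ y, rQ (algebraMap (R ⊗[A] P) Q y) = oK (w y) := fun y => IsLocalization.Away.lift_eq γ huK y
  let rQ' : Q →ₐ[R] K :=
    { rQ with
      commutes' := fun r => by
        show rQ (algebraMap R Q r) = e₀ (φ₀ r)
        rw [IsScalarTower.algebraMap_apply R (R ⊗[A] P) Q, hrQ]
        show oK (φ₀ r ⊗ₜ 1) = _
        simp [oK, ← Algebra.TensorProduct.one_def]
        rfl }
  let back : D →ₐ[R] K := Algebra.TensorProduct.lift (IsScalarTower.toAlgHom R B₀ K) rQ' fun _ _ => .all _ _
  have hback : back.toRingHom.comp q = mk := by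
    refine IsLocalization.ringHom_ext (Submonoid.powers g) (RingHom.ext fun y => ?_)
    show back (q (algebraMap (B ⊗[A] P) C y)) = mk (algebraMap (B ⊗[A] P) C y)
    rw [hq, ← hoK]
    generalize v y = z
    induction z using TensorProduct.induction_on with
    | zero => simp
    | tmul b p =>
      show back ((b ⊗ₜ[R] (1 : Q)) * ((1 : B₀) ⊗ₜ[R] algebraMap (R ⊗[A] P) Q (1 ⊗ₜ p))) = _
      rw [map_mul]
      show (e₀ b * rQ 1) * (e₀ 1 * rQ (algebraMap (R ⊗[A] P) Q (1 ⊗ₜ p))) = _
      rw [map_one, map_one, mul_one, one_mul]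
      show e₀ b * rQ (algebraMap (R ⊗[A] P) Q (1 ⊗ₜ p)) = _
      rw [hrQ]
      simp [w, oK]
      rfl
    | add x y hx hy => simp [hx, hy]
  have hker : ∀ x, q x = 0 → x ∈ J.map (algebraMap B C) := fun x hx => Ideal.Quotient.eq_zero_iff_mem.1 <| by
    rw [show Ideal.Quotient.mk _ x = back (q x) from (congrArg (fun h : C →+* K => h x) hback).symm, hx, map_zero]
  have hqJ : ∀ x ∈ J.map (algebraMap B C), q x = 0 := fun x hx => by
    have : J.map (algebraMap B C) ≤ RingHom.ker q := Ideal.map_le_iff_le_comap.2 fun b hb => by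
      rw [Ideal.mem_comap, RingHom.mem_ker, hqb, Ideal.Quotient.eq_zero_iff_mem.2 hb, map_zero]
    exact this hx
  have hqs : Function.Surjective q := fun x => by
    induction x using TensorProduct.induction_on with
    | zero => exact ⟨0, map_zero _⟩
    | add x y hx hy =>
      obtain ⟨x, rfl⟩ := hx
      obtain ⟨y, rfl⟩ := hy
      exact ⟨x + y, map_add _ _ _⟩
    | tmul b c =>
      obtain ⟨b, rfl⟩ := Ideal.Quotient.mk_surjective b
      obtain ⟨⟨y, _, m, rfl⟩, hy⟩ := IsLocalization.surj (Submonoid.powers γ) c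
      obtain ⟨z, hz⟩ := hv (w y)
      obtain ⟨iv, hiv⟩ := IsLocalization.Away.algebraMap_isUnit (S := C) g
      refine ⟨algebraMap B C b * (algebraMap (B ⊗[A] P) C z * (↑iv⁻¹) ^ m), ?_⟩
      have h1 : q ((↑iv⁻¹ : C) ^ m) * q (algebraMap (B ⊗[A] P) C g ^ m) = 1 := by
        rw [← map_mul, ← mul_pow, ← hiv, Units.inv_mul, one_pow, map_one]
      have h2 : ((1 : B₀) ⊗ₜ[R] c : D) * q (algebraMap (B ⊗[A] P) C g ^ m) = o (v z) := by
        rw [map_pow, hq, hg, hz, how, how, Algebra.TensorProduct.tmul_pow, Algebra.TensorProduct.tmul_mul_tmul,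
          one_pow, one_mul, ← map_pow]
        exact congrArg _ hy
      rw [map_mul, map_mul, hqb, hq, ← h2, mul_assoc ((1 : B₀) ⊗ₜ[R] c) _ _, mul_comm (q (_ ^ m)), h1, mul_one]
      rw [Algebra.TensorProduct.algebraMap_apply, Algebra.TensorProduct.tmul_mul_tmul, mul_one, one_mul]
      rfl
  choose f' hf' using fun i => hqs ((1 : B₀) ⊗ₜ[R] f i)
  choose lb hlb using fun i : Fin d => Ideal.Quotient.mk_surjective (β i)
  choose b' hb' using fun i => hqs ((1 : B₀) ⊗ₜ[R] lb i)
  have hpre : ∀ k, (pre f' k).map q = pre (fun i => (1 : B₀) ⊗ₜ[R] f i) k := fun k => by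
    rw [map_pre]
    simp only [hf']
  have hcomap : ∀ k x, q x ∈ pre (fun i => (1 : B₀) ⊗ₜ[R] f i) k → x ∈ pre f' k ⊔ J.map (algebraMap B C) :=
    fun k x hx => by
      rw [← hpre, Ideal.mem_map_iff_of_surjective q hqs] at hx
      obtain ⟨y, hy, hyx⟩ := hx
      refine Submodule.mem_sup.2 ⟨y, hy, x - y, hker _ (by rw [map_sub, hyx, sub_self]), by ring⟩
  have himage : ∀ k x, x ∈ pre f' k ⊔ J.map (algebraMap B C) → q x ∈ pre (fun i => (1 : B₀) ⊗ₜ[R] f i) k :=
    fun k x hx => by
      obtain ⟨y, hy, z, hz, rfl⟩ := Submodule.mem_sup.1 hx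
      rw [map_add, hqJ z hz, add_zero, ← hpre]
      exact Ideal.mem_map_of_mem _ hy
  have hreg : ∀ (i : Fin n) (x : C), f' i * x ∈ pre f' i ⊔ J.map (algebraMap B C) →
      x ∈ pre f' i ⊔ J.map (algebraMap B C) := fun i x hx => by
    refine hcomap i x (hUR B₀ i (q x) ?_)
    rw [← hf', ← map_mul]
    exact himage _ _ hx
  let I₀ := pre (fun i => (1 : B₀) ⊗ₜ[R] f i) n
  let θ : D →ₐ[B₀] B₀ ⊗[R] (Q ⧸ pre f n) :=
    Algebra.TensorProduct.map (AlgHom.id B₀ B₀) (Ideal.Quotient.mkₐ R (pre f n))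
  let κ : D →ₗ[B₀] (Fin d → B₀) := ((TensorProduct.piScalarRight R B₀ B₀ (Fin d)).toLinearMap ∘ₗ
    β.equivFun.toLinearMap.baseChange B₀) ∘ₗ θ.toLinearMap
  have hκ : ∀ (c : Q) (k : Fin d), κ ((1 : B₀) ⊗ₜ[R] c) k = φ₀ (β.repr (Ideal.Quotient.mk _ c) k) := fun c k => by
    show (TensorProduct.piScalarRight R B₀ B₀ (Fin d)) ((1 : B₀) ⊗ₜ[R] β.equivFun (Ideal.Quotient.mk _ c)) k = _
    rw [TensorProduct.piScalarRight_apply, TensorProduct.piScalarRightHom_tmul]
    exact (Algebra.smul_def _ _).trans (mul_one _)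
  have hκI : ∀ x ∈ I₀, κ x = 0 := fun x hx => by
    have : I₀ ≤ RingHom.ker θ.toRingHom := by
      refine Ideal.span_le.2 ?_
      rintro _ ⟨i, hi, rfl⟩
      show θ ((1 : B₀) ⊗ₜ[R] f i) = 0
      show (1 : B₀) ⊗ₜ[R] Ideal.Quotient.mk (pre f n) (f i) = 0
      rw [Ideal.Quotient.eq_zero_iff_mem.2 (show f i ∈ pre f n from Ideal.subset_span ⟨i, hi, rfl⟩),
        TensorProduct.tmul_zero]
    simp only [κ, LinearMap.comp_apply, AlgHom.toLinearMap_apply]
    rw [show θ x = 0 from this hx, map_zero, map_zero]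
  have hlbk : ∀ (l k : Fin d), κ ((1 : B₀) ⊗ₜ[R] lb l) k = if l = k then 1 else 0 := fun l k => by
    rw [hκ, hlb, β.repr_self, Finsupp.single_apply, apply_ite φ₀, map_one, map_zero]
  have hgen : ∀ y : D, y - ∑ i, κ y i • ((1 : B₀) ⊗ₜ[R] lb i) ∈ I₀ := fun y => by
    induction y using TensorProduct.induction_on with
    | zero => simp
    | tmul b c =>
      have hc : c - ∑ i, β.repr (Ideal.Quotient.mk _ c) i • lb i ∈ pre f n := by
        rw [← Ideal.Quotient.eq_zero_iff_mem, map_sub, map_sum, sub_eq_zero]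
        conv_lhs => rw [← β.sum_repr (Ideal.Quotient.mk _ c)]
        exact Finset.sum_congr rfl fun i _ => by rw [← hlb]; rfl
      have h1 : (1 : B₀) ⊗ₜ[R] (c - ∑ i, β.repr (Ideal.Quotient.mk _ c) i • lb i) ∈ I₀ := by
        have := Ideal.mem_map_of_mem (Algebra.TensorProduct.includeRight : Q →ₐ[R] D).toRingHom hc
        rwa [map_pre] at this
      have hb : b ⊗ₜ[R] c = b • ((1 : B₀) ⊗ₜ[R] c) := by rw [TensorProduct.smul_tmul', smul_eq_mul, mul_one]
      rw [hb, map_smul]
      convert Submodule.smul_of_tower_mem I₀ b h1 using 1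
      simp only [TensorProduct.tmul_sub, TensorProduct.tmul_sum, TensorProduct.tmul_smul, smul_sub, Finset.smul_sum,
        Pi.smul_apply, smul_assoc, hκ]
      congr 1
    | add x y hx hy =>
      convert add_mem hx hy using 1
      simp [add_smul, Finset.sum_add_distrib]
      abel
  have hqsmul : ∀ (a : B) (x : C), q (a • x) = Ideal.Quotient.mk J a • q x := fun a x => by
    rw [Algebra.smul_def, map_mul, hqb]
    exact (Algebra.smul_def _ _).symm
  have hκq : ∀ a : Fin d → B, κ (q (∑ i, a i • b' i)) = fun k => Ideal.Quotient.mk J (a k) := fun a => by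
    ext k
    simp [map_sum, hqsmul, hb', hlbk]
  have hspan : ∀ x : C, ∃ a : Fin d → B, x - ∑ i, a i • b' i ∈ pre f' n ⊔ J.map (algebraMap B C) := fun x => by
    choose a ha using fun i => Ideal.Quotient.mk_surjective (κ (q x) i)
    refine ⟨a, hcomap n _ ?_⟩
    simpa [map_sum, hqsmul, hb', ha] using hgen (q x)
  have hindep : ∀ a : Fin d → B, ∑ i, a i • b' i ∈ pre f' n ⊔ J.map (algebraMap B C) → ∀ i, a i ∈ J :=
    fun a ha i => by
      have h := congrFun ((hκq a).symm.trans (hκI _ (himage n _ ha))) i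
      exact Ideal.Quotient.eq_zero_iff_mem.1 h
  obtain ⟨β', hβ'⟩ := exists_basis hJ hreg hspan hindep
  have hrepr : ∀ (x : C) k, Ideal.Quotient.mk J (β'.repr (Ideal.Quotient.mk _ x) k) = κ (q x) k := fun x k => by
    have hx : x - ∑ i, β'.repr (Ideal.Quotient.mk _ x) i • b' i ∈ pre f' n := by
      rw [← Ideal.Quotient.eq_zero_iff_mem, map_sub, map_sum, sub_eq_zero]
      conv_lhs => rw [← β'.sum_repr (Ideal.Quotient.mk _ x)]
      exact Finset.sum_congr rfl fun i _ => by rw [hβ']; rfl
    have h := hκI _ (himage n _ (Submodule.mem_sup_left hx))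
    rw [map_sub, map_sub, hκq, sub_eq_zero] at h
    exact (congrFun h k).symm
  refine ⟨C ⧸ pre f' n, inferInstance, inferInstance, inferInstance, inferInstance, β',
    ((Ideal.Quotient.mkₐ A (pre f' n)).comp (IsScalarTower.toAlgHom A (B ⊗[A] P) C)).comp
      Algebra.TensorProduct.includeRight, fun i j k => ?_, fun k => ?_, fun p k => ?_⟩
  · rw [hβ', hβ', ← map_mul, hrepr, map_mul, hb', hb', Algebra.TensorProduct.tmul_mul_tmul, one_mul, hκ, map_mul,
      hlb, hlb]
  · rw [← map_one (Ideal.Quotient.mk (pre f' n)), hrepr, map_one, Algebra.TensorProduct.one_def, hκ, map_one]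
  · refine (hrepr _ k).trans ?_
    rw [← hκ]
    refine congrArg (fun y => κ y k) ?_
    show q (algebraMap (B ⊗[A] P) C (1 ⊗ₜ p)) = _
    rw [hq]
    show o ((1 : B₀) ⊗ₜ p) = _
    simp [o, D, sliceElt, Q]

end Slice

section Universal

variable {A P R : Type u} [CommRing A] [CommRing P] [Algebra A P] [Module.Flat A P] {d : ℕ} {ι : Type} [Fintype ι]
  {F : Finset (MvPolynomial ι A)} (π : MvPolynomial ι A →ₐ[A] P) (hπ : Function.Surjective π)
  (hker : RingHom.ker π.toRingHom = Ideal.span (F : Set (MvPolynomial ι A)))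
  [CommRing R] [Algebra A R] [Algebra (W d F) R] [IsScalarTower A (W d F) R]
  (M : Submonoid (W d F)) [IsLocalization M R]
  {γ : R ⊗[A] P} {n : ℕ} {f : Fin n → Localization.Away γ} (hUR : UR R (Localization.Away γ) f)
  (β : Basis (Fin d) R (Localization.Away γ ⧸ pre f n))

include hUR hπ M in
/-- A localisation of the ring of based algebras which carries a slice is formally smooth. -/
theorem formallySmooth_of_slice
    (hc : ∀ i j k, algebraMap (W d F) R ((str d F).c i j k) = β.repr (β i * β j) k)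
    (h1 : ∀ k, algebraMap (W d F) R ((str d F).u k) = β.repr 1 k)
    (hev : ∀ p k, algebraMap (W d F) R ((str d F).coord (univ π hπ hker p) k) =
      β.repr (Ideal.Quotient.mk _ (sliceElt γ p)) k) :
    Algebra.FormallySmooth A R := by
  refine Algebra.FormallySmooth.of_comp_surjective fun B _ _ J hJ φ₀ => ?_
  obtain ⟨Z, _, _, _, _, β', ψ, h₁, h₂, h₃⟩ := exists_deformation γ hUR β B hJ φ₀
  obtain ⟨φ, hφc, hφ1, hφev⟩ := exists_hom π hπ hker β' ψ
  have hcomp : (Ideal.Quotient.mkₐ A J).comp φ = φ₀.comp (IsScalarTower.toAlgHom A (W d F) R) := by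
    refine hom_ext π hπ hker (fun i j k => ?_) (fun i => ?_) fun p m => ?_
    · show Ideal.Quotient.mk J (φ _) = φ₀ (algebraMap (W d F) R _)
      rw [hφc, hc, h₁]
    · show Ideal.Quotient.mk J (φ _) = φ₀ (algebraMap (W d F) R _)
      rw [hφ1, h1, h₂]
    · show Ideal.Quotient.mk J (φ _) = φ₀ (algebraMap (W d F) R _)
      rw [hφev, hev, h₃]
  have hunit : ∀ m : M, IsUnit (φ m) := fun m => by
    have hJn : IsNilpotent J := ⟨2, hJ⟩
    obtain ⟨r, hr⟩ := Ideal.Quotient.mk_surjective (I := J)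
      ↑((IsLocalization.map_units R m).map φ₀).unit⁻¹
    have hmul : Ideal.Quotient.mk J (φ m) * Ideal.Quotient.mk J r = 1 := by
      rw [hr, show Ideal.Quotient.mk J (φ m) = φ₀ (algebraMap (W d F) R m) from AlgHom.congr_fun hcomp m]
      exact ((IsLocalization.map_units R m).map φ₀).mul_val_inv
    have hnil : IsNilpotent (φ m * r - 1) := ⟨2, by
      have : φ m * r - 1 ∈ J := by
        rw [← Ideal.Quotient.eq_zero_iff_mem, map_sub, map_mul, map_one, hmul, sub_self]
      have := Ideal.pow_mem_pow this 2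
      rwa [hJ] at this⟩
    have := hnil.isUnit_add_one
    rw [sub_add_cancel] at this
    exact isUnit_of_mul_isUnit_left this
  refine ⟨IsLocalization.liftAlgHom (M := M) (f := φ) hunit, ?_⟩
  apply AlgHom.coe_ringHom_injective
  refine IsLocalization.ringHom_ext M (RingHom.ext fun x => ?_)
  show Ideal.Quotient.mk J (IsLocalization.liftAlgHom (M := M) (f := φ) hunit (algebraMap (W d F) R x)) =
    φ₀ (algebraMap (W d F) R x)
  rw [IsLocalization.liftAlgHom_apply, IsLocalization.lift_eq]
  exact AlgHom.congr_fun hcomp x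

end Universal

end Groth.Agent.ArtinBoot49
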