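import Groth.Agent.ArtinBoot49.Exists
import Mathlib.RingTheory.LocalRing.ResidueField.Ideal
import Mathlib.RingTheory.TensorProduct.Pi

/-!
# A smooth point of the space of based algebras receiving a flat algebra
-/

set_option autoImplicit false
set_option linter.unusedSectionVars false

universe u

open Module TensorProduct

namespace Groth.Agent.ArtinBoot49

variable {A P : Type u} [CommRing A] [CommRing P] [Algebra A P] [Algebra.FinitePresentation A P] [Module.Flat A P]
  {ι : Type} [Fintype ι] {F : Finset (MvPolynomial ι A)} (π : MvPolynomial ι A →ₐ[A] P)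
  (hπ : Function.Surjective π) (hker : RingHom.ker π.toRingHom = Ideal.span (F : Set (MvPolynomial ι A)))

include π hπ hker in
set_option maxHeartbeats 1600000 in
set_option synthInstance.maxHeartbeats 200000 in
/-- Over every point where the algebra does not vanish there is a smooth point of the space of based algebras
receiving it, of positive rank. -/
theorem exists_smooth_point (p : Ideal A) [p.IsPrime] [Nontrivial (p.ResidueField ⊗[A] P)] :
    ∃ (d : ℕ) (q : Ideal (W d F)) (_ : q.IsPrime), 0 < d ∧ q.comap (algebraMap A (W d F)) = p ∧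
      Algebra.IsSmoothAt A q := by
  classical
  let K := p.ResidueField
  obtain ⟨n, fK, gK, hregK, hfin, hnt⟩ := exists_slice_field K (K ⊗[A] P)
  let M₀ := (K ⊗[A] P) ⧸ pre fK n
  let ZK := Localization.Away (Ideal.Quotient.mk (pre fK n) gK)
  haveI : Module.Finite K ZK := hfin
  haveI : Nontrivial ZK := hnt
  let d := finrank K ZK
  let b : Basis (Fin d) K ZK := finBasis K ZK
  let ψK : (K ⊗[A] P) →ₐ[K] ZK := (IsScalarTower.toAlgHom K M₀ ZK).comp (Ideal.Quotient.mkₐ K _)
  have hψK0 : ∀ i, ψK (fK i) = 0 := fun i => by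
    show algebraMap M₀ ZK (Ideal.Quotient.mk _ (fK i)) = 0
    rw [Ideal.Quotient.eq_zero_iff_mem.2 (show fK i ∈ pre fK n from Ideal.subset_span ⟨i, i.2, rfl⟩), map_zero]
  have hψKu : IsUnit (ψK gK) := IsLocalization.Away.algebraMap_isUnit (Ideal.Quotient.mk (pre fK n) gK)
  have hψKs : Function.Surjective ψK := by
    intro z
    obtain ⟨⟨a, _, N, rfl⟩, ha⟩ := IsLocalization.surj (Submonoid.powers (Ideal.Quotient.mk (pre fK n) gK)) z
    obtain ⟨a, rfl⟩ := Ideal.Quotient.mk_surjective a
    obtain ⟨i, hi⟩ : ∃ i : K ⊗[A] P, ψK i * ψK gK = 1 := by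
      let S' : Subalgebra K ZK := ψK.range
      have hg : ψK gK ∈ S' := ⟨gK, rfl⟩
      have hinj : Function.Injective (LinearMap.mulLeft K (⟨ψK gK, hg⟩ : S')) := fun x y hxy => by
        apply Subtype.ext
        exact hψKu.mul_left_cancel (congrArg Subtype.val hxy)
      obtain ⟨⟨v, i, rfl⟩, hv⟩ := LinearMap.injective_iff_surjective.1 hinj 1
      exact ⟨i, by rw [mul_comm]; exact congrArg Subtype.val hv⟩
    refine ⟨a * i ^ N, ?_⟩
    have ha' : z * ψK gK ^ N = ψK a := by
      show z * algebraMap M₀ ZK (Ideal.Quotient.mk _ gK) ^ N = algebraMap M₀ ZK (Ideal.Quotient.mk _ a)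
      rw [← map_pow]
      exact ha
    rw [map_mul, map_pow, ← ha', mul_assoc, ← mul_pow, mul_comm (ψK gK), hi, one_pow, mul_one]
  obtain ⟨φ, hφc, hφ1, hφev⟩ := exists_hom π hπ hker b
    ((ψK.restrictScalars A).comp Algebra.TensorProduct.includeRight)
  let q := RingHom.ker φ.toRingHom
  haveI hq : q.IsPrime := RingHom.ker_isPrime _
  have hqp : q.comap (algebraMap A (W d F)) = p := by
    ext a
    show φ (algebraMap A (W d F) a) = 0 ↔ _
    rw [AlgHom.commutes, Ideal.algebraMap_residueField_eq_zero]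
  let R := Localization.AtPrime q
  let φR : R →ₐ[A] K := IsLocalization.liftAlgHom (M := q.primeCompl) (f := φ) fun y => Ne.isUnit fun h => y.2 h
  have hφR : ∀ w : W d F, φR (algebraMap (W d F) R w) = φ w := fun w => by
    rw [IsLocalization.liftAlgHom_apply, IsLocalization.lift_eq]
    rfl
  have hφRs : Function.Surjective φR := fun k => by
    obtain ⟨k', s', hs', rfl⟩ := IsFractionRing.div_surjective (A := A ⧸ p) k
    obtain ⟨a, rfl⟩ := Ideal.Quotient.mk_surjective k'
    obtain ⟨s, rfl⟩ := Ideal.Quotient.mk_surjective s'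
    have hs : algebraMap A K s ≠ 0 := by
      rw [IsScalarTower.algebraMap_apply A (A ⧸ p) K]
      exact IsFractionRing.to_map_ne_zero_of_mem_nonZeroDivisors hs'
    have hu : IsUnit (algebraMap A R s) := by
      rw [IsScalarTower.algebraMap_apply A (W d F) R]
      refine IsLocalization.map_units R (⟨_, ?_⟩ : q.primeCompl)
      show φ _ ≠ 0
      rwa [AlgHom.commutes]
    refine ⟨algebraMap A R a * ↑hu.unit⁻¹, ?_⟩
    rw [eq_div_iff (by rw [← Ideal.Quotient.algebraMap_eq, ← IsScalarTower.algebraMap_apply]; exact hs),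
      ← Ideal.Quotient.algebraMap_eq, ← IsScalarTower.algebraMap_apply, ← IsScalarTower.algebraMap_apply,
      ← φR.commutes s, ← map_mul, mul_assoc, IsUnit.val_inv_mul, mul_one, φR.commutes]
  let m := IsLocalRing.maximalIdeal R
  have hm : RingHom.ker φR.toRingHom = m := IsLocalRing.eq_maximalIdeal (RingHom.ker_isMaximal_of_surjective _ hφRs)
  let Q := R ⊗[A] P
  let v : Q →ₐ[A] K ⊗[A] P := Algebra.TensorProduct.map φR (AlgHom.id A P)
  have hv : Function.Surjective v := fun x => by
    induction x using TensorProduct.induction_on with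
    | zero => exact ⟨0, map_zero _⟩
    | tmul k y =>
      obtain ⟨r, rfl⟩ := hφRs k
      exact ⟨r ⊗ₜ y, rfl⟩
    | add x y hx hy =>
      obtain ⟨x, rfl⟩ := hx
      obtain ⟨y, rfl⟩ := hy
      exact ⟨x + y, map_add _ _ _⟩
  have hvker : RingHom.ker v.toRingHom = m.map (algebraMap R Q) := by
    have h := Algebra.TensorProduct.rTensor_ker (R := A) (C := P) φR hφRs
    rw [show RingHom.ker φR = m from hm] at h
    exact h
  let s := (str d F).map (algebraMap (W d F) R)
  let Z := s.Carrier
  haveI : Module.Free R Z := Module.Free.of_basis s.basis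
  haveI : Module.Finite R Z := Module.Finite.of_basis s.basis
  let uZ : P →ₐ[A] Z :=
    AlgHom.comp (AlgStr.pushₐ (A := A) (str d F) (B' := R) (IsScalarTower.toAlgHom A (W d F) R)) (univ π hπ hker)
  let ψ : Q →ₐ[R] Z := Algebra.TensorProduct.lift (Algebra.ofId R Z) uZ fun _ _ => .all _ _
  let θ : Z →+ ZK :=
    { toFun := fun z => ∑ i, φR (s.coord z i) • b i
      map_zero' := by simp
      map_add' := fun x y => by simp [add_smul, Finset.sum_add_distrib] }
  have hθ : ∀ y : Q, θ (ψ y) = ψK (v y) := fun y => by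
    induction y using TensorProduct.induction_on with
    | zero => simp
    | tmul r y =>
      have hy : ∑ i, φR (s.coord (uZ y) i) • b i = ψK ((1 : K) ⊗ₜ y) := by
        conv_rhs => rw [← b.sum_repr (ψK ((1 : K) ⊗ₜ y))]
        refine Finset.sum_congr rfl fun i _ => congrArg (· • b i) ?_
        rw [show s.coord (uZ y) i = algebraMap (W d F) R ((str d F).coord (univ π hπ hker y) i) from
          AlgStr.coord_push _ _ _ _, hφR, hφev]
        rfl
      have h1 : ψ (r ⊗ₜ y) = r • uZ y := by
        rw [Algebra.smul_def]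
        exact Algebra.TensorProduct.lift_tmul _ _ _ r y
      rw [h1]
      show ∑ i, φR (s.coord (r • uZ y) i) • b i = ψK (φR r ⊗ₜ y)
      rw [show φR r ⊗ₜ[A] y = φR r • ((1 : K) ⊗ₜ[A] y) by rw [TensorProduct.smul_tmul', smul_eq_mul, mul_one],
        map_smul ψK, ← hy, Finset.smul_sum]
      exact Finset.sum_congr rfl fun i _ => by simp [smul_smul]
    | add x y hx hy => rw [map_add, map_add, map_add, map_add, hx, hy]
  have hθ0 : ∀ z : Z, θ z = 0 → z ∈ m.map (algebraMap R Z) := fun z hz => by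
    have h0 := Fintype.linearIndependent_iff.1 b.linearIndependent _ hz
    rw [← s.sum_basis z]
    refine Ideal.sum_mem _ fun i _ => ?_
    rw [Algebra.smul_def]
    exact Ideal.mul_mem_right _ _ (Ideal.mem_map_of_mem _ (hm ▸ RingHom.mem_ker.2 (h0 i)))
  have hψ : Function.Surjective ψ := by
    have htop : (⊤ : Submodule R Z) ≤ LinearMap.range ψ.toLinearMap ⊔ m • ⊤ := fun z _ => by
      obtain ⟨y, hy⟩ := hψKs (θ z)
      obtain ⟨y, rfl⟩ := hv y
      have h1 : z - ψ y ∈ m.map (algebraMap R Z) := hθ0 _ (by rw [map_sub, hθ, hy, sub_self])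
      refine Submodule.mem_sup.2 ⟨ψ y, ⟨y, rfl⟩, z - ψ y, ?_, by abel⟩
      rw [Ideal.smul_top_eq_map]
      exact h1
    have := Submodule.le_of_le_smul_of_le_jacobson_bot (Module.finite_def.1 (inferInstance : Module.Finite R Z))
      (IsLocalRing.jacobson_eq_maximalIdeal _ bot_ne_top).ge htop
    exact fun z => this trivial
  obtain ⟨g, hg⟩ := hv gK
  have hgu : IsUnit (ψ g) := by
    obtain ⟨y, hy⟩ := hψKs ↑hψKu.unit⁻¹
    obtain ⟨y, rfl⟩ := hv y
    have h1 : ψ g * ψ y - 1 ∈ m.map (algebraMap R Z) := hθ0 _ (by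
      rw [← map_mul, ← map_one ψ, map_sub, hθ, hθ, map_mul, map_mul, hg, hy, IsUnit.mul_val_inv, map_one, map_one,
        sub_self])
    exact isUnit_of_mul_isUnit_left (isUnit_of_sub_one_mem (R := R) h1)
  have hf : ∀ i, ∃ y : Q, v y = fK i ∧ ψ y = 0 := fun i => by
    obtain ⟨y, hy⟩ := hv (fK i)
    have h1 : ψ y ∈ m.map (algebraMap R Z) := hθ0 _ (by rw [hθ, hy, hψK0])
    rw [show algebraMap R Z = ψ.toRingHom.comp (algebraMap R Q) from ψ.comp_algebraMap.symm, ← Ideal.map_map,
      Ideal.mem_map_iff_of_surjective ψ.toRingHom hψ] at h1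
    obtain ⟨y', hy', hyy⟩ := h1
    rw [← hvker] at hy'
    exact ⟨y - y', by rw [map_sub, hy, show v y' = 0 from hy', sub_zero], by
      rw [map_sub, show ψ y' = ψ y from hyy, sub_self]⟩
  choose f hfv hf0 using hf
  have hcomap : ∀ k x, v x ∈ pre fK k → x ∈ pre f k ⊔ m.map (algebraMap R Q) := fun k x hx => by
    have hk : pre fK k = (pre f k).map v.toRingHom := by
      rw [map_pre]
      exact congrArg (fun t => pre t k) (funext fun i => (hfv i).symm)
    rw [hk, Ideal.mem_map_iff_of_surjective v.toRingHom hv] at hx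
    obtain ⟨y, hy, hyx⟩ := hx
    refine Submodule.mem_sup.2 ⟨y, hy, x - y, ?_, by ring⟩
    rw [← hvker, RingHom.mem_ker, map_sub, hyx]
    exact sub_self _
  obtain ⟨γ, hγu, hUR, hkerγ⟩ := exists_spread ψ hψ f hf0 g hgu (fun i x hx => by
      have h1 : fK i * v x ∈ pre fK i := by
        obtain ⟨y, hy, z, hz, hyz⟩ := Submodule.mem_sup.1 hx
        rw [← hfv, ← map_mul, ← hyz, map_add, show v z = 0 by rw [← hvker] at hz; exact hz, add_zero]
        have := Ideal.mem_map_of_mem v.toRingHom hy
        rw [map_pre] at this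
        simpa [hfv] using this
      obtain ⟨N, hN⟩ := hregK i _ h1
      exact ⟨N, hcomap _ _ (by rwa [map_mul, map_pow, hg])⟩) (fun x hx => by
      have h1 : ψK (v x) = 0 := by
        rw [← hθ]
        rw [show algebraMap R Z = ψ.toRingHom.comp (algebraMap R Q) from ψ.comp_algebraMap.symm, ← Ideal.map_map,
          Ideal.mem_map_iff_of_surjective ψ.toRingHom hψ] at hx
        obtain ⟨y, hy, hyx⟩ := hx
        rw [show ψ x = ψ y from hyx.symm, hθ, show v y = 0 by rw [← hvker] at hy; exact hy, map_zero]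
      have h2 : algebraMap M₀ ZK (Ideal.Quotient.mk _ (v x)) = algebraMap M₀ ZK 0 := h1.trans (map_zero _).symm
      obtain ⟨N, hN⟩ := IsLocalization.Away.exists_of_eq (Ideal.Quotient.mk (pre fK n) gK) h2
      rw [mul_zero, ← map_pow, ← map_mul, Ideal.Quotient.eq_zero_iff_mem] at hN
      exact ⟨N, hcomap _ _ (by rwa [map_mul, map_pow, hg])⟩)
  let C := Localization.Away γ
  let f' : Fin n → C := fun i => algebraMap Q C (f i)
  let ψC : C →ₐ[R] Z := IsLocalization.liftAlgHom (M := Submonoid.powers γ) (f := ψ) (by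
    rintro ⟨_, N, rfl⟩
    simp only [map_pow]
    exact hγu.pow N)
  have hψC : ∀ y : Q, ψC (algebraMap Q C y) = ψ y := fun y => by
    rw [IsLocalization.liftAlgHom_apply, IsLocalization.lift_eq]
    rfl
  have hψCs : Function.Surjective ψC := fun z => by
    obtain ⟨y, rfl⟩ := hψ z
    exact ⟨_, hψC y⟩
  have hψCk : RingHom.ker ψC = pre f' n := by
    refine le_antisymm (fun y hy => ?_) (Ideal.span_le.2 ?_)
    · obtain ⟨⟨x, _, N, rfl⟩, hx⟩ := IsLocalization.surj (Submonoid.powers γ) y
      have h1 : ψ x = 0 := by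
        rw [← hψC, ← hx, map_mul, show ψC y = 0 from hy, zero_mul]
      have h2 := hkerγ x h1
      rw [← hx] at h2
      exact (Ideal.mul_unit_mem_iff_mem _ (IsLocalization.map_units C _)).1 h2
    · rintro _ ⟨i, -, rfl⟩
      exact (hψC _).trans (hf0 i)
  let e : (C ⧸ pre f' n) ≃ₐ[R] Z :=
    (Ideal.quotientEquivAlgOfEq R hψCk.symm).trans (Ideal.quotientKerAlgEquivOfSurjective hψCs)
  have he : ∀ y : C, e (Ideal.Quotient.mk _ y) = ψC y := fun y => rfl
  let β : Basis (Fin d) R (C ⧸ pre f' n) := s.basis.map e.symm.toLinearEquiv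
  have hβ : ∀ y k, β.repr y k = s.coord (e y) k := fun y k => rfl
  have hβe : ∀ i, e (β i) = s.basis i := fun i => e.apply_symm_apply _
  have hsmooth := formallySmooth_of_slice π hπ hker q.primeCompl (R := R) (γ := γ) hUR β
    (fun i j k => by
      rw [hβ, map_mul, hβe, hβe, AlgStr.mul_def, AlgStr.mulB_basis, LinearEquiv.apply_symm_apply]
      rfl)
    (fun k => by
      rw [hβ, map_one]
      rfl)
    (fun y k => by
      rw [hβ, he]
      show _ = s.coord (ψC (algebraMap Q C ((1 : R) ⊗ₜ y))) k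
      rw [hψC, show ψ ((1 : R) ⊗ₜ y) = uZ y from (Algebra.TensorProduct.lift_tmul _ _ _ (1 : R) y).trans
        (by rw [map_one, one_mul])]
      exact (AlgStr.coord_push _ _ _ _).symm)
  exact ⟨d, q, hq, finrank_pos, hqp, hsmooth⟩

end Groth.Agent.ArtinBoot49
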