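import Groth.Agent.ArtinBoot49.AtlasBG

/-!
# Quotient stacks by flat affine group schemes of finite presentation are algebraic
-/

set_option autoImplicit false
set_option backward.isDefEq.respectTransparency false
set_option backward.isDefEq.respectTransparency.types false
set_option linter.unusedVariables false

universe u

open CategoryTheory CategoryTheory.Functor CategoryTheory.Limits MonoidalCategory CartesianMonoidalCategory MonObj
open AlgebraicGeometry AlgSp Groth.Agent.AlgSpLib Groth.Agent.AlgStLib Groth.Agent.FibBase Groth.Agent.QuotLib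
open Groth.Agent.GrpSchLib

namespace Groth.Agent.ArtinBoot49

variable {S : Scheme.{u}}

/-- Representability of a faithful map of stacks is fppf local on the target. -/
theorem repByAlgSp1_of_fppf_cover {𝒳 𝒲 𝒰 : AlgSt.Cat S} (h𝒳 : Stk.IsStack (J S) 𝒳) (h𝒲 : Stk.IsStack (J S) 𝒲)
    {u : 𝒰 ⥤ᵇ 𝒳} (h₁ : AlgSt.RepByAlgSpWith (LocP @Flat) u)
    (h₂ : AlgSt.RepByAlgSpWith (LocP @LocallyOfFinitePresentation) u)
    (h₃ : AlgSt.RepByAlgSpWith IsSurjectiveMor u) (q : 𝒲 ⥤ᵇ 𝒳) [q.toFunctor.Faithful]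
    (hq : AlgSt.RepByAlgSp1 (FibCat.fpFst u q)) : AlgSt.RepByAlgSp1 q := fun U x => by
  have hst : Stk.IsStack (J S) (FibCat.fp x q) := Groth.Agent.StkLib.isStack_fp x q
    (isStack_of_repByAlgSp (repByAlgSp_overCat U)) h𝒲 (Groth.Agent.StkLib.isPrestack_of_isStack h𝒳)
  have hset : FibCat.IsFibSetoid (FibCat.fp x q).p := isFibSetoid_iff.2 ⟨hst.1, faithful_fp x⟩
  obtain ⟨U', v, z, hv, hv₂, hv', ⟨i⟩⟩ := exists_fppf_lift h₁ h₂ h₃ x
  refine repByAlgSp_of_fppf_locally hst hset (FibCat.fpFst x q) v ?_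
  have key₂ : AlgSt.RepByAlgSp (FibCat.fp (BasedFunctor.comp (AlgSt.overMap v) x) q) :=
    repByAlgSp_of_equiv _ (fpMap_isEquivOver (F := BasedFunctor.comp (AlgSt.overMap v) x) (G := q)
      (F' := BasedFunctor.comp z u) (G' := q) (a := BasedFunctor.id _) (b := BasedFunctor.id _)
      (c := BasedFunctor.id _) i.symm (Iso.refl _) isEquivOver_id isEquivOver_id)
      (repByAlgSp_of_equiv _ (pasteVert_isEquivOver z u q) (hq U' z))
  exact (repByAlgSp_iff_of_equiv _ (pasteVert_isEquivOver (AlgSt.overMap v) x q)).2 key₂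

variable {K : Precoverage Scheme.{u}} {G : Over S} [GrpObj G] {X : Over S} (aX : AlgGrp.Action G X)

/-- Forgetting the map to `X`. -/
noncomputable def toBG : AlgSt.QuotSt K G aX ⥤ᵇ AlgSt.BG K G where
  toFunctor :=
    { obj := fun A => ⟨A.base, A.P, A.act, A.π, A.cart, A.loc, toUnit A.P, toUnit_unique _ _⟩
      map := fun {A B} f => ⟨f.base, f.top, f.eqv, f.cart, toUnit_unique _ _⟩
      map_id := fun A => rfl
      map_comp := fun f g => rfl }
  w := rfl

instance : (toBG (K := K) aX).toFunctor.Faithful :=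
  ⟨fun {A B} f g h => AlgSt.QuotObj.hom_ext (congrArg AlgSt.QuotObj.Hom.base h :) (congrArg AlgSt.QuotObj.Hom.top h :)⟩

local notation "K₀" => Scheme.fppfPrecoverage

/-- The comparison at a point. -/
noncomputable def bgApp (x : Over X) :
    (quotOver K₀ G (AlgSt.trivAction G)).obj ((AlgSt.overMap (toUnit X)).obj x) ≅
      (toBG aX).obj ((quotOver K₀ G aX).obj x) where
  hom := ⟨𝟙 x.left, 𝟙 (G ⊗ x.left),
    (by
      show (AlgSt.leftMul G x.left).act ≫ 𝟙 (G ⊗ x.left) = (G ◁ 𝟙 (G ⊗ x.left)) ≫ (AlgSt.leftMul G x.left).act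
      simp),
    IsPullback.id_horiz (snd G x.left), toUnit_unique _ _⟩
  inv := ⟨𝟙 x.left, 𝟙 (G ⊗ x.left),
    (by
      show (AlgSt.leftMul G x.left).act ≫ 𝟙 (G ⊗ x.left) = (G ◁ 𝟙 (G ⊗ x.left)) ≫ (AlgSt.leftMul G x.left).act
      simp),
    IsPullback.id_horiz (snd G x.left), toUnit_unique _ _⟩
  hom_inv_id := AlgSt.QuotObj.hom_ext (Category.id_comp _) (Category.id_comp _)
  inv_hom_id := AlgSt.QuotObj.hom_ext (Category.id_comp _) (Category.id_comp _)

/-- The 2-cell. -/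
noncomputable def bgCell :
    BasedFunctor.comp (AlgSt.overMap (toUnit X)) (quotOver K₀ G (AlgSt.trivAction G)) ≅
      BasedFunctor.comp (quotOver K₀ G aX) (toBG aX) :=
  BasedNatIso.mkNatIso (NatIso.ofComponents (fun x => bgApp aX x) fun {x y} t => by
      refine AlgSt.QuotObj.hom_ext ?_ ?_
      · show t.left ≫ 𝟙 _ = 𝟙 _ ≫ t.left
        simp
      · show (G ◁ t.left) ≫ 𝟙 _ = 𝟙 _ ≫ (G ◁ t.left)
        rw [Category.id_comp]
        exact Category.comp_id _)
    fun x => IsHomLift.of_fac _ _ _ rfl rfl (by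
      show 𝟙 x.left = 𝟙 _ ≫ 𝟙 x.left ≫ 𝟙 _
      simp)

/-- The comparison of `X` with the fibre over the trivial torsor. -/
noncomputable def toFpBG : FibCat.overCat X ⥤ᵇ FibCat.fp (quotOver K₀ G (AlgSt.trivAction G)) (toBG aX) :=
  FibCat.fpLift (AlgSt.overMap (toUnit X)) (quotOver K₀ G aX) (bgCell aX)

theorem toFpBG_isEquivOver : FibCat.IsEquivOver (toFpBG aX) := by
  refine isEquivOver_of_exists_iso _ ⟨fun {x y} t => ?_⟩ ⟨fun {x y} t t' h => ?_⟩ fun pt => ?_
  · have w : (G ◁ t.hom.fst.left) ≫ 𝟙 _ = 𝟙 _ ≫ t.hom.snd.top := congrArg AlgSt.QuotObj.Hom.top t.hom.w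
    have w' : t.hom.fst.left ≫ 𝟙 _ = 𝟙 _ ≫ t.hom.snd.base := congrArg AlgSt.QuotObj.Hom.base t.hom.w
    have htop : t.hom.snd.top = G ◁ t.hom.fst.left :=
      (Category.id_comp _).symm.trans (w.symm.trans (Category.comp_id _))
    have hbase : t.hom.snd.base = t.hom.fst.left :=
      (Category.id_comp _).symm.trans (w'.symm.trans (Category.comp_id _))
    have hX : t.hom.fst.left ≫ y.hom = x.hom := by
      have h := congrArg (sec G x.left ≫ ·) t.hom.snd.wφ
      simp only at h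
      rw [htop] at h
      change sec G x.left ≫ (G ◁ t.hom.fst.left) ≫ (G ◁ y.hom) ≫ aX.act =
        sec G x.left ≫ (G ◁ x.hom) ≫ aX.act at h
      rw [← MonoidalCategory.whiskerLeft_comp_assoc, sec, lift_whiskerLeft_assoc, lift_whiskerLeft_assoc,
        Category.id_comp, Category.id_comp, act_one, act_one] at h
      exact h
    refine ⟨Over.homMk t.hom.fst.left hX, ObjectProperty.hom_ext _ (CategoricalPullback.hom_ext ?_ ?_)⟩
    · exact Over.OverMorphism.ext rfl
    · exact AlgSt.QuotObj.hom_ext hbase.symm htop.symm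
  · exact Over.OverMorphism.ext (congrArg (fun k => k.hom.fst.left) h)
  · let a := pt.obj.fst
    let A := pt.obj.snd
    let θ := pt.obj.iso
    have hl : (AlgSt.BG K₀ G).p.IsHomLift (𝟙 a.left) θ.hom := pt.property
    have hA : A.base = a.left := IsHomLift.codomain_eq (AlgSt.BG K₀ G).p (𝟙 a.left) θ.hom
    have hθ : θ.hom.base = eqToHom hA.symm := by
      have h := IsHomLift.fac' (AlgSt.BG K₀ G).p (𝟙 a.left) θ.hom
      simp at h
      exact h
    let b : a.left ⟶ A.P := sec G a.left ≫ θ.hom.top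
    let x : Over X := Over.mk (b ≫ A.φ)
    let ψ : (quotOver K₀ G aX).obj x ⟶ A := trivHom A b _ rfl
    have hψb : ψ.base = θ.hom.base := by
      show (sec G a.left ≫ θ.hom.top) ≫ A.π = θ.hom.base
      have h := θ.hom.cart.w
      rw [Category.assoc]
      refine (congrArg (sec G a.left ≫ ·) h).trans ?_
      show sec G a.left ≫ snd G a.left ≫ θ.hom.base = _
      rw [sec, lift_snd_assoc, Category.id_comp]
    have hψi : IsIso ψ.base := by rw [hψb, hθ]; infer_instance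
    have : IsIso ψ := by
      have : IsIso ψ.top := ψ.cart.isIso_fst_of_isIso
      refine ⟨⟨inv ψ.base, inv ψ.top, ?_, ?_, ?_⟩, AlgSt.QuotObj.hom_ext (IsIso.hom_inv_id _) (IsIso.hom_inv_id _),
        AlgSt.QuotObj.hom_ext (IsIso.inv_hom_id _) (IsIso.inv_hom_id _)⟩
      · rw [IsIso.comp_inv_eq, Category.assoc, ψ.eqv, ← MonoidalCategory.whiskerLeft_comp_assoc, IsIso.inv_hom_id,
          MonoidalCategory.whiskerLeft_id, Category.id_comp]
      · exact IsPullback.of_horiz_isIso ⟨by rw [IsIso.inv_comp_eq, ← Category.assoc, ψ.cart.w, Category.assoc,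
          IsIso.hom_inv_id, Category.comp_id]⟩
      · rw [IsIso.inv_comp_eq, ψ.wφ]
    let i₁ : (AlgSt.overMap (toUnit X)).obj x ≅ a :=
      Over.isoMk (Iso.refl a.left) (toUnit_unique _ _)
    refine ⟨x, fpIsoMk (x := (toFpBG aX).obj x) (y := pt) i₁ (asIso ψ) ?_, ?_⟩
    · show (quotOver K₀ G (AlgSt.trivAction G)).map i₁.hom ≫ θ.hom = (bgApp aX x).hom ≫ (toBG aX).map ψ
      refine hom_ext_sec ?_
      show sec G a.left ≫ (G ◁ 𝟙 a.left) ≫ θ.hom.top = sec G a.left ≫ 𝟙 _ ≫ (G ◁ b) ≫ A.act.act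
      rw [MonoidalCategory.whiskerLeft_id, Category.id_comp, Category.id_comp]
      conv_rhs => rw [sec, lift_whiskerLeft_assoc, Category.id_comp, act_one]
    · exact fp_isHomLift (𝟙 _) _ (h := IsHomLift.of_fac _ _ _ rfl rfl (by
        show 𝟙 a.left = 𝟙 _ ≫ 𝟙 a.left ≫ 𝟙 _
        simp))

variable [Flat G.hom] [LocallyOfFinitePresentation G.hom] [IsAffineHom G.hom]

theorem repByAlgSp1_toBG : AlgSt.RepByAlgSp1 (toBG (K := K₀) aX) := by
  obtain ⟨h₁, h₂, h₃⟩ := quot_flat_lfp_surjective (aX := AlgSt.trivAction G)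
  refine repByAlgSp1_of_fppf_cover isStack_quotSt isStack_quotSt h₁ h₂ h₃ _ ?_
  exact repByAlgSp1_of_repByAlgSp (repByAlgSp_of_equiv _ (toFpBG_isEquivOver aX) (repByAlgSp_overCat X))
    (repByAlgSp_overCat (𝟙_ (Over S))) _

/-- `[X/G]` is an algebraic stack. -/
theorem isAlgStack_quotSt : AlgSt.IsAlgStack K₀ (AlgSt.QuotSt K₀ G aX) := by
  have hBG := isAlgStack_BG (G := G)
  obtain ⟨V, v, hv, hv'⟩ := hBG.atlas
  have hfp : AlgSt.RepByAlgSp (FibCat.fp v (toBG aX)) := repByAlgSp1_toBG aX V v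
  have h := (isDM_of_repByAlgSp hfp).1
  exact ⟨isStack_quotSt, repByAlgSp1_diag_quotSt _,
    hasAtlas_of_smooth_cover h.isStack.1 h.atlas (repByAlgSpWith_fpSnd (toBG aX) hv) (repByAlgSpWith_fpSnd (toBG aX) hv')⟩

end Groth.Agent.ArtinBoot49
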