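import Groth.Agent.ArtinBoot49.Lift
import Groth.Agent.AlgSpDec.SliceFlat

/-!
# Spreading out a slice from a closed fibre

A sequence that is regular on the closed fibre of a flat finitely presented algebra over a local ring is regular
after every base change on a neighbourhood of the finite set where it cuts out a finite flat quotient.
-/

set_option autoImplicit false
set_option linter.unusedSectionVars false

universe u

open TensorProduct AlgebraicGeometry CategoryTheory

namespace Groth.Agent.ArtinBoot49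

section Universally

variable {O : Type u} [CommRing O] {A : Type u} [CommRing A] [Algebra O A]

/-- A flat variable stays regular after every base change. -/
theorem universally_regular (f : A)
    (h : letI := (Polynomial.aeval (R := O) f).toRingHom.toAlgebra; Module.Flat (Polynomial O) A)
    (B : Type u) [CommRing B] [Algebra O B] (x : B ⊗[O] A) (hx : ((1 : B) ⊗ₜ[O] f) * x = 0) : x = 0 := by
  let OX := Polynomial O
  letI : Algebra OX A := (Polynomial.aeval (R := O) f).toRingHom.toAlgebra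
  haveI : IsScalarTower O OX A := IsScalarTower.of_algebraMap_eq fun r => ((Polynomial.aeval f).commutes r).symm
  haveI : Module.Flat OX A := h
  let N := OX ⊗[O] B
  let e : A ⊗[OX] N ≃ₗ[OX] A ⊗[O] B := (TensorProduct.AlgebraTensorModule.cancelBaseChange O OX OX A B)
  let μ : N →ₗ[OX] N := LinearMap.lsmul OX N Polynomial.X
  have hμ : Function.Injective μ := by
    let eN : N ≃ₐ[O] Polynomial B := (Algebra.TensorProduct.comm O OX B).trans
      ((polyEquivTensor O B).symm.restrictScalars O)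
    have hX : eN (Polynomial.X ⊗ₜ (1 : B)) = Polynomial.X := by
      show (polyEquivTensor O B).symm ((1 : B) ⊗ₜ[O] (Polynomial.X : Polynomial O)) = _
      simp [polyEquivTensor_symm_apply_tmul_eq_smul]
    have key : ∀ n : N, (Polynomial.X : OX) • n = (Polynomial.X ⊗ₜ[O] (1 : B)) * n := fun n => by
      exact (Algebra.smul_def (Polynomial.X : OX) n).trans rfl
    intro y z hyz
    apply eN.injective
    have h' : (Polynomial.X ⊗ₜ[O] (1 : B)) * y = (Polynomial.X ⊗ₜ[O] (1 : B)) * z := by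
      rw [← key, ← key]; exact hyz
    have h'' := congrArg eN h'
    rw [map_mul, map_mul, hX] at h''
    exact Polynomial.isRegular_X.left h''
  have hinj : Function.Injective (μ.lTensor A) := Module.Flat.lTensor_preserves_injective_linearMap μ hμ
  have key : ∀ w : B ⊗[O] A,
      (Polynomial.X : OX) • (TensorProduct.comm O B A) w = (TensorProduct.comm O B A) (((1 : B) ⊗ₜ[O] f) * w) := by
    intro w
    induction w using TensorProduct.induction_on with
    | zero => simp
    | tmul b a =>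
      simp [TensorProduct.smul_tmul', Algebra.smul_def, RingHom.algebraMap_toAlgebra]
    | add a b ha hb => simp only [map_add, smul_add, mul_add, ha, hb]
  let z : A ⊗[OX] N := e.symm ((TensorProduct.comm O B A) x)
  have hz : μ.lTensor A z = 0 := by
    have hX : μ.lTensor A z = (Polynomial.X : OX) • z := by
      generalize z = z
      induction z using TensorProduct.induction_on with
      | zero => simp
      | tmul a n => simp [μ, TensorProduct.tmul_smul]
      | add a b ha hb => simp [ha, hb]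
    rw [hX]
    apply e.injective
    rw [map_smul, LinearEquiv.apply_symm_apply, map_zero]
    rw [key, hx, map_zero]
  have := hinj (hz.trans (map_zero _).symm)
  simpa [z] using this

/-- Dividing by an element regular on the fibres at finitely many primes keeps flatness near them, and the element
is regular after every base change there. -/
theorem exists_regular_flat [Algebra.FinitePresentation O A] [Module.Flat O A] (f : A) (s : Set (Ideal A))
    (hs : s.Finite) (hprime : ∀ Q ∈ s, Q.IsPrime) (hf : ∀ Q ∈ s, f ∈ Q)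
    (hreg : ∀ Q ∈ s, ∀ [Q.IsPrime], ∀ t, f * t ∈ FlatModel.sat (Q.comap (algebraMap O A)) ⊥ Q.primeCompl →
      t ∈ FlatModel.sat (Q.comap (algebraMap O A)) ⊥ Q.primeCompl) :
    ∃ h : A, (∀ Q ∈ s, h ∉ Q) ∧ ∀ (A' : Type u) [CommRing A'] [Algebra A A'] [Algebra O A'] [IsScalarTower O A A']
      [IsLocalization.Away h A'], Module.Flat O (A' ⧸ Ideal.span {algebraMap A A' f}) ∧
        ∀ (B : Type u) [CommRing B] [Algebra O B] (x : B ⊗[O] A'),
          ((1 : B) ⊗ₜ[O] algebraMap A A' f) * x = 0 → x = 0 := by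
  classical
  let φ : Polynomial O →+* A := (Polynomial.aeval (R := O) f).toRingHom
  have hW : ∀ Q (hQ : Q ∈ s), ∃ W : Set (PrimeSpectrum A), IsOpen W ∧ (⟨Q, hprime Q hQ⟩ : PrimeSpectrum A) ∈ W ∧
      ∀ z ∈ W, ((Spec.map (CommRingCat.ofHom φ)).stalkMap z).hom.Flat := fun Q hQ => by
    have := hprime Q hQ
    have : Q.LiesOver (Q.comap (algebraMap O A)) := ⟨rfl⟩
    obtain ⟨W, hW, hQW, hWflat⟩ := FibFlat.affine_main (R := O) (Polynomial.aeval f)
      (⟨Q, hprime Q hQ⟩ : PrimeSpectrum A) (AlgSpDec.Slice.ff_aeval f _ Q (hf Q hQ) (hreg Q hQ))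
    exact ⟨W, hW, hQW, fun z hz => (hWflat z hz).2⟩
  choose W hWo hQW hWflat using hW
  let U : Set (PrimeSpectrum A) := ⋃ Q, ⋃ hQ, W Q hQ
  have hU : IsOpen U := isOpen_iUnion fun Q => isOpen_iUnion fun hQ => hWo Q hQ
  obtain ⟨I, hI⟩ : ∃ I : Set A, Uᶜ = PrimeSpectrum.zeroLocus I :=
    (PrimeSpectrum.isClosed_iff_zeroLocus _).1 hU.isClosed_compl
  obtain ⟨h, hhI, hhs⟩ : ∃ h ∈ Ideal.span I, ∀ Q ∈ s, h ∉ Q := by
    by_contra hcon
    push Not at hcon
    have hsub : ((Ideal.span I : Ideal A) : Set A) ⊆ ⋃ Q ∈ (↑hs.toFinset : Set (Ideal A)), (id Q : Ideal A) := by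
      intro x hx
      obtain ⟨Q, hQ, hxQ⟩ := hcon x hx
      exact Set.mem_biUnion (hs.mem_toFinset.2 hQ) hxQ
    obtain ⟨Q, hQ, hle⟩ := (Ideal.subset_union_prime ⊥ ⊥ (fun Q hQ _ _ => hprime Q (hs.mem_toFinset.1 hQ))).1 hsub
    have hQ' := hs.mem_toFinset.1 hQ
    have : (⟨Q, hprime Q hQ'⟩ : PrimeSpectrum A) ∈ Uᶜ := by
      rw [hI]
      exact Ideal.span_le.1 hle
    exact this (Set.mem_iUnion₂.2 ⟨Q, hQ', hQW Q hQ'⟩)
  have hhU : ∀ z : PrimeSpectrum A, h ∉ z.asIdeal → z ∈ U := fun z hz => by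
    by_contra hzU
    have : z ∈ Uᶜ := hzU
    rw [hI] at this
    exact hz (Ideal.span_le.2 this hhI)
  refine ⟨h, hhs, fun A' _ _ _ _ _ => ?_⟩
  have haev : (Polynomial.aeval (R := O) (algebraMap A A' f)).toRingHom = (algebraMap A A').comp φ :=
    RingHom.ext fun p => Polynomial.aeval_algebraMap_apply A' f p
  letI : Algebra (Polynomial O) A' := (Polynomial.aeval (R := O) (algebraMap A A' f)).toRingHom.toAlgebra
  haveI : IsScalarTower O (Polynomial O) A' :=
    IsScalarTower.of_algebraMap_eq fun r => ((Polynomial.aeval (algebraMap A A' f)).commutes r).symm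
  have hflatX : Module.Flat (Polynomial O) A' := by
    let j := Spec.map (CommRingCat.ofHom (algebraMap A A'))
    have : IsOpenImmersion j := IsOpenImmersion.of_isLocalization h
    have hflat : Flat (j ≫ Spec.map (CommRingCat.ofHom φ)) := by
      refine Flat.of_stalkMap _ fun z => (FibFlat.flat_stalk_open_comp j _ z).2 ?_
      have hz : j z ∈ Set.range (PrimeSpectrum.comap (algebraMap A A')) := ⟨z, rfl⟩
      rw [PrimeSpectrum.localization_away_comap_range A' h] at hz
      obtain ⟨Q, hQ⟩ := Set.mem_iUnion.1 (hhU _ hz)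
      obtain ⟨hQs, hzW⟩ := Set.mem_iUnion.1 hQ
      exact hWflat Q hQs _ hzW
    rw [← Spec.map_comp, HasRingHomProperty.Spec_iff (P := @Flat)] at hflat
    rw [← RingHom.flat_algebraMap_iff]
    show (Polynomial.aeval (R := O) (algebraMap A A' f)).toRingHom.Flat
    rw [haev]
    exact hflat
  refine ⟨?_, fun B _ _ x hx => universally_regular (algebraMap A A' f) hflatX B x hx⟩
  let I : Ideal (Polynomial O) := Ideal.span {Polynomial.X}
  have : Module.Flat (Polynomial O ⧸ I) ((Polynomial O ⧸ I) ⊗[Polynomial O] A') := inferInstance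
  have : Module.Flat O (Polynomial O ⧸ I) :=
    Module.Flat.of_linearEquiv (AlgEquiv.toLinearEquiv
      ((Ideal.quotientEquivAlgOfEq O (show I = Ideal.span {Polynomial.X - Polynomial.C (0 : O)} by simp [I])).trans
        (Polynomial.quotientSpanXSubCAlgEquiv (0 : O))))
  have : Module.Flat O ((Polynomial O ⧸ I) ⊗[Polynomial O] A') := Module.Flat.trans O (Polynomial O ⧸ I) _
  have hIf : I • (⊤ : Submodule (Polynomial O) A') =
      (Ideal.span {algebraMap A A' f}).restrictScalars (Polynomial O) := by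
    rw [Ideal.smul_top_eq_map, Ideal.map_span, Set.image_singleton]
    congr 3
    exact Polynomial.aeval_X _
  let e := (TensorProduct.quotTensorEquivQuotSMul A' I).trans
    ((Submodule.quotEquivOfEq _ _ hIf).trans (Submodule.Quotient.restrictScalarsEquiv (Polynomial O) _))
  exact Module.Flat.of_linearEquiv (e.restrictScalars O).symm

end Universally

section Away

variable {O M₀ M' : Type u} [CommRing O] [CommRing M₀] [Algebra O M₀] [CommRing M'] [Algebra O M'] [Algebra M₀ M']
  [IsScalarTower O M₀ M'] (a : M₀) [IsLocalization.Away a M'] (B : Type u) [CommRing B] [Algebra O B]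

/-- The kernel of a base change of a localisation. -/
theorem tensor_away_eq_zero (x : B ⊗[O] M₀)
    (hx : Algebra.TensorProduct.map (AlgHom.id O B) (IsScalarTower.toAlgHom O M₀ M') x = 0) :
    ∃ N : ℕ, ((1 : B) ⊗ₜ[O] a) ^ N * x = 0 := by
  let D := B ⊗[O] M₀
  let c : D := (1 : B) ⊗ₜ[O] a
  let T := Localization.Away c
  let r : M₀ →ₐ[O] T := (IsScalarTower.toAlgHom O D T).comp Algebra.TensorProduct.includeRight
  have hr : IsUnit (r a) := IsLocalization.Away.algebraMap_isUnit c
  let r' : M' →ₐ[O] T := IsLocalization.liftAlgHom (M := Submonoid.powers a) (f := r) (by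
    rintro ⟨_, m, rfl⟩
    show IsUnit (r (a ^ m))
    rw [map_pow]
    exact hr.pow m)
  let s : B ⊗[O] M' →ₐ[O] T := Algebra.TensorProduct.lift
    ((IsScalarTower.toAlgHom O D T).comp Algebra.TensorProduct.includeLeft) r' fun _ _ => .all _ _
  have hs : s.comp (Algebra.TensorProduct.map (AlgHom.id O B) (IsScalarTower.toAlgHom O M₀ M')) =
      IsScalarTower.toAlgHom O D T := by
    ext y
    · simp [s]
      rfl
    · simp [s, r', r, IsLocalization.lift_eq]
      rfl
  have h0 : algebraMap D T x = algebraMap D T 0 := by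
    rw [map_zero]
    show IsScalarTower.toAlgHom O D T x = 0
    rw [← hs, AlgHom.comp_apply, hx, map_zero]
  obtain ⟨N, hN⟩ := IsLocalization.Away.exists_of_eq c h0
  exact ⟨N, by rw [hN, mul_zero]⟩

/-- A base change of a localisation is a localisation. -/
theorem tensor_away_surj (x : B ⊗[O] M') : ∃ (y : B ⊗[O] M₀) (N : ℕ),
    x * Algebra.TensorProduct.map (AlgHom.id O B) (IsScalarTower.toAlgHom O M₀ M') (((1 : B) ⊗ₜ[O] a) ^ N) =
      Algebra.TensorProduct.map (AlgHom.id O B) (IsScalarTower.toAlgHom O M₀ M') y := by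
  induction x using TensorProduct.induction_on with
  | zero => exact ⟨0, 0, by simp⟩
  | tmul b m =>
    obtain ⟨⟨m₀, _, N, rfl⟩, hm⟩ := IsLocalization.surj (Submonoid.powers a) m
    refine ⟨b ⊗ₜ m₀, N, ?_⟩
    simp only [Algebra.TensorProduct.tmul_pow, one_pow, Algebra.TensorProduct.map_tmul,
      Algebra.TensorProduct.tmul_mul_tmul, AlgHom.coe_id, id_eq, mul_one, IsScalarTower.coe_toAlgHom']
    exact congrArg _ hm
  | add x y hx hy =>
    obtain ⟨x', i, hx⟩ := hx
    obtain ⟨y', j, hy⟩ := hy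
    refine ⟨((1 : B) ⊗ₜ[O] a) ^ j * x' + ((1 : B) ⊗ₜ[O] a) ^ i * y', i + j, ?_⟩
    rw [map_add, map_mul _ (_ ^ j) x', map_mul _ (_ ^ i) y', ← hx, ← hy, pow_add, map_mul]
    ring

end Away

section Spread

variable {R Q Z : Type u} [CommRing R] [IsLocalRing R] [CommRing Q] [Algebra R Q]
  [Algebra.FinitePresentation R Q] [Module.Flat R Q] [CommRing Z] [Algebra R Z] [Module.Finite R Z]
  [Module.Free R Z] (ψ : Q →ₐ[R] Z) (hψ : Function.Surjective ψ) {n : ℕ} (f : Fin n → Q) (hf : ∀ i, ψ (f i) = 0)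
  (g : Q) (hg : IsUnit (ψ g))
  (hreg : ∀ (i : Fin n) (x : Q), f i * x ∈ pre f i ⊔ (IsLocalRing.maximalIdeal R).map (algebraMap R Q) →
    ∃ N : ℕ, g ^ N * x ∈ pre f i ⊔ (IsLocalRing.maximalIdeal R).map (algebraMap R Q))
  (hker : ∀ x : Q, ψ x ∈ (IsLocalRing.maximalIdeal R).map (algebraMap R Z) →
    ∃ N : ℕ, g ^ N * x ∈ pre f n ⊔ (IsLocalRing.maximalIdeal R).map (algebraMap R Q))

/-- The part of a slice built from the first members of the sequence. -/
def Stage (k : ℕ) (h : Q) : Prop :=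
  IsUnit (ψ h) ∧ g ∣ h ∧ Module.Flat R (Localization.Away (Ideal.Quotient.mk (pre f k) h)) ∧
    ∀ (B : Type u) [CommRing B] [Algebra R B] (i : Fin n), (i : ℕ) < k → ∀ x : B ⊗[R] Q,
      ((1 : B) ⊗ₜ[R] f i) * x ∈ pre (fun j => (1 : B) ⊗ₜ[R] f j) i →
        ∃ N : ℕ, ((1 : B) ⊗ₜ[R] h) ^ N * x ∈ pre (fun j => (1 : B) ⊗ₜ[R] f j) i

theorem map_le_maximal {Z : Type u} [CommRing Z] [Algebra R Z] [Module.Finite R Z] (N : Ideal Z) [N.IsMaximal] :
    N.comap (algebraMap R Z) = IsLocalRing.maximalIdeal R := by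
  haveI := Ideal.isMaximal_comap_of_isIntegral_of_isMaximal (R := R) N
  exact IsLocalRing.eq_maximalIdeal this

/-- Elements congruent to a unit modulo the closed fibre are units. -/
theorem isUnit_of_sub_one_mem {z : Z} (hz : z - 1 ∈ (IsLocalRing.maximalIdeal R).map (algebraMap R Z)) :
    IsUnit z := by
  by_contra hu
  obtain ⟨N, hN, hzN⟩ := exists_max_ideal_of_mem_nonunits (show z ∈ nonunits Z from hu)
  have h1 : z - 1 ∈ N := Ideal.map_le_iff_le_comap.2 (map_le_maximal N).ge hz
  exact hN.ne_top ((Ideal.eq_top_iff_one _).2 (by simpa using sub_mem hzN h1))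

include hf hg in
theorem stage_zero : Stage ψ f g 0 g := by
  refine ⟨hg, dvd_rfl, ?_, fun B _ _ i hi => absurd hi (Nat.not_lt_zero _)⟩
  let e : Q ≃ₐ[R] Q ⧸ pre f 0 :=
    ((AlgEquiv.quotientBot R Q).symm.trans (Ideal.quotientEquivAlgOfEq R (pre_zero f).symm))
  have : Module.Flat R (Q ⧸ pre f 0) := Module.Flat.of_linearEquiv e.symm.toLinearEquiv
  have : Module.Flat (Q ⧸ pre f 0) (Localization.Away (Ideal.Quotient.mk (pre f 0) g)) :=
    IsLocalization.flat _ (Submonoid.powers (Ideal.Quotient.mk (pre f 0) g))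
  exact Module.Flat.trans R (Q ⧸ pre f 0) _

/-- The kernel of a base change of a quotient. -/
theorem mem_pre_of_tensor_quotient (B : Type u) [CommRing B] [Algebra R B] (k : ℕ) (x : B ⊗[R] Q)
    (hx : Algebra.TensorProduct.map (AlgHom.id R B) (Ideal.Quotient.mkₐ R (pre f k)) x = 0) :
    x ∈ pre (fun j => (1 : B) ⊗ₜ[R] f j) k := by
  have h := Algebra.TensorProduct.lTensor_ker (A := B) (Ideal.Quotient.mkₐ R (pre f k))
    (Ideal.Quotient.mkₐ_surjective R _)
  have hx' : x ∈ RingHom.ker (Algebra.TensorProduct.map (AlgHom.id R B) (Ideal.Quotient.mkₐ R (pre f k))) := hx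
  rw [h] at hx'
  have hk : RingHom.ker (Ideal.Quotient.mkₐ R (pre f k)) = pre f k := Ideal.mk_ker
  rw [hk] at hx'
  rwa [show (pre f k).map (Algebra.TensorProduct.includeRight : Q →ₐ[R] B ⊗[R] Q) =
    (pre f k).map (Algebra.TensorProduct.includeRight : Q →ₐ[R] B ⊗[R] Q).toRingHom from rfl, map_pre] at hx'

theorem tensor_quotient_eq_zero (B : Type u) [CommRing B] [Algebra R B] (k : ℕ) (x : B ⊗[R] Q)
    (hx : x ∈ pre (fun j => (1 : B) ⊗ₜ[R] f j) k) :
    Algebra.TensorProduct.map (AlgHom.id R B) (Ideal.Quotient.mkₐ R (pre f k)) x = 0 := by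
  have hle : pre (fun j => (1 : B) ⊗ₜ[R] f j) k ≤
      RingHom.ker (Algebra.TensorProduct.map (AlgHom.id R B) (Ideal.Quotient.mkₐ R (pre f k))) := by
    refine Ideal.span_le.2 ?_
    rintro _ ⟨j, hj, rfl⟩
    show Algebra.TensorProduct.map (AlgHom.id R B) (Ideal.Quotient.mkₐ R (pre f k)) ((1 : B) ⊗ₜ f j) = 0
    rw [Algebra.TensorProduct.map_tmul, Ideal.Quotient.mkₐ_eq_mk,
      Ideal.Quotient.eq_zero_iff_mem.2 (show f j ∈ pre f k from Ideal.subset_span ⟨j, hj, rfl⟩),
      TensorProduct.tmul_zero]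
  exact hle hx

/-- Membership in the closed fibre of a localised quotient is read in the algebra. -/
theorem exists_pow_mul_mem (k : ℕ) (h : Q) (x : Q)
    (hx : algebraMap (Q ⧸ pre f k) (Localization.Away (Ideal.Quotient.mk (pre f k) h)) (Ideal.Quotient.mk _ x) ∈
      (IsLocalRing.maximalIdeal R).map (algebraMap R (Localization.Away (Ideal.Quotient.mk (pre f k) h)))) :
    ∃ N : ℕ, h ^ N * x ∈ pre f k ⊔ (IsLocalRing.maximalIdeal R).map (algebraMap R Q) := by
  rw [IsScalarTower.algebraMap_eq R (Q ⧸ pre f k), ← Ideal.map_map,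
    IsLocalization.algebraMap_mem_map_algebraMap_iff (Submonoid.powers (Ideal.Quotient.mk (pre f k) h))] at hx
  obtain ⟨_, ⟨N, rfl⟩, hN⟩ := hx
  refine ⟨N, ?_⟩
  have : (IsLocalRing.maximalIdeal R).map (algebraMap R (Q ⧸ pre f k)) =
      ((IsLocalRing.maximalIdeal R).map (algebraMap R Q)).map (Ideal.Quotient.mk (pre f k)) := by
    rw [Ideal.map_map]
    rfl
  simp only at hN
  rw [this, ← map_pow, ← map_mul, Ideal.mem_quotient_iff_mem_sup] at hN
  rwa [sup_comm]

theorem algebraMap_mem_of_mem (k : ℕ) (h : Q) {x : Q}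
    (hx : x ∈ pre f k ⊔ (IsLocalRing.maximalIdeal R).map (algebraMap R Q)) :
    algebraMap (Q ⧸ pre f k) (Localization.Away (Ideal.Quotient.mk (pre f k) h)) (Ideal.Quotient.mk _ x) ∈
      (IsLocalRing.maximalIdeal R).map (algebraMap R (Localization.Away (Ideal.Quotient.mk (pre f k) h))) := by
  obtain ⟨y, hy, z, hz, rfl⟩ := Submodule.mem_sup.1 hx
  rw [map_add, Ideal.Quotient.eq_zero_iff_mem.2 hy, zero_add]
  have := Ideal.mem_map_of_mem
    ((algebraMap (Q ⧸ pre f k) (Localization.Away (Ideal.Quotient.mk (pre f k) h))).comp (Ideal.Quotient.mk _)) hz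
  rwa [Ideal.map_map] at this

/-- The map of a stage to the finite algebra. -/
noncomputable def stageMap {k : ℕ} {h : Q} (hh : IsUnit (ψ h)) (hf : ∀ i, ψ (f i) = 0) :
    Localization.Away (Ideal.Quotient.mk (pre f k) h) →ₐ[R] Z :=
  IsLocalization.liftAlgHom (M := Submonoid.powers (Ideal.Quotient.mk (pre f k) h))
    (f := Ideal.Quotient.liftₐ (pre f k) ψ fun x hx => by
      have : pre f k ≤ RingHom.ker ψ := Ideal.span_le.2 (by rintro _ ⟨j, -, rfl⟩; exact hf j)
      exact this hx) (by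
    rintro ⟨_, m, rfl⟩
    simp only [map_pow]
    exact hh.pow m)

theorem stageMap_mk {k : ℕ} {h : Q} (hh : IsUnit (ψ h)) (x : Q) :
    stageMap ψ f (k := k) hh hf (algebraMap (Q ⧸ pre f k) _ (Ideal.Quotient.mk _ x)) = ψ x := by
  rw [stageMap, IsLocalization.liftAlgHom_apply, IsLocalization.lift_eq]
  rfl

include hreg in
theorem fibre_regular (i : Fin n) {h : Q} (hgh : g ∣ h)
    (x : Localization.Away (Ideal.Quotient.mk (pre f i) h))
    (hx : algebraMap (Q ⧸ pre f i) _ (Ideal.Quotient.mk _ (f i)) * x ∈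
      (IsLocalRing.maximalIdeal R).map (algebraMap R (Localization.Away (Ideal.Quotient.mk (pre f i) h)))) :
    x ∈ (IsLocalRing.maximalIdeal R).map (algebraMap R (Localization.Away (Ideal.Quotient.mk (pre f i) h))) := by
  obtain ⟨⟨a, _, j, rfl⟩, ha⟩ := IsLocalization.surj (Submonoid.powers (Ideal.Quotient.mk (pre f i) h)) x
  obtain ⟨a, rfl⟩ := Ideal.Quotient.mk_surjective a
  have hu := IsLocalization.map_units (Localization.Away (Ideal.Quotient.mk (pre f i) h))
    (⟨_, j, rfl⟩ : Submonoid.powers (Ideal.Quotient.mk (pre f i) h))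
  have h1 := Ideal.mul_mem_right (algebraMap (Q ⧸ pre f i) _ ((Ideal.Quotient.mk (pre f i) h) ^ j)) _ hx
  rw [mul_assoc, ha, ← map_mul, ← map_mul] at h1
  obtain ⟨N, hN⟩ := exists_pow_mul_mem f i h _ h1
  rw [mul_left_comm] at hN
  obtain ⟨N', hN'⟩ := hreg i _ hN
  obtain ⟨c, hc⟩ := hgh
  have h2 : h ^ (N' + N) * a ∈ pre f i ⊔ (IsLocalRing.maximalIdeal R).map (algebraMap R Q) := by
    rw [show h ^ (N' + N) * a = c ^ N' * (g ^ N' * (h ^ N * a)) by rw [pow_add, hc]; ring]
    exact Ideal.mul_mem_left _ _ hN'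
  have h3 := algebraMap_mem_of_mem f i h h2
  rw [map_mul (Ideal.Quotient.mk _), map_mul (algebraMap _ _), map_pow, map_pow,
    Ideal.unit_mul_mem_iff_mem _ ((IsLocalization.Away.algebraMap_isUnit _).pow _)] at h3
  rwa [← ha, Ideal.mul_unit_mem_iff_mem _ hu] at h3

section Next

variable {R Q : Type u} [CommRing R] [CommRing Q] [Algebra R Q]

/-- Dividing a localised quotient by one more element. -/
theorem flat_next (I I' : Ideal Q) (x a : Q) (hI : I' = I ⊔ Ideal.span {x}) (M' : Type u) [CommRing M']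
    [Algebra (Q ⧸ I) M'] [Algebra R M'] [IsScalarTower R (Q ⧸ I) M']
    [IsLocalization.Away (Ideal.Quotient.mk I a) M']
    (hfl : Module.Flat R (M' ⧸ Ideal.span {algebraMap (Q ⧸ I) M' (Ideal.Quotient.mk I x)})) :
    Module.Flat R (Localization.Away (Ideal.Quotient.mk I' a)) := by
  let Q' := Q ⧸ I'
  let L := Localization.Away (Ideal.Quotient.mk I' a)
  let J := Ideal.span {algebraMap (Q ⧸ I) M' (Ideal.Quotient.mk I x)}
  let D := M' ⧸ J
  have hle : I ≤ I' := hI ▸ le_sup_left
  have hxI : x ∈ I' := hI ▸ Ideal.mem_sup_right (Ideal.mem_span_singleton_self x)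
  let q₁ : (Q ⧸ I) →ₐ[R] L := (IsScalarTower.toAlgHom R Q' L).comp (Ideal.Quotient.factorₐ R hle)
  have hq₁ : IsUnit (q₁ (Ideal.Quotient.mk I a)) := IsLocalization.Away.algebraMap_isUnit (Ideal.Quotient.mk I' a)
  let q₂ : M' →ₐ[R] L := IsLocalization.liftAlgHom (M := Submonoid.powers (Ideal.Quotient.mk I a)) (f := q₁) (by
    rintro ⟨_, m, rfl⟩
    simp only [map_pow]
    exact hq₁.pow m)
  have hq₂ : ∀ y : Q ⧸ I, q₂ (algebraMap (Q ⧸ I) M' y) = q₁ y := fun y => by
    rw [IsLocalization.liftAlgHom_apply, IsLocalization.lift_eq]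
    rfl
  have hqx : q₁ (Ideal.Quotient.mk I x) = 0 := by
    show algebraMap Q' L (Ideal.Quotient.mk I' x) = 0
    rw [Ideal.Quotient.eq_zero_iff_mem.2 hxI, map_zero]
  let fw : D →ₐ[R] L := Ideal.Quotient.liftₐ J q₂ fun y hy => by
    obtain ⟨c, rfl⟩ := Ideal.mem_span_singleton'.1 hy
    rw [map_mul, hq₂, hqx, mul_zero]
  let b₁ : (Q ⧸ I) →ₐ[R] D := (Ideal.Quotient.mkₐ R J).comp (IsScalarTower.toAlgHom R (Q ⧸ I) M')
  let b₂ : Q' →ₐ[R] D := Ideal.Quotient.liftₐ I' (b₁.comp (Ideal.Quotient.mkₐ R I)) fun y hy => by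
    have hle' : I' ≤ RingHom.ker (b₁.comp (Ideal.Quotient.mkₐ R I)) := by
      rw [hI, sup_le_iff, Ideal.span_singleton_le_iff_mem]
      refine ⟨fun z hz => ?_, ?_⟩
      · show b₁ (Ideal.Quotient.mk I z) = 0
        rw [Ideal.Quotient.eq_zero_iff_mem.2 hz, map_zero]
      · exact Ideal.Quotient.eq_zero_iff_mem.2 (Ideal.mem_span_singleton_self _)
    exact RingHom.mem_ker.1 (hle' hy)
  have hb₂ : IsUnit (b₂ (Ideal.Quotient.mk I' a)) :=
    (IsLocalization.Away.algebraMap_isUnit (S := M') (Ideal.Quotient.mk I a)).map (Ideal.Quotient.mk J)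
  let bw : L →ₐ[R] D := IsLocalization.liftAlgHom (M := Submonoid.powers (Ideal.Quotient.mk I' a)) (f := b₂) (by
    rintro ⟨_, m, rfl⟩
    simp only [map_pow]
    exact hb₂.pow m)
  have hbw : ∀ y : Q', bw (algebraMap Q' L y) = b₂ y := fun y => by
    rw [IsLocalization.liftAlgHom_apply, IsLocalization.lift_eq]
    rfl
  have h12 : fw.comp bw = AlgHom.id R L := by
    refine IsLocalization.algHom_ext (Submonoid.powers (Ideal.Quotient.mk I' a)) (AlgHom.ext fun y => ?_)
    obtain ⟨y, rfl⟩ := Ideal.Quotient.mk_surjective y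
    show fw (bw (algebraMap Q' L (Ideal.Quotient.mk I' y))) = _
    rw [hbw]
    exact hq₂ (Ideal.Quotient.mk I y)
  have h21 : bw.comp fw = AlgHom.id R D := by
    refine Ideal.Quotient.algHom_ext R ?_
    refine IsLocalization.algHom_ext (Submonoid.powers (Ideal.Quotient.mk I a)) (AlgHom.ext fun y => ?_)
    obtain ⟨y, rfl⟩ := Ideal.Quotient.mk_surjective y
    show bw (q₂ (algebraMap (Q ⧸ I) M' (Ideal.Quotient.mk I y))) = b₁ (Ideal.Quotient.mk I y)
    rw [hq₂]
    exact hbw (Ideal.Quotient.mk I' y)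
  exact Module.Flat.of_linearEquiv (AlgEquiv.ofAlgHom fw bw h12 h21).symm.toLinearEquiv

end Next

set_option maxHeartbeats 1600000 in
include hψ hf hreg in
/-- One more member of the sequence. -/
theorem stage_succ (k : Fin n) {h : Q} (hst : Stage ψ f g k h) : ∃ h', Stage ψ f g (k + 1) h' := by
  obtain ⟨hh, hgh, hflat, hur⟩ := hst
  let M₀ := Q ⧸ pre f k
  let hb : M₀ := Ideal.Quotient.mk _ h
  let M := Localization.Away hb
  haveI : Algebra.FinitePresentation R M₀ := Algebra.FinitePresentation.quotient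
    (Submodule.fg_span ((Set.toFinite _).image f))
  haveI : Algebra.FinitePresentation M₀ M := IsLocalization.Away.finitePresentation hb
  haveI : Algebra.FinitePresentation R M := Algebra.FinitePresentation.trans R M₀ M
  haveI : Module.Flat R M := hflat
  let fk : M := algebraMap M₀ M (Ideal.Quotient.mk _ (f k))
  let φ := stageMap ψ f (k := k) hh hf
  let s : Set (Ideal M) := (fun N => Ideal.comap φ N) '' {N : Ideal Z | N.IsMaximal}
  have hfin : {N : Ideal Z | N.IsMaximal}.Finite := by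
    let J := (IsLocalRing.maximalIdeal R).map (algebraMap R Z)
    have : Finite (MaximalSpectrum (Z ⧸ J)) := by
      letI : Algebra (R ⧸ IsLocalRing.maximalIdeal R) (Z ⧸ J) :=
        (Ideal.quotientMap J (algebraMap R Z) Ideal.le_comap_map).toAlgebra
      haveI : IsScalarTower R (R ⧸ IsLocalRing.maximalIdeal R) (Z ⧸ J) := IsScalarTower.of_algebraMap_eq fun r => rfl
      haveI : Module.Finite (R ⧸ IsLocalRing.maximalIdeal R) (Z ⧸ J) :=
        Module.Finite.of_restrictScalars_finite R _ _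
      haveI : IsArtinianRing (R ⧸ IsLocalRing.maximalIdeal R) :=
        inferInstanceAs (IsArtinianRing (IsLocalRing.ResidueField R))
      haveI : IsArtinianRing (Z ⧸ J) := IsArtinianRing.of_finite (R ⧸ IsLocalRing.maximalIdeal R) _
      infer_instance
    refine (Set.finite_range fun m : MaximalSpectrum (Z ⧸ J) => m.asIdeal.comap (Ideal.Quotient.mk J)).subset ?_
    intro N (hN : N.IsMaximal)
    have hJN : J ≤ N := Ideal.map_le_iff_le_comap.2 (map_le_maximal N).ge
    have : (N.map (Ideal.Quotient.mk J)).IsMaximal :=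
      Ideal.IsMaximal.map_of_surjective_of_ker_le Ideal.Quotient.mk_surjective (by rwa [Ideal.mk_ker])
    exact ⟨⟨_, this⟩, by
      show (N.map (Ideal.Quotient.mk J)).comap (Ideal.Quotient.mk J) = N
      rw [Ideal.comap_map_of_surjective' _ Ideal.Quotient.mk_surjective, Ideal.mk_ker, sup_eq_left.2 hJN]⟩
  have hsprime : ∀ I ∈ s, I.IsPrime := by
    rintro _ ⟨N, hN, rfl⟩
    haveI : N.IsPrime := Ideal.IsMaximal.isPrime hN
    exact Ideal.IsPrime.comap φ
  obtain ⟨h₁, hh₁, hslice⟩ := exists_regular_flat (O := R) fk s (hfin.image _) hsprime (by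
      rintro _ ⟨N, hN, rfl⟩
      show φ fk ∈ N
      rw [show φ fk = ψ (f k) from stageMap_mk ψ f hf hh (f k), hf k]
      exact zero_mem _) (by
      rintro _ ⟨N, hN, rfl⟩ _ t ⟨w, hw, hwt⟩
      haveI : N.IsMaximal := hN
      have hp : (Ideal.comap φ N).comap (algebraMap R M) = IsLocalRing.maximalIdeal R := by
        rw [← map_le_maximal (R := R) N]
        show (N.comap φ.toRingHom).comap (algebraMap R M) = _
        rw [Ideal.comap_comap]
        congr 1
        exact φ.comp_algebraMap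
      rw [hp, bot_sup_eq] at hwt
      rw [hp]
      refine ⟨w, hw, ?_⟩
      rw [bot_sup_eq]
      rw [mul_left_comm] at hwt
      exact fibre_regular f g hreg k hgh _ hwt)
  obtain ⟨⟨a, _, j, rfl⟩, ha⟩ := IsLocalization.surj (Submonoid.powers hb) h₁
  obtain ⟨a, rfl⟩ := Ideal.Quotient.mk_surjective a
  have hu₁ : IsUnit (φ h₁) := by
    by_contra hu
    obtain ⟨N, hN, hzN⟩ := exists_max_ideal_of_mem_nonunits (show φ h₁ ∈ nonunits Z from hu)
    exact hh₁ _ ⟨N, hN, rfl⟩ hzN
  have hua : IsUnit (ψ a) := by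
    rw [← stageMap_mk ψ f hf hh a]
    show IsUnit (φ (algebraMap M₀ M (Ideal.Quotient.mk _ a)))
    rw [← ha, map_mul]
    exact hu₁.mul ((IsLocalization.map_units M _).map φ)
  refine ⟨h * a, by rw [map_mul]; exact hh.mul hua, dvd_mul_of_dvd_left hgh a, ?_, ?_⟩
  all_goals
    let M' := Localization.Away h₁
    haveI hM' : IsLocalization.Away (hb * Ideal.Quotient.mk (pre f k) a) M' := by
      refine IsLocalization.Away.mul_of_associated hb _ h₁ ?_
      rw [← show h₁ * _ = algebraMap M₀ M (Ideal.Quotient.mk (pre f k) a) from ha]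
      exact associated_mul_unit_left h₁ _ (IsLocalization.map_units M _)
    obtain ⟨hfl, hinj⟩ := hslice M'
  · -- flatness
    have hfk : algebraMap M M' fk = algebraMap M₀ M' (Ideal.Quotient.mk _ (f k)) :=
      (IsScalarTower.algebraMap_apply M₀ M M' _).symm
    haveI : IsLocalization.Away (Ideal.Quotient.mk (pre f k) (h * a)) M' := by
      rw [map_mul]; exact hM'
    rw [hfk] at hfl
    exact flat_next (pre f k) (pre f (k + 1)) (f k) (h * a) (pre_succ f k) M' hfl
  · intro B _ _ i hi x hx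
    let c : B ⊗[R] Q := (1 : B) ⊗ₜ[R] h
    have hc : ((1 : B) ⊗ₜ[R] (h * a)) = c * ((1 : B) ⊗ₜ[R] a) := by
      simp [c, Algebra.TensorProduct.tmul_mul_tmul]
    rcases Nat.lt_succ_iff_lt_or_eq.1 hi with hi | hi
    · obtain ⟨N, hN⟩ := hur B i hi x hx
      refine ⟨N, ?_⟩
      rw [hc, mul_pow, mul_comm (c ^ N), mul_assoc]
      exact Ideal.mul_mem_left _ _ hN
    · obtain rfl : i = k := Fin.ext hi
      let mkT := Algebra.TensorProduct.map (AlgHom.id R B) (Ideal.Quotient.mkₐ R (pre f i))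
      have h0 := tensor_quotient_eq_zero f B i _ hx
      rw [map_mul, Algebra.TensorProduct.map_tmul] at h0
      have h1 : ((1 : B) ⊗ₜ[R] algebraMap M M' fk) *
          Algebra.TensorProduct.map (AlgHom.id R B) (IsScalarTower.toAlgHom R M₀ M') (mkT x) = 0 := by
        have e : ((1 : B) ⊗ₜ[R] algebraMap M M' fk) = Algebra.TensorProduct.map (AlgHom.id R B)
            (IsScalarTower.toAlgHom R M₀ M') ((1 : B) ⊗ₜ[R] Ideal.Quotient.mk (pre f i) (f i)) := by
          rw [Algebra.TensorProduct.map_tmul]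
          exact congrArg _ (IsScalarTower.algebraMap_apply M₀ M M' _).symm
        rw [e, ← map_mul]
        exact (congrArg _ h0).trans (map_zero _)
      obtain ⟨N, hN⟩ := tensor_away_eq_zero (hb * Ideal.Quotient.mk (pre f i) a) B (mkT x) (hinj B _ h1)
      refine ⟨N, mem_pre_of_tensor_quotient f B i _ ?_⟩
      rw [map_mul, map_pow, Algebra.TensorProduct.map_tmul]
      simpa [mkT, hb] using hN

include hf hg hψ hreg in
theorem exists_stage : ∀ k ≤ n, ∃ h, Stage ψ f g k h
  | 0, _ => ⟨g, stage_zero ψ f hf g hg⟩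
  | k + 1, hk => by
    obtain ⟨h, hst⟩ := exists_stage k (Nat.le_of_succ_le hk)
    exact stage_succ ψ hψ f hf g hreg ⟨k, hk⟩ hst

set_option maxHeartbeats 1600000 in
include hf hg hψ hreg hker in
/-- A slice of the closed fibre spreads out. -/
theorem exists_spread : ∃ γ : Q, IsUnit (ψ γ) ∧ UR R (Localization.Away γ) (fun i => algebraMap Q (Localization.Away γ) (f i)) ∧
    ∀ x, ψ x = 0 → algebraMap Q (Localization.Away γ) x ∈
      pre (fun i => algebraMap Q (Localization.Away γ) (f i)) n := by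
  obtain ⟨h, hh, hgh, hflat, hur⟩ := exists_stage ψ hψ f hf g hg hreg n le_rfl
  let M₀ := Q ⧸ pre f n
  let hb : M₀ := Ideal.Quotient.mk _ h
  let M := Localization.Away hb
  let m := (IsLocalRing.maximalIdeal R).map (algebraMap R M)
  haveI : Algebra.FinitePresentation R M₀ := Algebra.FinitePresentation.quotient
    (Submodule.fg_span ((Set.toFinite _).image f))
  haveI : Algebra.FinitePresentation M₀ M := IsLocalization.Away.finitePresentation hb
  haveI : Algebra.FinitePresentation R M := Algebra.FinitePresentation.trans R M₀ M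
  let φ := stageMap ψ f (k := n) hh hf
  have hφ : Function.Surjective φ := fun z => by
    obtain ⟨x, rfl⟩ := hψ z
    exact ⟨_, stageMap_mk ψ f hf hh x⟩
  haveI : Module.FinitePresentation R Z := Module.finitePresentation_of_projective R Z
  haveI : Algebra.FinitePresentation R Z := Algebra.FinitePresentation.of_finitePresentation R Z
  have hN : (RingHom.ker φ.toRingHom).FG := Algebra.FinitePresentation.ker_fG_of_surjective φ hφ
  have hNm : RingHom.ker φ.toRingHom ≤ m := fun y hy => by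
    obtain ⟨⟨a, _, j, rfl⟩, ha⟩ := IsLocalization.surj (Submonoid.powers hb) y
    obtain ⟨a, rfl⟩ := Ideal.Quotient.mk_surjective a
    have hψa : ψ a = 0 := by
      rw [← stageMap_mk ψ f (k := n) hf hh a]
      show φ (algebraMap M₀ M _) = 0
      rw [← ha, map_mul, show φ y = 0 from hy, zero_mul]
    obtain ⟨N, hN⟩ := hker a (by rw [hψa]; exact zero_mem _)
    obtain ⟨c, hc⟩ := hgh
    have h2 : h ^ N * a ∈ pre f n ⊔ (IsLocalRing.maximalIdeal R).map (algebraMap R Q) := by
      rw [hc, mul_pow, mul_comm (g ^ N), mul_assoc]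
      exact Ideal.mul_mem_left _ _ hN
    have h3 := algebraMap_mem_of_mem f n h h2
    rw [map_mul, map_mul, map_pow, map_pow,
      Ideal.unit_mul_mem_iff_mem _ ((IsLocalization.Away.algebraMap_isUnit _).pow _)] at h3
    rwa [← ha, Ideal.mul_unit_mem_iff_mem _ (IsLocalization.map_units M _)] at h3
  haveI : Module.Projective R Z := Module.Projective.of_free
  obtain ⟨sec, hsec⟩ := Module.projective_lifting_property φ.toLinearMap LinearMap.id hφ
  have hsec' : ∀ z, φ (sec z) = z := fun z => LinearMap.congr_fun hsec z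
  let π : M →ₗ[R] M := LinearMap.id - sec ∘ₗ φ.toLinearMap
  have hπ : ∀ y, π y ∈ RingHom.ker φ.toRingHom := fun y => by
    show φ (y - sec (φ y)) = 0
    rw [map_sub, hsec', sub_self]
  have hle : RingHom.ker φ.toRingHom ≤ m • RingHom.ker φ.toRingHom := fun y hy => by
    have hy' : y ∈ (IsLocalRing.maximalIdeal R) • (⊤ : Submodule R M) := by
      rw [Ideal.smul_top_eq_map]
      exact hNm hy
    have hkey : ∀ z ∈ (IsLocalRing.maximalIdeal R) • (⊤ : Submodule R M), π z ∈ m • RingHom.ker φ.toRingHom := by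
      intro z hz
      refine Submodule.smul_induction_on hz (fun r hr c _ => ?_) (fun u v hu hv => by rw [map_add]; exact add_mem hu hv)
      rw [map_smul, Algebra.smul_def, ← smul_eq_mul]
      exact Submodule.smul_mem_smul (Ideal.mem_map_of_mem _ hr) (hπ c)
    have := hkey y hy'
    rwa [show π y = y by
      show y - sec (φ y) = y
      rw [show φ y = 0 from hy, map_zero, sub_zero]] at this
  obtain ⟨e, he, he0⟩ := Submodule.exists_sub_one_mem_and_smul_eq_zero_of_fg_of_le_smul m _ hN hle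
  obtain ⟨⟨a, _, j, rfl⟩, ha⟩ := IsLocalization.surj (Submonoid.powers hb) e
  obtain ⟨a, rfl⟩ := Ideal.Quotient.mk_surjective a
  have hue : IsUnit (φ e) := by
    refine isUnit_of_sub_one_mem (R := R) ?_
    have := Ideal.mem_map_of_mem φ.toRingHom he
    rw [Ideal.map_map, show φ.toRingHom.comp (algebraMap R M) = algebraMap R Z from φ.comp_algebraMap] at this
    simpa using this
  have hua : IsUnit (ψ a) := by
    rw [← stageMap_mk ψ f (k := n) hf hh a]
    show IsUnit (φ (algebraMap M₀ M (Ideal.Quotient.mk _ a)))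
    rw [← ha, map_mul]
    exact hue.mul ((IsLocalization.map_units M _).map φ)
  let C := Localization.Away (h * a)
  have hCu : IsUnit (algebraMap Q C h) ∧ IsUnit (algebraMap Q C a) := by
    have := IsLocalization.Away.algebraMap_isUnit (S := C) (h * a)
    rwa [map_mul, IsUnit.mul_iff] at this
  refine ⟨h * a, by rw [map_mul]; exact hh.mul hua, fun B _ _ i x hx => ?_, fun x hx => ?_⟩
  · let v := Algebra.TensorProduct.map (AlgHom.id R B) (IsScalarTower.toAlgHom R Q C)
    let c : B ⊗[R] Q := (1 : B) ⊗ₜ[R] (h * a)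
    have hv : ∀ N : ℕ, IsUnit (v (c ^ N)) := fun N => by
      rw [map_pow, Algebra.TensorProduct.map_tmul]
      exact ((IsLocalization.Away.algebraMap_isUnit (h * a)).map
        (Algebra.TensorProduct.includeRight : C →ₐ[R] B ⊗[R] C)).pow N
    have hpre : pre (fun j => (1 : B) ⊗ₜ[R] algebraMap Q C (f j)) i =
        (pre (fun j => (1 : B) ⊗ₜ[R] f j) i).map v.toRingHom := by
      rw [map_pre]
      congr 1
    rw [hpre] at hx ⊢
    have hclear : ∀ z ∈ (pre (fun j => (1 : B) ⊗ₜ[R] f j) i).map v.toRingHom,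
        ∃ (w : B ⊗[R] Q) (N : ℕ), w ∈ pre (fun j => (1 : B) ⊗ₜ[R] f j) i ∧ z * v (c ^ N) = v w := by
      intro z hz
      refine Submodule.span_induction (p := fun z _ => ∃ (w : B ⊗[R] Q) (N : ℕ),
        w ∈ pre (fun j => (1 : B) ⊗ₜ[R] f j) i ∧ z * v (c ^ N) = v w) ?_ ⟨0, 0, zero_mem _, by simp⟩ ?_ ?_ hz
      · rintro _ ⟨w, hw, rfl⟩
        exact ⟨w, 0, hw, by simp⟩
      · rintro u z - - ⟨w, N, hw, e⟩ ⟨w', N', hw', e'⟩
        refine ⟨c ^ N' * w + c ^ N * w', N + N', add_mem (Ideal.mul_mem_left _ _ hw) (Ideal.mul_mem_left _ _ hw'), ?_⟩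
        rw [map_add, map_mul v, map_mul v, ← e, ← e', pow_add, map_mul]
        ring
      · rintro r z - ⟨w, N, hw, e⟩
        obtain ⟨r', N', hr⟩ := tensor_away_surj (M' := C) (h * a) B r
        refine ⟨r' * w, N' + N, Ideal.mul_mem_left _ _ hw, ?_⟩
        rw [map_mul v, ← hr, ← e, smul_eq_mul, pow_add, map_mul]
        ring
    obtain ⟨y, N, hy⟩ := tensor_away_surj (M' := C) (h * a) B x
    obtain ⟨w, N', hw, hw'⟩ := hclear _ hx
    have hzero : v (((1 : B) ⊗ₜ[R] f i) * c ^ N' * y - c ^ N * w) = 0 := by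
      rw [map_sub, map_mul v, map_mul v, map_mul v, ← hy, ← hw', sub_eq_zero]
      show (1 : B) ⊗ₜ[R] algebraMap Q C (f i) * _ * _ = _
      ring
    obtain ⟨N'', hN''⟩ := tensor_away_eq_zero (h * a) B _ hzero
    have hmem : ((1 : B) ⊗ₜ[R] f i) * (c ^ (N'' + N') * y) ∈ pre (fun j => (1 : B) ⊗ₜ[R] f j) i := by
      have : ((1 : B) ⊗ₜ[R] f i) * (c ^ (N'' + N') * y) = c ^ N'' * (c ^ N * w) := by
        rw [mul_sub, sub_eq_zero] at hN''
        rw [← hN'', pow_add]
        ring
      rw [this]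
      exact Ideal.mul_mem_left _ _ (Ideal.mul_mem_left _ _ hw)
    obtain ⟨L, hL⟩ := hur B i i.2 _ hmem
    have hfin : ((1 : B) ⊗ₜ[R] (h * a)) ^ L * (c ^ (N'' + N') * y) ∈ pre (fun j => (1 : B) ⊗ₜ[R] f j) i := by
      rw [show (1 : B) ⊗ₜ[R] (h * a) = ((1 : B) ⊗ₜ[R] h) * ((1 : B) ⊗ₜ[R] a) by
        rw [Algebra.TensorProduct.tmul_mul_tmul, mul_one], mul_pow, mul_comm (_ ^ L), mul_assoc]
      exact Ideal.mul_mem_left _ _ hL
    have := Ideal.mem_map_of_mem v.toRingHom hfin
    rw [AlgHom.toRingHom_eq_coe, RingHom.coe_coe, map_mul, map_mul, ← hy] at this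
    rwa [Ideal.unit_mul_mem_iff_mem _ (hv L), Ideal.unit_mul_mem_iff_mem _ (hv _),
      Ideal.mul_unit_mem_iff_mem _ (hv N)] at this
  · have hxm : algebraMap M₀ M (Ideal.Quotient.mk _ x) ∈ RingHom.ker φ.toRingHom := by
      show φ _ = 0
      rw [stageMap_mk ψ f hf hh x, hx]
    have h0 := he0 _ hxm
    rw [smul_eq_mul] at h0
    have h1 : algebraMap M₀ M (Ideal.Quotient.mk _ (a * x)) = algebraMap M₀ M 0 := by
      rw [map_mul, map_mul, ← ha, map_zero, mul_right_comm, h0, zero_mul]
    obtain ⟨N, hN⟩ := IsLocalization.Away.exists_of_eq hb h1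
    rw [mul_zero, ← map_pow, ← map_mul, Ideal.Quotient.eq_zero_iff_mem] at hN
    have := Ideal.mem_map_of_mem (algebraMap Q C) hN
    rw [map_pre, map_mul, map_mul, map_pow, Ideal.unit_mul_mem_iff_mem _ (hCu.1.pow _),
      Ideal.unit_mul_mem_iff_mem _ hCu.2] at this
    exact this

end Spread

end Groth.Agent.ArtinBoot49
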