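import Groth.Agent.ArtinBoot49.WeilHom
import Groth.Agent.ArtinBoot49.Point
import Mathlib.RingTheory.TensorProduct.IsBaseChangeFree
import Mathlib.RingTheory.TensorProduct.Free
import Mathlib.Algebra.Category.Ring.Constructions
import Mathlib.AlgebraicGeometry.Pullbacks

/-!
# Based algebras mapping into an affine scheme
-/

set_option autoImplicit false
set_option backward.isDefEq.respectTransparency false
set_option backward.isDefEq.respectTransparency.types false
set_option linter.unusedVariables false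

universe u

open Module CategoryTheory CategoryTheory.Limits AlgebraicGeometry
open scoped TensorProduct

namespace Groth.Agent.ArtinBoot49

section Ring

variable {B B' B'' : Type u} [CommRing B] [CommRing B'] [CommRing B''] {d : ℕ}

/-- The comparison map to an equal structure. -/
noncomputable def AlgStr.mapHom (s : AlgStr B d) (s' : AlgStr B' d) (φ : B →+* B') (h : s.map φ = s') :
    s.Carrier →+* s'.Carrier :=
  h ▸ s.push φ

theorem AlgStr.coord_mapHom {s : AlgStr B d} {s' : AlgStr B' d} {φ : B →+* B'} (h : s.map φ = s') (x : s.Carrier)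
    (m : Fin d) : s'.coord (s.mapHom s' φ h x) m = φ (s.coord x m) := by
  subst h
  exact s.coord_push φ x m

theorem AlgStr.mapHom_comp_algebraMap {s : AlgStr B d} {s' : AlgStr B' d} {φ : B →+* B'} (h : s.map φ = s') :
    (s.mapHom s' φ h).comp (algebraMap B s.Carrier) = (algebraMap B' s'.Carrier).comp φ := by
  subst h
  ext b
  show s.push φ (algebraMap B s.Carrier b) = algebraMap B' (s.map φ).Carrier (φ b)
  rw [Algebra.algebraMap_eq_smul_one, Algebra.algebraMap_eq_smul_one, AlgStr.push_smul, map_one]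

theorem AlgStr.mapHom_trans {s : AlgStr B d} {s' : AlgStr B' d} {s'' : AlgStr B'' d} {φ : B →+* B'}
    {ψ : B' →+* B''} {χ : B →+* B''} (h : s.map φ = s') (h' : s'.map ψ = s'') (h'' : s.map χ = s'')
    (e : ψ.comp φ = χ) : (s'.mapHom s'' ψ h').comp (s.mapHom s' φ h) = s.mapHom s'' χ h'' := by
  refine RingHom.ext fun x => AlgStr.ext' _ fun m => ?_
  rw [RingHom.comp_apply, AlgStr.coord_mapHom, AlgStr.coord_mapHom, AlgStr.coord_mapHom, ← e, RingHom.comp_apply]

/-- Based algebras base change to pushouts. -/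
theorem AlgStr.isPushout_mapHom (s : AlgStr B d) (s' : AlgStr B' d) (φ : B →+* B') (h : s.map φ = s') :
    IsPushout (CommRingCat.ofHom φ) (CommRingCat.ofHom (algebraMap B s.Carrier))
      (CommRingCat.ofHom (algebraMap B' s'.Carrier)) (CommRingCat.ofHom (s.mapHom s' φ h)) := by
  subst h
  letI := φ.toAlgebra
  letI := (s.push φ).toAlgebra
  haveI : IsScalarTower B s.Carrier (s.map φ).Carrier := IsScalarTower.of_algebraMap_eq fun x =>
    (IsScalarTower.algebraMap_apply B B' (s.map φ).Carrier x).trans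
      (RingHom.congr_fun (AlgStr.mapHom_comp_algebraMap (s := s) (φ := φ) rfl) x).symm
  haveI : Algebra.IsPushout B B' s.Carrier (s.map φ).Carrier := ⟨by
    refine IsBaseChange.of_equiv ((Algebra.TensorProduct.basis B' s.basis).equiv (s.map φ).basis (Equiv.refl _))
      fun x => ?_
    show _ = s.push φ x
    conv_rhs => rw [← s.sum_basis x, map_sum]
    conv_lhs => rw [← s.sum_basis x, TensorProduct.tmul_sum, map_sum]
    refine Finset.sum_congr rfl fun i _ => ?_
    rw [AlgStr.push_smul, AlgStr.push_basis, TensorProduct.tmul_smul]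
    rw [← algebraMap_smul B' (s.coord x i) ((1 : B') ⊗ₜ[B] s.basis i), map_smul,
      ← Algebra.TensorProduct.basis_apply, Basis.equiv_apply, Equiv.refl_apply]
    rfl⟩
  exact CommRingCat.isPushout_of_isPushout B B' s.Carrier (s.map φ).Carrier

end Ring

variable {S : Scheme.{u}} {A : Type u} [CommRing A] (j : Spec (CommRingCat.of A) ⟶ S) [IsOpenImmersion j] (d : ℕ)

variable (A) in
/-- The coordinate ring of based algebras. -/
abbrev R₀ : Type u := W (A := A) (ι := Fin 0) d (∅ : Finset (MvPolynomial (Fin 0) A))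

variable (A) in
/-- The universal based algebra. -/
noncomputable abbrev str₀ : AlgStr (R₀ A d) d := str (A := A) (ι := Fin 0) d (∅ : Finset (MvPolynomial (Fin 0) A))

/-- The trivial presentation of the base. -/
noncomputable abbrev π₀ : MvPolynomial (Fin 0) A →ₐ[A] A := (MvPolynomial.isEmptyAlgEquiv A (Fin 0)).toAlgHom

theorem π₀_surjective : Function.Surjective (π₀ (A := A)) := (MvPolynomial.isEmptyAlgEquiv A (Fin 0)).surjective

theorem ker_π₀ : RingHom.ker (π₀ (A := A)).toRingHom =
    Ideal.span ((∅ : Finset (MvPolynomial (Fin 0) A)) : Set (MvPolynomial (Fin 0) A)) := by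
  rw [Finset.coe_empty, Ideal.span_empty]
  exact (RingHom.injective_iff_ker_eq_bot _).1 (MvPolynomial.isEmptyAlgEquiv A (Fin 0)).injective

/-- Classifying based algebras. -/
theorem exists_str₀ {B : Type u} [CommRing B] [Algebra A B] (s : AlgStr B d) :
    ∃ φ : R₀ A d →ₐ[A] B, (str₀ A d).map φ.toRingHom = s := by
  obtain ⟨φ, hc, hu, -⟩ := exists_hom (A := A) (d := d) π₀ π₀_surjective ker_π₀ s.basis (Algebra.ofId A s.Carrier)
  refine ⟨φ, AlgStr.ext (funext fun i => funext fun j => funext fun k => ?_) (funext fun i => ?_)⟩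
  · show φ ((str₀ A d).c i j k) = s.c i j k
    rw [hc]
    show s.coord (s.mulB (s.basis i) (s.basis j)) k = s.c i j k
    rw [AlgStr.mulB_basis, LinearEquiv.apply_symm_apply]
  · show φ ((str₀ A d).u i) = s.u i
    rw [hu]
    rfl

theorem str₀_ext {B : Type u} [CommRing B] [Algebra A B] {φ φ' : R₀ A d →ₐ[A] B}
    (h : (str₀ A d).map φ.toRingHom = (str₀ A d).map φ'.toRingHom) : φ = φ' := by
  refine hom_ext (A := A) (d := d) π₀ π₀_surjective ker_π₀
    (fun i j k => congrFun (congrFun (congrFun (congrArg AlgStr.c h) i) j) k)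
    (fun i => congrFun (congrArg AlgStr.u h) i) fun p m => ?_
  rw [show p = algebraMap A A p from rfl, AlgHom.commutes, Algebra.algebraMap_eq_smul_one]
  show φ (p • (str₀ A d).u m) = φ' (p • (str₀ A d).u m)
  rw [map_smul, map_smul]
  exact congrArg (p • ·) (congrFun (congrArg AlgStr.u h) m)

variable {P : Type u} [CommRing P] [Algebra A P] {ι : Type} [Fintype ι] {F : Finset (MvPolynomial ι A)}
  (π : MvPolynomial ι A →ₐ[A] P) (hπ : Function.Surjective π)
  (hker : RingHom.ker π.toRingHom = Ideal.span (F : Set (MvPolynomial ι A)))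
  {G : Over S} (ιG : Spec (CommRingCat.of P) ⟶ G.left)
  (sqG : IsPullback ιG (Spec.map (CommRingCat.ofHom (algebraMap A P))) G.hom j)

/-- Schemes over `S` from algebras over `A`. -/
noncomputable abbrev ov (B : Type u) [CommRing B] [Algebra A B] : Over S :=
  Over.mk (Spec.map (CommRingCat.ofHom (algebraMap A B)) ≫ j)

/-- A morphism of `ov`'s. -/
noncomputable abbrev ovMap {B B' : Type u} [CommRing B] [Algebra A B] [CommRing B'] [Algebra A B'] (φ : B →+* B')
    (hφ : φ.comp (algebraMap A B) = algebraMap A B') : ov j B' ⟶ ov j B :=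
  Over.homMk (Spec.map (CommRingCat.ofHom φ)) (by
    show Spec.map _ ≫ Spec.map _ ≫ j = Spec.map _ ≫ j
    rw [← Category.assoc, ← Spec.map_comp, ← CommRingCat.ofHom_comp, hφ])

theorem isPullback_ovMap {B B' : Type u} [CommRing B] [Algebra A B] [CommRing B'] [Algebra A B'] (s : AlgStr B d)
    (s' : AlgStr B' d) (φ : B →+* B') (hφ : φ.comp (algebraMap A B) = algebraMap A B') (h : s.map φ = s')
    (hm : (s.mapHom s' φ h).comp (algebraMap A s.Carrier) = algebraMap A s'.Carrier) :
    IsPullback (ovMap j (algebraMap B' s'.Carrier) (IsScalarTower.algebraMap_eq A B' s'.Carrier).symm)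
      (ovMap j (s.mapHom s' φ h) hm) (ovMap j φ hφ)
      (ovMap j (algebraMap B s.Carrier) (IsScalarTower.algebraMap_eq A B s.Carrier).symm) := by
  have sq := isPullback_SpecMap_of_isPushout _ _ _ _ (s.isPushout_mapHom s' φ h)
  exact IsPullback.of_map (Over.forget S) (Over.OverMorphism.ext sq.w) sq

theorem mapHom_algebraMap {B B' : Type u} [CommRing B] [Algebra A B] [CommRing B'] [Algebra A B'] (s : AlgStr B d)
    (s' : AlgStr B' d) (φ : B →+* B') (hφ : φ.comp (algebraMap A B) = algebraMap A B') (h : s.map φ = s') :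
    (s.mapHom s' φ h).comp (algebraMap A s.Carrier) = algebraMap A s'.Carrier := by
  rw [IsScalarTower.algebraMap_eq A B s.Carrier, ← RingHom.comp_assoc, AlgStr.mapHom_comp_algebraMap,
    RingHom.comp_assoc, hφ, ← IsScalarTower.algebraMap_eq]

/-- The universal map to `G`. -/
noncomputable def σW : ov j (str d F).Carrier ⟶ G :=
  Over.homMk (Spec.map (CommRingCat.ofHom (univ (d := d) π hπ hker).toRingHom) ≫ ιG) (by
    show (_ ≫ ιG) ≫ G.hom = Spec.map _ ≫ j
    rw [Category.assoc, sqG.w, ← Category.assoc, ← Spec.map_comp, ← CommRingCat.ofHom_comp,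
      AlgHom.toRingHom_eq_coe, AlgHom.comp_algebraMap])

/-- The map to `G` of a point of `W d F`. -/
noncomputable abbrev ptMap {B : Type u} [CommRing B] [Algebra A B] (s₀ : AlgStr B d) (φ : W d F →ₐ[A] B)
    (h : (str d F).map φ.toRingHom = s₀) : ov j s₀.Carrier ⟶ G :=
  ovMap j ((str d F).mapHom s₀ φ.toRingHom h) (mapHom_algebraMap d (str d F) s₀ φ.toRingHom φ.comp_algebraMap h) ≫
    σW j d π hπ hker ιG sqG

theorem ptMap_left {B : Type u} [CommRing B] [Algebra A B] (s₀ : AlgStr B d) (φ : W d F →ₐ[A] B)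
    (h : (str d F).map φ.toRingHom = s₀) : (ptMap j d π hπ hker ιG sqG s₀ φ h).left =
      Spec.map (CommRingCat.ofHom (((str d F).mapHom s₀ φ.toRingHom h).comp (univ π hπ hker).toRingHom)) ≫ ιG := by
  rw [CommRingCat.ofHom_comp, Spec.map_comp, Category.assoc]
  rfl

include sqG in
theorem exists_alg_of_hom {B : Type u} [CommRing B] [Algebra A B] (s : ov j B ⟶ G) :
    ∃ ψ : P →ₐ[A] B, Spec.map (CommRingCat.ofHom ψ.toRingHom) ≫ ιG = s.left := by
  let ξ : Spec (CommRingCat.of B) ⟶ Spec (CommRingCat.of P) :=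
    sqG.lift s.left (Spec.map (CommRingCat.ofHom (algebraMap A B))) (Over.w s)
  obtain ⟨ψ₀, hψ₀⟩ := Spec.map_surjective ξ
  have e : CommRingCat.ofHom (algebraMap A P) ≫ ψ₀ = CommRingCat.ofHom (algebraMap A B) :=
    Spec.map_injective (by rw [Spec.map_comp, hψ₀]; exact sqG.lift_snd _ _ _)
  exact ⟨{ ψ₀.hom with commutes' := fun a => congrArg (fun q : _ ⟶ CommRingCat.of B => q.hom a) e },
    (congrArg (fun z => z ≫ ιG) hψ₀).trans (sqG.lift_fst _ _ _)⟩

include sqG in
theorem alg_ext {B : Type u} [CommRing B] [Algebra A B] {ψ ψ' : P →ₐ[A] B}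
    (h : Spec.map (CommRingCat.ofHom ψ.toRingHom) ≫ ιG = Spec.map (CommRingCat.ofHom ψ'.toRingHom) ≫ ιG) :
    ψ = ψ' := by
  have e : Spec.map (CommRingCat.ofHom ψ.toRingHom) = Spec.map (CommRingCat.ofHom ψ'.toRingHom) := by
    refine sqG.hom_ext h ?_
    rw [← Spec.map_comp, ← Spec.map_comp, ← CommRingCat.ofHom_comp, ← CommRingCat.ofHom_comp,
      AlgHom.toRingHom_eq_coe, AlgHom.toRingHom_eq_coe, AlgHom.comp_algebraMap, AlgHom.comp_algebraMap]
  exact AlgHom.ext fun p => congrArg (fun q : _ ⟶ CommRingCat.of B => q.hom p) (Spec.map_injective e)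

theorem pt_injective {B : Type u} [CommRing B] [Algebra A B] (s₀ : AlgStr B d) {φ φ' : W d F →ₐ[A] B}
    (h : (str d F).map φ.toRingHom = s₀) (h' : (str d F).map φ'.toRingHom = s₀)
    (e : ptMap j d π hπ hker ιG sqG s₀ φ h = ptMap j d π hπ hker ιG sqG s₀ φ' h') : φ = φ' := by
  have hl := congrArg Over.Hom.left e
  rw [ptMap_left, ptMap_left] at hl
  let ψ : P →ₐ[A] s₀.Carrier := { ((str d F).mapHom s₀ φ.toRingHom h).comp (univ π hπ hker).toRingHom with
    commutes' := fun a => by
      have := RingHom.congr_fun (mapHom_algebraMap d (str d F) s₀ φ.toRingHom φ.comp_algebraMap h) a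
      rw [← this]
      exact congrArg ((str d F).mapHom s₀ φ.toRingHom h) ((univ π hπ hker).commutes a) }
  let ψ' : P →ₐ[A] s₀.Carrier := { ((str d F).mapHom s₀ φ'.toRingHom h').comp (univ π hπ hker).toRingHom with
    commutes' := fun a => by
      have := RingHom.congr_fun (mapHom_algebraMap d (str d F) s₀ φ'.toRingHom φ'.comp_algebraMap h') a
      rw [← this]
      exact congrArg ((str d F).mapHom s₀ φ'.toRingHom h') ((univ π hπ hker).commutes a) }
  have he : ψ = ψ' := alg_ext j ιG sqG hl
  refine hom_ext π hπ hker (fun i k m => ?_) (fun i => ?_) fun p m => ?_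
  · exact congrFun (congrFun (congrFun (congrArg AlgStr.c (h.trans h'.symm)) i) k) m
  · exact congrFun (congrArg AlgStr.u (h.trans h'.symm)) i
  · have h1 := congrArg (fun z : P →ₐ[A] s₀.Carrier => s₀.coord (z p) m) he
    exact ((AlgStr.coord_mapHom h _ m).symm.trans h1).trans (AlgStr.coord_mapHom h' _ m)

theorem pt_surjective {B : Type u} [CommRing B] [Algebra A B] (s₀ : AlgStr B d) (s : ov j s₀.Carrier ⟶ G) :
    ∃ (φ : W d F →ₐ[A] B) (h : (str d F).map φ.toRingHom = s₀), ptMap j d π hπ hker ιG sqG s₀ φ h = s := by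
  obtain ⟨ψ, hψ⟩ := exists_alg_of_hom j ιG sqG s
  obtain ⟨φ, hc, hu, hev⟩ := exists_hom (A := A) (d := d) π hπ hker s₀.basis ψ
  have h : (str d F).map φ.toRingHom = s₀ := by
    refine AlgStr.ext (funext fun i => funext fun k => funext fun m => ?_) (funext fun i => ?_)
    · show φ ((str d F).c i k m) = s₀.c i k m
      rw [hc]
      show s₀.coord (s₀.mulB (s₀.basis i) (s₀.basis k)) m = s₀.c i k m
      rw [AlgStr.mulB_basis, LinearEquiv.apply_symm_apply]
    · show φ ((str d F).u i) = s₀.u i
      rw [hu]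
      rfl
  refine ⟨φ, h, Over.OverMorphism.ext ?_⟩
  rw [ptMap_left, ← hψ]
  congr 3
  refine RingHom.ext fun p => AlgStr.ext' _ fun m => ?_
  exact (AlgStr.coord_mapHom h _ m).trans (hev p m)

end Groth.Agent.ArtinBoot49
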