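import Groth.Agent.ArtinBoot49.FreeAtlas

/-!
# Schemes of maps from the fibres of a cover to a group
-/

set_option autoImplicit false
set_option backward.isDefEq.respectTransparency false
set_option backward.isDefEq.respectTransparency.types false
set_option linter.unusedVariables false

universe u

open CategoryTheory CategoryTheory.Functor CategoryTheory.Limits MonoidalCategory CartesianMonoidalCategory MonObj
open AlgebraicGeometry AlgSp Groth.Agent.AlgSpLib Groth.Agent.GrpSchLib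

namespace Groth.Agent.ArtinBoot49

variable {S : Scheme.{u}}

/-- A scheme over `R` parametrising maps from the fibres of `Z ⟶ R` to `G`. -/
structure WR (G : Over S) where
  /-- the base -/
  R : Over S
  /-- the cover -/
  Z : Over S
  /-- the covering map -/
  f : Z ⟶ R
  flat : Flat f.left
  lfp : LocallyOfFinitePresentation f.left
  surj : Surjective f.left
  /-- the parametrising scheme -/
  W : Over S
  /-- its structure map -/
  t : W ⟶ R
  /-- the universal map -/
  σ : pullback t f ⟶ G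
  univ : ∀ {T : Over S} (t' : T ⟶ R), Function.Bijective fun g : {g : T ⟶ W // g ≫ t = t'} =>
    (pullback.lift (pullback.fst t' f ≫ g.1) (pullback.snd t' f)
      (by rw [Category.assoc, g.2, pullback.condition]) ≫ σ)

namespace WR

variable {G : Over S} (w : WR G)

/-- The map from the fibres attached to a point. -/
noncomputable def res {T : Over S} (t' : T ⟶ w.R) (g : T ⟶ w.W) (h : g ≫ w.t = t') : pullback t' w.f ⟶ G :=
  pullback.lift (pullback.fst t' w.f ≫ g) (pullback.snd t' w.f) (by rw [Category.assoc, h, pullback.condition]) ≫ w.σ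

theorem res_inj {T : Over S} {t' : T ⟶ w.R} {g g' : T ⟶ w.W} (h : g ≫ w.t = t') (h' : g' ≫ w.t = t')
    (e : w.res t' g h = w.res t' g' h') : g = g' :=
  congrArg Subtype.val ((w.univ t').1 (a₁ := ⟨g, h⟩) (a₂ := ⟨g', h'⟩) e)

theorem res_surj {T : Over S} (t' : T ⟶ w.R) (s : pullback t' w.f ⟶ G) :
    ∃ (g : T ⟶ w.W) (h : g ≫ w.t = t'), w.res t' g h = s := by
  obtain ⟨⟨g, h⟩, e⟩ := (w.univ t').2 s
  exact ⟨g, h, e⟩

/-- Base change of the fibres. -/
noncomputable def bc {T T' : Over S} (k : T' ⟶ T) (t' : T ⟶ w.R) : pullback (k ≫ t') w.f ⟶ pullback t' w.f :=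
  pullback.lift (pullback.fst _ _ ≫ k) (pullback.snd _ _) (by rw [Category.assoc, pullback.condition])

theorem res_comp {T T' : Over S} (k : T' ⟶ T) (t' : T ⟶ w.R) (g : T ⟶ w.W) (h : g ≫ w.t = t') :
    w.res (k ≫ t') (k ≫ g) (by rw [Category.assoc, h]) = w.bc k t' ≫ w.res t' g h := by
  rw [res, res, ← Category.assoc (w.bc k t')]
  congr 1
  apply pullback.hom_ext <;> simp [bc]

theorem res_congr {T : Over S} {t' : T ⟶ w.R} {g₁ g₂ : T ⟶ w.W} (hg : g₁ = g₂)
    (h₁ : g₁ ≫ w.t = t') (h₂ : g₂ ≫ w.t = t') : w.res t' g₁ h₁ = w.res t' g₂ h₂ := by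
  subst hg; rfl

variable [GrpObj G]

theorem exists_act : ∃ (m : G ⊗ w.W ⟶ w.W) (h : m ≫ w.t = snd G w.W ≫ w.t),
    w.res _ m h = (pullback.fst (snd G w.W ≫ w.t) w.f ≫ fst G w.W) * w.res _ (snd G w.W) rfl :=
  w.res_surj _ _

/-- Left translation. -/
noncomputable def m : G ⊗ w.W ⟶ w.W := w.exists_act.choose

theorem m_t : w.m ≫ w.t = snd G w.W ≫ w.t := w.exists_act.choose_spec.choose

theorem res_m : w.res _ w.m w.m_t =
    (pullback.fst (snd G w.W ≫ w.t) w.f ≫ fst G w.W) * w.res _ (snd G w.W) rfl :=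
  w.exists_act.choose_spec.choose_spec

theorem res_comp_m {T : Over S} (r : T ⟶ G ⊗ w.W) (t' : T ⟶ w.R) (h : (r ≫ snd G w.W) ≫ w.t = t') :
    w.res t' (r ≫ w.m) (by rw [Category.assoc, w.m_t, ← h, Category.assoc]) =
      (pullback.fst t' w.f ≫ r ≫ fst G w.W) * w.res t' (r ≫ snd G w.W) h := by
  have h' : r ≫ snd G w.W ≫ w.t = t' := (Category.assoc _ _ _).symm.trans h
  subst h'
  rw [res_comp w r _ w.m w.m_t, res_m, MonObj.comp_mul, res_comp w r _ (snd G w.W) rfl]
  simp [bc]

theorem one_act : (η[G] ▷ w.W) ≫ w.m = (λ_ w.W).hom := by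
  let t' := ((η[G] ▷ w.W) ≫ snd G w.W) ≫ w.t
  have hs : (η[G] ▷ w.W) ≫ snd G w.W = (λ_ w.W).hom := by rw [whiskerRight_snd, leftUnitor_hom]
  have h₂ : (λ_ w.W).hom ≫ w.t = t' := by simp only [t', hs]
  refine w.res_inj (t' := t') (by rw [Category.assoc, w.m_t, ← Category.assoc]) h₂ ?_
  rw [res_comp_m w (η[G] ▷ w.W) t' rfl]
  have e : pullback.fst t' w.f ≫ (η[G] ▷ w.W) ≫ fst G w.W = 1 := by
    rw [whiskerRight_fst, ← Category.assoc]
    exact congrArg (· ≫ η[G]) (toUnit_unique _ _)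
  rw [e, _root_.one_mul, w.res_congr hs rfl h₂]

theorem mul_act : (μ[G] ▷ w.W) ≫ w.m = (α_ G G w.W).hom ≫ (G ◁ w.m) ≫ w.m := by
  let t' := ((μ[G] ▷ w.W) ≫ snd G w.W) ≫ w.t
  let r := (α_ G G w.W).hom ≫ (G ◁ w.m)
  let r' := (α_ G G w.W).hom ≫ snd G (G ⊗ w.W)
  have hr₂ : r ≫ snd G w.W = r' ≫ w.m := by simp [r, r']
  have ht₂ : (r ≫ snd G w.W) ≫ w.t = t' := by
    rw [hr₂, Category.assoc, w.m_t]; simp [t', r']
  have ht₃ : (r' ≫ snd G w.W) ≫ w.t = t' := by simp [t', r']
  rw [← Category.assoc (α_ G G w.W).hom]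
  refine w.res_inj (t' := t') (by rw [Category.assoc, w.m_t]; simp [t'])
    (by rw [Category.assoc, w.m_t, ← Category.assoc]; exact ht₂) ?_
  rw [res_comp_m w (μ[G] ▷ w.W) t' rfl, res_comp_m w r t' ht₂]
  rw [w.res_congr hr₂ ht₂ (hr₂ ▸ ht₂), res_comp_m w r' t' ht₃, ← _root_.mul_assoc]
  congr 1
  · rw [← MonObj.comp_mul, whiskerRight_fst, MonObj.mul_eq_mul]
    congr 1
    simp [r, r', MonObj.comp_mul]
  · exact w.res_congr (by simp [r']) rfl ht₃

/-- Left translation as an action. -/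
noncomputable def act : AlgGrp.Action G w.W := ⟨w.m, w.one_act, w.mul_act⟩

theorem isFree : IsFree w.act := by
  intro T g x hx
  let t' := x ≫ w.t
  have key := res_comp_m w (lift g x) t' (by rw [lift_snd])
  rw [w.res_congr (show lift g x ≫ w.m = x from hx) _ (show x ≫ w.t = t' from rfl),
    w.res_congr (lift_snd g x) _ (show x ≫ w.t = t' from rfl), lift_fst] at key
  have h1 : pullback.fst t' w.f ≫ g = 1 := right_eq_mul.1 key
  have := w.flat; have := w.lfp; have := w.surj
  have sq := (IsPullback.of_hasPullback t' w.f).map (Over.forget S)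
  have : Flat (pullback.fst t' w.f).left := MorphismProperty.of_isPullback sq.flip ‹Flat w.f.left›
  have : LocallyOfFinitePresentation (pullback.fst t' w.f).left :=
    MorphismProperty.of_isPullback sq.flip ‹LocallyOfFinitePresentation w.f.left›
  have : Surjective (pullback.fst t' w.f).left := MorphismProperty.of_isPullback sq.flip ‹Surjective w.f.left›
  refine (yon S).map_injective (hom_ext_of_fppf (pullback.fst t' w.f) (fppf_of _) _ _ ?_)
  rw [← Functor.map_comp, ← Functor.map_comp, h1, MonObj.one_eq_one]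
  congr 1
  rw [← Category.assoc]
  exact congrArg (· ≫ η[G]) (toUnit_unique _ _)

end WR

end Groth.Agent.ArtinBoot49
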