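import Groth.Agent.ArtinBoot49.WeilAffine
import Mathlib.RingTheory.Finiteness.ModuleFinitePresentation
import Mathlib.RingTheory.Ideal.GoingUp

/-!
# The scheme of based algebras with a map into an affine group
-/

set_option autoImplicit false
set_option backward.isDefEq.respectTransparency false
set_option backward.isDefEq.respectTransparency.types false
set_option linter.unusedVariables false

universe u

open Module CategoryTheory CategoryTheory.Limits AlgebraicGeometry
open scoped TensorProduct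

namespace Groth.Agent.ArtinBoot49

section Glue

variable {S : Scheme.{u}} {R Z W G : Over S} {t : W ⟶ R} {f : Z ⟶ R} (σ : pullback t f ⟶ G)

/-- The map from the fibres attached to a point. -/
noncomputable def resMap {T : Over S} (t' : T ⟶ R) (g : T ⟶ W) (h : g ≫ t = t') : pullback t' f ⟶ G :=
  pullback.lift (pullback.fst t' f ≫ g) (pullback.snd t' f) (by rw [Category.assoc, h, pullback.condition]) ≫ σ

/-- Base change of fibres. -/
noncomputable def bcMap (f : Z ⟶ R) {T T' : Over S} (k : T' ⟶ T) {t' : T ⟶ R} {t'' : T' ⟶ R}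
    (h : k ≫ t' = t'') : pullback t'' f ⟶ pullback t' f :=
  pullback.lift (pullback.fst _ _ ≫ k) (pullback.snd _ _) (by rw [Category.assoc, h, pullback.condition])

theorem bcMap_trans {T T' T'' : Over S} {k : T' ⟶ T} {k' : T'' ⟶ T'} {k'' : T'' ⟶ T} (hk : k' ≫ k = k'')
    {t₀ : T ⟶ R} {t₁ : T' ⟶ R} {t₂ : T'' ⟶ R} (h : k ≫ t₀ = t₁) (h' : k' ≫ t₁ = t₂) :
    bcMap f k' h' ≫ bcMap f k h = bcMap f k'' (show k'' ≫ t₀ = t₂ by rw [← hk, Category.assoc, h, h']) := by
  subst hk
  apply pullback.hom_ext <;> simp [bcMap]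

theorem resMap_bc {T T' : Over S} (k : T' ⟶ T) {t' : T ⟶ R} {t'' : T' ⟶ R} (h : k ≫ t' = t'') (g : T ⟶ W)
    (hg : g ≫ t = t') :
    resMap σ t'' (k ≫ g) (by rw [Category.assoc, hg, h]) = bcMap f k h ≫ resMap σ t' g hg := by
  rw [resMap, resMap, ← Category.assoc (bcMap f k h)]
  congr 1
  apply pullback.hom_ext <;> simp [bcMap]

/-- Bijectivity on test schemes with affine source spreads to all test schemes. -/
theorem bijective_of_affine
    (H : ∀ (B : CommRingCat.{u}) (T : Over S) (hT : T.left = Spec B) (t' : T ⟶ R),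
      Function.Bijective fun g : {g : T ⟶ W // g ≫ t = t'} => resMap σ t' g.1 g.2)
    {T : Over S} (t' : T ⟶ R) :
    Function.Bijective fun g : {g : T ⟶ W // g ≫ t = t'} => resMap σ t' g.1 g.2 := by
  have inj : ∀ {T : Over S} (t' : T ⟶ R) (g g' : T ⟶ W) (hg : g ≫ t = t') (hg' : g' ≫ t = t'),
      resMap σ t' g hg = resMap σ t' g' hg' → g = g' := by
    intro T t' g g' hg hg' e
    refine Over.OverMorphism.ext (Scheme.Cover.hom_ext T.left.affineCover _ _ fun i => ?_)
    let k : Over.mk (T.left.affineCover.f i ≫ T.hom) ⟶ T := Over.homMk (T.left.affineCover.f i) rfl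
    have := (H _ (Over.mk (T.left.affineCover.f i ≫ T.hom)) rfl (k ≫ t')).1
      (a₁ := ⟨k ≫ g, by rw [Category.assoc, hg]⟩) (a₂ := ⟨k ≫ g', by rw [Category.assoc, hg']⟩)
      (by simp only; rw [resMap_bc σ k rfl g hg, resMap_bc σ k rfl g' hg', e])
    exact congrArg (fun q => q.1.left) this
  refine ⟨fun g g' e => Subtype.ext (inj t' g.1 g'.1 g.2 g'.2 e), fun s => ?_⟩
  let c := T.left.affineCover
  let Ti : c.I₀ → Over S := fun i => Over.mk (c.f i ≫ T.hom)
  let k : ∀ i, Ti i ⟶ T := fun i => Over.homMk (c.f i) rfl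
  choose g hg using fun i => (H _ (Ti i) rfl (k i ≫ t')).2 (bcMap f (k i) rfl ≫ s)
  have hcompat : ∀ i i', pullback.fst (c.f i) (c.f i') ≫ (g i).1.left = pullback.snd _ _ ≫ (g i').1.left := by
    intro i i'
    let Q : Over S := Over.mk (pullback.fst (c.f i) (c.f i') ≫ (Ti i).hom)
    let a : Q ⟶ Ti i := Over.homMk (pullback.fst _ _) rfl
    let b : Q ⟶ Ti i' := Over.homMk (pullback.snd _ _) (by
      show pullback.snd _ _ ≫ c.f i' ≫ T.hom = pullback.fst _ _ ≫ c.f i ≫ T.hom
      rw [pullback.condition_assoc])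
    have hab : a ≫ k i = b ≫ k i' := Over.OverMorphism.ext pullback.condition
    have h₂ : b ≫ (k i' ≫ t') = a ≫ k i ≫ t' := by rw [← Category.assoc, ← hab, Category.assoc]
    have := inj (a ≫ k i ≫ t') (a ≫ (g i).1) (b ≫ (g i').1) (by rw [Category.assoc, (g i).2])
      (by rw [Category.assoc, (g i').2, h₂]) (by
        rw [resMap_bc σ a rfl _ (g i).2, resMap_bc σ b h₂ _ (g i').2,
          show resMap σ (k i ≫ t') (g i).1 (g i).2 = bcMap f (k i) rfl ≫ s from hg i,
          show resMap σ (k i' ≫ t') (g i').1 (g i').2 = bcMap f (k i') rfl ≫ s from hg i']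
        exact (Category.assoc _ _ _).symm.trans ((congrArg (· ≫ s)
          ((bcMap_trans (f := f) (k'' := a ≫ k i) rfl _ _).trans (bcMap_trans (f := f) hab.symm _ _).symm)).trans
          (Category.assoc _ _ _)))
    exact congrArg (fun q : Q ⟶ W => q.left) this
  let G₀ := Scheme.Cover.glueMorphisms c (fun i => (g i).1.left) hcompat
  have hG : ∀ i, c.f i ≫ G₀ = (g i).1.left := fun i => Scheme.Cover.ι_glueMorphisms _ _ _ i
  let gg : T ⟶ W := Over.homMk G₀ (Scheme.Cover.hom_ext c _ _ fun i => by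
    rw [← Category.assoc, hG]; exact Over.w (g i).1)
  have hk : ∀ i, k i ≫ gg = (g i).1 := fun i => Over.OverMorphism.ext (hG i)
  have hgt : gg ≫ t = t' := by
    refine Over.OverMorphism.ext (Scheme.Cover.hom_ext c _ _ fun i => ?_)
    exact congrArg (fun q : Ti i ⟶ R => q.left) (show k i ≫ gg ≫ t = k i ≫ t' by rw [← Category.assoc, hk, (g i).2])
  refine ⟨⟨gg, hgt⟩, Over.OverMorphism.ext (Scheme.Cover.hom_ext (c.pullback₁ (pullback.fst t' f).left) _ _ fun i => ?_)⟩
  let Q : Over S := Over.mk (pullback.fst (pullback.fst t' f).left (c.f i) ≫ (pullback t' f).hom)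
  let q : Q ⟶ pullback t' f := Over.homMk (pullback.fst _ _) rfl
  let q₁ : Q ⟶ Ti i := Over.homMk (pullback.snd (pullback.fst t' f).left (c.f i)) (by
    show pullback.snd _ _ ≫ c.f i ≫ T.hom = pullback.fst _ _ ≫ (pullback t' f).hom
    rw [← Category.assoc, ← pullback.condition, Category.assoc, Over.w])
  have hqq : q₁ ≫ k i = q ≫ pullback.fst t' f := Over.OverMorphism.ext pullback.condition.symm
  let l : Q ⟶ pullback (k i ≫ t') f := pullback.lift q₁ (q ≫ pullback.snd t' f) (by
    rw [← Category.assoc, hqq, Category.assoc, Category.assoc, pullback.condition])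
  have hl : l ≫ bcMap f (k i) rfl = q := by
    apply pullback.hom_ext <;> simp [l, bcMap, hqq]
  refine congrArg (fun z : Q ⟶ G => z.left) (show q ≫ resMap σ t' gg hgt = q ≫ s from ?_)
  rw [← hl, Category.assoc, Category.assoc, ← resMap_bc σ (k i) rfl gg hgt,
    ← show resMap σ (k i ≫ t') (g i).1 (g i).2 = bcMap f (k i) rfl ≫ s from hg i]
  congr 2
  exact hk i

end Glue

variable {S : Scheme.{u}} {A : Type u} [CommRing A] (j : Spec (CommRingCat.of A) ⟶ S) [IsOpenImmersion j] (d : ℕ)
variable {P : Type u} [CommRing P] [Algebra A P] {ι : Type} [Fintype ι] {F : Finset (MvPolynomial ι A)}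
  (π : MvPolynomial ι A →ₐ[A] P) (hπ : Function.Surjective π)
  (hker : RingHom.ker π.toRingHom = Ideal.span (F : Set (MvPolynomial ι A)))
  {G : Over S} (ιG : Spec (CommRingCat.of P) ⟶ G.left)
  (sqG : IsPullback ιG (Spec.map (CommRingCat.ofHom (algebraMap A P))) G.hom j)

theorem exists_ovMap {B B' : Type u} [CommRing B] [Algebra A B] [CommRing B'] [Algebra A B']
    (g : ov j B' ⟶ ov j B) : ∃ φ : B →ₐ[A] B', g = ovMap j φ.toRingHom φ.comp_algebraMap := by
  obtain ⟨φ₀, hφ₀⟩ := Spec.map_surjective g.left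
  have hw : Spec.map φ₀ ≫ Spec.map (CommRingCat.ofHom (algebraMap A B)) =
      Spec.map (CommRingCat.ofHom (algebraMap A B')) := by
    rw [hφ₀, ← cancel_mono j, Category.assoc]
    exact Over.w g
  rw [← Spec.map_comp] at hw
  refine ⟨{ φ₀.hom with commutes' := fun a => congrArg (fun q : _ ⟶ CommRingCat.of B' => q.hom a) (Spec.map_injective hw) },
    Over.OverMorphism.ext hφ₀.symm⟩

theorem ovMap_injective {B B' : Type u} [CommRing B] [Algebra A B] [CommRing B'] [Algebra A B'] {φ φ' : B →ₐ[A] B'}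
    (h : ovMap j φ.toRingHom φ.comp_algebraMap = ovMap j φ'.toRingHom φ'.comp_algebraMap) : φ = φ' :=
  AlgHom.ext fun b => congrArg (fun q : _ ⟶ CommRingCat.of B' => q.hom b) (Spec.map_injective (congrArg Over.Hom.left h))

theorem ovMap_comp {B B' B'' : Type u} [CommRing B] [Algebra A B] [CommRing B'] [Algebra A B'] [CommRing B'']
    [Algebra A B''] (φ : B →+* B') (hφ : φ.comp (algebraMap A B) = algebraMap A B') (ψ : B' →+* B'')
    (hψ : ψ.comp (algebraMap A B') = algebraMap A B'') (χ : B →+* B'') (hχ : χ.comp (algebraMap A B) = algebraMap A B'')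
    (h : ψ.comp φ = χ) : ovMap j ψ hψ ≫ ovMap j φ hφ = ovMap j χ hχ := by
  subst h
  refine Over.OverMorphism.ext ?_
  show Spec.map _ ≫ Spec.map _ = Spec.map _
  rw [← Spec.map_comp, ← CommRingCat.ofHom_comp]

include hπ hker sqG in
/-- Based algebras with a map into `G` form a scheme; it is `W d F` over the open piece. -/
theorem exists_wr (hd : 0 < d) : ∃ w : WR G, Nonempty (w.W ≅ ov j (W d F)) := by
  obtain ⟨r, hr⟩ := exists_str₀ (A := A) d (str (A := A) d F)
  let Z0 := (str₀ A d).Carrier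
  let f : ov j Z0 ⟶ ov j (R₀ A d) := ovMap j (algebraMap (R₀ A d) Z0) (IsScalarTower.algebraMap_eq A _ Z0).symm
  let t : ov j (W d F) ⟶ ov j (R₀ A d) := ovMap j r.toRingHom r.comp_algebraMap
  have sqW := isPullback_ovMap j d (str₀ A d) (str d F) r.toRingHom r.comp_algebraMap hr
    (mapHom_algebraMap d _ _ _ r.comp_algebraMap hr)
  let σ : pullback t f ⟶ G := sqW.isoPullback.inv ≫ σW j d π hπ hker ιG sqG
  have hfree : Module.Free (R₀ A d) Z0 := Module.Free.of_basis (str₀ A d).basis
  have hfin : Module.Finite (R₀ A d) Z0 := Module.Finite.of_basis (str₀ A d).basis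
  have hmfp : Module.FinitePresentation (R₀ A d) Z0 := Module.finitePresentation_of_projective _ _
  have hff : Flat f.left := (HasRingHomProperty.Spec_iff (P := @Flat)).2
    (RingHom.flat_algebraMap_iff.2 inferInstance)
  have hfp : LocallyOfFinitePresentation f.left := (HasRingHomProperty.Spec_iff (P := @LocallyOfFinitePresentation)).2
    (RingHom.finitePresentation_algebraMap.2 inferInstance)
  have hfs : Surjective f.left := by
    constructor
    show Function.Surjective (PrimeSpectrum.comap (algebraMap (R₀ A d) Z0))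
    intro p
    have hbot : RingHom.ker (algebraMap (R₀ A d) Z0) ≤ p.asIdeal := fun b hb => by
      have e := congrArg (fun z : Z0 => (str₀ A d).coord (z * (str₀ A d).basis ⟨0, hd⟩) ⟨0, hd⟩) (hb : algebraMap (R₀ A d) Z0 b = 0)
      simp only [zero_mul, map_zero, Pi.zero_apply, ← Algebra.smul_def, map_smul, Pi.smul_apply, smul_eq_mul,
        AlgStr.coord_basis, if_true, mul_one] at e
      rw [e]; exact zero_mem _
    obtain ⟨Q, -, hQ, hQp⟩ := Ideal.exists_ideal_over_prime_of_isIntegral p.asIdeal (⊥ : Ideal Z0) hbot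
    exact ⟨⟨Q, hQ⟩, PrimeSpectrum.ext hQp⟩
  have key : ∀ (B : Type u) [CommRing B] [Algebra A B] (φ₀ : R₀ A d →ₐ[A] B),
      Function.Bijective fun g : {g : ov j B ⟶ ov j (W d F) // g ≫ t = ovMap j φ₀.toRingHom φ₀.comp_algebraMap} =>
        resMap σ _ g.1 g.2 := by
    intro B _ _ φ₀
    let s₀ := (str₀ A d).map φ₀.toRingHom
    have sqT := isPullback_ovMap j d (str₀ A d) s₀ φ₀.toRingHom φ₀.comp_algebraMap rfl
      (mapHom_algebraMap d _ _ _ φ₀.comp_algebraMap rfl)
    have hstr : ∀ φ : W d F →ₐ[A] B,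
        ovMap j φ.toRingHom φ.comp_algebraMap ≫ t = ovMap j φ₀.toRingHom φ₀.comp_algebraMap →
          (str d F).map φ.toRingHom = s₀ := by
      intro φ h
      have : φ.comp r = φ₀ := ovMap_injective j ((ovMap_comp j _ _ _ _ _ _ rfl).symm.trans h)
      subst this
      rw [← hr]
      rfl
    have hres : ∀ (φ : W d F →ₐ[A] B) (h : ovMap j φ.toRingHom φ.comp_algebraMap ≫ t =
        ovMap j φ₀.toRingHom φ₀.comp_algebraMap),
        sqT.isoPullback.hom ≫ resMap σ _ _ h = ptMap j d π hπ hker ιG sqG s₀ φ (hstr φ h) := by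
      intro φ h
      have hstep : (sqT.isoPullback.hom ≫ pullback.lift (pullback.fst _ _ ≫ ovMap j φ.toRingHom φ.comp_algebraMap)
          (pullback.snd _ _) (by rw [Category.assoc, h, pullback.condition])) =
          ovMap j ((str d F).mapHom s₀ φ.toRingHom (hstr φ h))
            (mapHom_algebraMap d _ _ _ φ.comp_algebraMap (hstr φ h)) ≫ sqW.isoPullback.hom := by
        apply pullback.hom_ext
        · simp only [Category.assoc, pullback.lift_fst, IsPullback.isoPullback_hom_fst,
            IsPullback.isoPullback_hom_fst_assoc]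
          refine Over.OverMorphism.ext ?_
          show Spec.map _ ≫ Spec.map _ = Spec.map _ ≫ Spec.map _
          rw [← Spec.map_comp, ← Spec.map_comp, ← CommRingCat.ofHom_comp, ← CommRingCat.ofHom_comp,
            AlgStr.mapHom_comp_algebraMap]
        · simp only [Category.assoc, pullback.lift_snd, IsPullback.isoPullback_hom_snd]
          exact (ovMap_comp j _ _ _ _ _ _ (AlgStr.mapHom_trans hr (hstr φ h) rfl (by
            have : φ.comp r = φ₀ := ovMap_injective j ((ovMap_comp j _ _ _ _ _ _ rfl).symm.trans h)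
            rw [← this]; rfl))).symm
      rw [resMap, ← Category.assoc, hstep, Category.assoc]
      simp only [σ, Iso.hom_inv_id_assoc]
    refine ⟨fun ⟨g, hg⟩ ⟨g', hg'⟩ e => ?_, fun s => ?_⟩
    · obtain ⟨φ, rfl⟩ := exists_ovMap j g
      obtain ⟨φ', rfl⟩ := exists_ovMap j g'
      have e' := congrArg (fun z => sqT.isoPullback.hom ≫ z) e
      simp only at e'
      rw [hres φ hg, hres φ' hg'] at e'
      obtain rfl := pt_injective j d π hπ hker ιG sqG s₀ (hstr φ hg) (hstr φ' hg') e'
      rfl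
    · obtain ⟨φ, hφ, e⟩ := pt_surjective j d π hπ hker ιG sqG s₀ (sqT.isoPullback.hom ≫ s)
      have h : ovMap j φ.toRingHom φ.comp_algebraMap ≫ t = ovMap j φ₀.toRingHom φ₀.comp_algebraMap := by
        have : φ.comp r = φ₀ := str₀_ext d (by
          show ((str₀ A d).map r.toRingHom).map φ.toRingHom = s₀
          rw [hr]; exact hφ)
        exact ovMap_comp j _ _ _ _ _ _ (congrArg AlgHom.toRingHom this)
      refine ⟨⟨_, h⟩, ?_⟩
      rw [← cancel_epi sqT.isoPullback.hom, hres φ h]
      exact e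
  refine ⟨{ R := ov j (R₀ A d), Z := ov j Z0, f := f, flat := hff, lfp := hfp, surj := hfs, W := ov j (W d F),
            t := t, σ := σ, univ := ?_ }, ⟨Iso.refl _⟩⟩
  intro T t'
  refine bijective_of_affine σ (fun B T hT t' => ?_) t'
  obtain ⟨T₀, _, h⟩ := T
  obtain rfl : T₀ = Spec B := hT
  obtain ⟨φ₁, hφ₁⟩ := Spec.map_surjective t'.left
  letI : Algebra A B := (φ₁.hom.comp (algebraMap A (R₀ A d))).toAlgebra
  let φ₀ : R₀ A d →ₐ[A] B := { φ₁.hom with commutes' := fun a => rfl }
  obtain rfl : h = Spec.map (CommRingCat.ofHom (algebraMap A B)) ≫ j := by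
    refine (Over.w t').symm.trans ?_
    show t'.left ≫ Spec.map _ ≫ j = _
    rw [← Category.assoc, ← hφ₁, ← Spec.map_comp]
    rfl
  obtain rfl : t' = ovMap j φ₀.toRingHom φ₀.comp_algebraMap := Over.OverMorphism.ext hφ₁.symm
  exact key B φ₀

end Groth.Agent.ArtinBoot49
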