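import Groth.Prelude.Def_AlgSt5
import Groth.Prelude.Def_AlgSt6

/-!
# Schemes over `S` as sheaves over the terminal sheaf
-/

set_option autoImplicit false
set_option backward.isDefEq.respectTransparency false
set_option backward.isDefEq.respectTransparency.types false

universe u

open CategoryTheory CategoryTheory.Limits MonoidalCategory CartesianMonoidalCategory AlgebraicGeometry AlgSp

namespace Groth.Agent.ArtinBoot49

variable {S : Scheme.{u}}

/-- The terminal sheaf, as a representable sheaf. -/
noncomputable abbrev base₀ (S : Scheme.{u}) : Sp S := (yon S).obj (𝟙_ (Over S))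

/-- A scheme over `S` as a sheaf over the terminal sheaf. -/
noncomputable def toB₀ (S : Scheme.{u}) : Over S ⥤ Over (base₀ S) where
  obj X := Over.mk ((yon S).map (toUnit X))
  map f := Over.homMk ((yon S).map f) (by
    show (yon S).map f ≫ (yon S).map _ = (yon S).map _
    rw [← Functor.map_comp]; congr 1; exact toUnit_unique _ _)

instance : (toB₀ S).Faithful := ⟨fun h => (yon S).map_injective (congrArg CommaMorphism.left h)⟩

instance : (toB₀ S).Full :=
  ⟨fun g => ⟨(yon S).preimage g.left, Over.OverMorphism.ext ((yon S).map_preimage g.left)⟩⟩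

theorem toB₀_map_isPullback {P X Y Z : Over S} {a : P ⟶ X} {b : P ⟶ Y} {f : X ⟶ Z} {g : Y ⟶ Z}
    (h : IsPullback a b f g) :
    IsPullback ((toB₀ S).map a) ((toB₀ S).map b) ((toB₀ S).map f) ((toB₀ S).map g) :=
  IsPullback.of_map (Over.forget (base₀ S)) ((toB₀ S).map_commSq h.toCommSq).w (h.map (yon S))

instance : PreservesLimitsOfShape WalkingCospan (toB₀ S) :=
  ⟨fun {K} => by
    have : PreservesLimit (cospan (K.map WalkingCospan.Hom.inl) (K.map WalkingCospan.Hom.inr)) (toB₀ S) :=
      preservesLimit_of_preserves_limit_cone (pullbackIsPullback (K.map WalkingCospan.Hom.inl) (K.map WalkingCospan.Hom.inr))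
        ((isLimitMapConePullbackConeEquiv (toB₀ S) pullback.condition).symm
          (toB₀_map_isPullback (IsPullback.of_hasPullback _ _)).isLimit)
    exact preservesLimit_of_iso_diagram _ (diagramIsoCospan K).symm⟩

noncomputable instance : PreservesLimit (Functor.empty.{0} (Over S)) (toB₀ S) := by
  refine preservesTerminal_of_iso (toB₀ S) ?_
  have ht : IsTerminal ((toB₀ S).obj (𝟙_ (Over S))) := by
    refine IsTerminal.ofIso (Over.mkIdTerminal (X := base₀ S)) (eqToIso ?_)
    show Over.mk (𝟙 _) = Over.mk _
    rw [toUnit_unique (toUnit (𝟙_ (Over S))) (𝟙 _), CategoryTheory.Functor.map_id]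
  exact (toB₀ S).mapIso (terminalIsTerminal.uniqueUpToIso isTerminalTensorUnit) ≪≫
    ht.uniqueUpToIso terminalIsTerminal

instance : PreservesFiniteProducts (toB₀ S) := by
  have := preservesLimitsOfShape_pempty_of_preservesTerminal (toB₀ S)
  have := preservesBinaryProducts_of_preservesTerminal_and_pullbacks (toB₀ S)
  exact PreservesFiniteProducts.of_preserves_binary_and_terminal _

noncomputable instance : (toB₀ S).Monoidal := Functor.Monoidal.ofChosenFiniteProducts _

/-- Maps of schemes to the terminal object, as sheaf maps. -/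
theorem toB₀_base_unique {T : Over S} (b : (yon S).obj T ⟶ base₀ S) : b = (yon S).map (toUnit T) := by
  obtain ⟨g, rfl⟩ := (yon S).map_surjective b
  rw [toUnit_unique g (toUnit T)]

theorem μ_toB₀_map_fst (X Y : Over S) :
    Functor.LaxMonoidal.μ (toB₀ S) X Y ≫ (toB₀ S).map (fst X Y) = fst _ _ :=
  Functor.Monoidal.μ_fst (toB₀ S) X Y

theorem μ_toB₀_map_snd (X Y : Over S) :
    Functor.LaxMonoidal.μ (toB₀ S) X Y ≫ (toB₀ S).map (snd X Y) = snd _ _ :=
  Functor.Monoidal.μ_snd (toB₀ S) X Y

end Groth.Agent.ArtinBoot49
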